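import Cfsg.Agent.Lib.Helper46.Amalgam

set_option autoImplicit false

namespace Cfsg.Agent.Lib.Helper46

open Cfsg
open scoped commutatorElement

variable {X : Type*} [Group X] {M₁ M₂ : Subgroup X} {p : ℕ}

/-! ### `Ω₁(Z(T))` and `Z_H` -/

/-- `Ω₁(Z(T))`, in the form used by the Prelude. -/
abbrev omegaZ (p : ℕ) (T : Subgroup X) : Subgroup X :=
  omegaOne p (T ⊓ Subgroup.centralizer (T : Set X))

theorem omegaOne_le (H : Subgroup X) : omegaOne p H ≤ H := by
  unfold omegaOne
  rw [Subgroup.closure_le]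
  intro x hx
  exact hx.1

theorem omegaOne_mono {H K : Subgroup X} (h : H ≤ K) : omegaOne p H ≤ omegaOne p K := by
  unfold omegaOne
  apply Subgroup.closure_mono
  intro x hx
  exact ⟨h hx.1, hx.2⟩

theorem omegaOne_map_le (H : Subgroup X) (φ : X ≃* X) :
    (omegaOne p H).map φ.toMonoidHom ≤ omegaOne p (H.map φ.toMonoidHom) := by
  unfold omegaOne
  rw [MonoidHom.map_closure, Subgroup.closure_le]
  rintro _ ⟨x, ⟨hx, hxp⟩, rfl⟩
  apply Subgroup.subset_closure
  refine ⟨⟨x, hx, rfl⟩, ?_⟩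
  show (φ x) ^ p = 1
  rw [← map_pow, hxp, map_one]

theorem centralizer_map_le (T : Subgroup X) (φ : X ≃* X) :
    (Subgroup.centralizer (T : Set X)).map φ.toMonoidHom ≤
      Subgroup.centralizer ((T.map φ.toMonoidHom : Subgroup X) : Set X) := by
  rintro _ ⟨c, hc, rfl⟩
  rw [Subgroup.mem_centralizer_iff]
  rintro _ ⟨t, ht, rfl⟩
  have := (Subgroup.mem_centralizer_iff.mp hc) t ht
  show φ t * φ c = φ c * φ t
  rw [← map_mul, ← map_mul, this]

theorem omegaZ_map_le (T : Subgroup X) (φ : X ≃* X) :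
    (omegaZ p T).map φ.toMonoidHom ≤ omegaZ p (T.map φ.toMonoidHom) := by
  refine (omegaOne_map_le _ φ).trans (omegaOne_mono ?_)
  rw [Subgroup.map_inf_eq _ _ _ φ.injective]
  exact inf_le_inf le_rfl (centralizer_map_le T φ)

theorem omegaZ_le_sylowCenterClosure {T H : Subgroup X} (hT : IsSylIn p T H) :
    omegaZ p T ≤ sylowCenterClosure p H := by
  obtain ⟨S, rfl⟩ := hT
  unfold sylowCenterClosure
  exact le_iSup (fun S : Sylow p H => omegaOne p (((S : Subgroup H).map H.subtype) ⊓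
      Subgroup.centralizer (((S : Subgroup H).map H.subtype : Subgroup X) : Set X))) S

theorem sylowCenterClosure_le_iff {H K : Subgroup X} :
    sylowCenterClosure p H ≤ K ↔ ∀ T, IsSylIn p T H → omegaZ p T ≤ K := by
  constructor
  · intro h T hT
    exact (omegaZ_le_sylowCenterClosure hT).trans h
  · intro h
    unfold sylowCenterClosure
    apply iSup_le
    intro S
    exact h _ ⟨S, rfl⟩

theorem omegaZ_le_pCoreOf {T H : Subgroup X} (hc : CharPProp p H) (hT : IsSylIn p T H) :
    omegaZ p T ≤ pCoreOf p H := by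
  refine (omegaOne_le _).trans ?_
  rintro x ⟨hxT, hxC⟩
  apply hc
  refine ⟨hT.le hxT, ?_⟩
  exact Subgroup.centralizer_le (pCoreOf_le_of_isSylIn hT) hxC

theorem sylowCenterClosure_le_pCoreOf {H : Subgroup X} (hc : CharPProp p H) :
    sylowCenterClosure p H ≤ pCoreOf p H :=
  sylowCenterClosure_le_iff.mpr (fun _ hT => omegaZ_le_pCoreOf hc hT)

theorem sylowCenterClosure_le (H : Subgroup X) : sylowCenterClosure p H ≤ H :=
  sylowCenterClosure_le_iff.mpr (fun _ hT => (omegaOne_le _).trans (inf_le_left.trans hT.le))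

theorem le_normalizer_sylowCenterClosure (H : Subgroup X) :
    H ≤ Subgroup.normalizer (sylowCenterClosure p H : Set X) := by
  apply le_normalizer_of_map_conj_le
  intro h hh
  unfold sylowCenterClosure
  rw [Subgroup.map_iSup]
  apply iSup_le
  intro S
  refine (omegaZ_map_le _ _).trans ?_
  apply omegaZ_le_sylowCenterClosure
  have h1 : IsSylIn p ((S : Subgroup H).map H.subtype) H := ⟨S, rfl⟩
  have h2 := h1.map (MulAut.conj h)
  rwa [map_conj_eq_self_of_mem hh] at h2

/-! ### a distance lemma -/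

theorem exists_adj_dist_eq {V : Type*} {G : SimpleGraph V} (hconn : G.Connected) {u v : V} {n : ℕ}
    (hd : G.dist u v = n + 1) : ∃ w, G.Adj u w ∧ G.dist w v = n := by
  obtain ⟨w, hw⟩ := hconn.exists_walk_length_eq_dist u v
  rw [hd] at hw
  cases w with
  | nil => simp at hw
  | cons hadj q =>
    rename_i w'
    refine ⟨w', hadj, ?_⟩
    simp only [SimpleGraph.Walk.length_cons, add_left_inj] at hw
    apply le_antisymm
    · rw [← hw]; exact SimpleGraph.dist_le q
    · have h1 := hconn.dist_triangle (u := u) (v := w') (w := v)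
      have h2 : G.dist u w' = 1 := SimpleGraph.dist_eq_one_iff_adj.mpr hadj
      omega

/-! ### critical pairs -/

theorem criticalDistance_le {δ μ : CosetVertex M₁ M₂}
    (h : ¬ vertexZ p δ ≤ neighbourKernel μ) :
    criticalDistance p M₁ M₂ ≤ (cosetGraph M₁ M₂).dist δ μ :=
  Nat.sInf_le ⟨δ, μ, rfl, h⟩

theorem vertexZ_le_of_dist_lt {δ μ : CosetVertex M₁ M₂}
    (h : (cosetGraph M₁ M₂).dist δ μ < criticalDistance p M₁ M₂) :
    vertexZ p δ ≤ neighbourKernel μ := by
  by_contra hcon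
  exact absurd (criticalDistance_le hcon) (not_le.mpr h)

theorem neighbourKernel_le_stab {δ μ : CosetVertex M₁ M₂} (hadj : (cosetGraph M₁ M₂).Adj δ μ) :
    neighbourKernel δ ≤ MulAction.stabilizer X μ := by
  unfold neighbourKernel
  refine inf_le_right.trans ?_
  exact iInf₂_le (f := fun μ _ => MulAction.stabilizer X μ) μ hadj

theorem neighbourKernel_le_stab_self (δ : CosetVertex M₁ M₂) :
    neighbourKernel δ ≤ MulAction.stabilizer X δ := inf_le_left

section charp

variable [Fact p.Prime] (h : IsCharPAmalgamPair p M₁ M₂)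
include h

omit [Fact p.Prime] in
theorem vertexZ_le_vertexQ (δ : CosetVertex M₁ M₂) : vertexZ p δ ≤ vertexQ p δ :=
  sylowCenterClosure_le_pCoreOf (vertex_charp h δ)

theorem vertexZ_le_neighbourKernel_self (δ : CosetVertex M₁ M₂) :
    vertexZ p δ ≤ neighbourKernel δ :=
  (vertexZ_le_vertexQ h δ).trans (vertexQ_le_neighbourKernel h δ)

omit [Fact p.Prime] in
theorem cg_connected_of_charp : (cosetGraph M₁ M₂).Connected := cg_connected h.1.1

theorem criticalDistance_pos {α α' : CosetVertex M₁ M₂} (hc : IsCriticalPair p α α') :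
    0 < criticalDistance p M₁ M₂ := by
  rw [← hc.2]
  apply (cg_connected_of_charp h).pos_dist_of_ne
  rintro rfl
  exact hc.1 (vertexZ_le_neighbourKernel_self h α)

/-- For a critical pair there is a neighbour `β` of `α` one step closer to `α'`. -/
theorem exists_adj_closer {α α' : CosetVertex M₁ M₂} (hc : IsCriticalPair p α α') :
    ∃ β, (cosetGraph M₁ M₂).Adj α β ∧
      (cosetGraph M₁ M₂).dist β α' + 1 = criticalDistance p M₁ M₂ := by
  have hpos := criticalDistance_pos h hc
  obtain ⟨n, hn⟩ : ∃ n, criticalDistance p M₁ M₂ = n + 1 := ⟨_, (Nat.succ_pred_eq_of_pos hpos).symm⟩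
  have hd : (cosetGraph M₁ M₂).dist α α' = n + 1 := by rw [hc.2, hn]
  obtain ⟨β, hadj, hβ⟩ := exists_adj_dist_eq (cg_connected_of_charp h) hd
  exact ⟨β, hadj, by rw [hβ, hn]⟩

theorem exists_adj_closer' {α α' : CosetVertex M₁ M₂} (hc : IsCriticalPair p α α') :
    ∃ β', (cosetGraph M₁ M₂).Adj α' β' ∧
      (cosetGraph M₁ M₂).dist α β' + 1 = criticalDistance p M₁ M₂ := by
  have hpos := criticalDistance_pos h hc
  obtain ⟨n, hn⟩ : ∃ n, criticalDistance p M₁ M₂ = n + 1 := ⟨_, (Nat.succ_pred_eq_of_pos hpos).symm⟩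
  have hd : (cosetGraph M₁ M₂).dist α' α = n + 1 := by rw [SimpleGraph.dist_comm, hc.2, hn]
  obtain ⟨β, hadj, hβ⟩ := exists_adj_dist_eq (cg_connected_of_charp h) hd
  exact ⟨β, hadj, by rw [SimpleGraph.dist_comm, hβ, hn]⟩

omit [Fact p.Prime] h in
theorem commutator_le_inf_of_normalize' {A B : Subgroup X}
    (hA : B ≤ Subgroup.normalizer (A : Set X)) (hB : A ≤ Subgroup.normalizer (B : Set X)) :
    ⁅A, B⁆ ≤ A ⊓ B := by
  rw [Subgroup.commutator_le]
  intro a ha b hb
  constructor
  · have h1 : b * a⁻¹ * b⁻¹ ∈ A := (Subgroup.mem_normalizer_iff.mp (hA hb) a⁻¹).mp (A.inv_mem ha)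
    have : ⁅a, b⁆ = a * (b * a⁻¹ * b⁻¹) := by rw [commutatorElement_def]; group
    rw [this]
    exact A.mul_mem ha h1
  · have h1 : a * b * a⁻¹ ∈ B := (Subgroup.mem_normalizer_iff.mp (hB ha) b).mp hb
    have : ⁅a, b⁆ = (a * b * a⁻¹) * b⁻¹ := by rw [commutatorElement_def]
    rw [this]
    exact B.mul_mem h1 (B.inv_mem hb)

/-- S2747 -/
theorem critical_pair_basic (α α' : CosetVertex M₁ M₂) (hc : IsCriticalPair p α α') :
    vertexZ p α' ≤ MulAction.stabilizer X α ∧ vertexZ p α ≤ MulAction.stabilizer X α' ∧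
      ⁅vertexZ p α, vertexZ p α'⁆ ≤ vertexZ p α ⊓ vertexZ p α' := by
  obtain ⟨β, hβadj, hβd⟩ := exists_adj_closer h hc
  obtain ⟨β', hβ'adj, hβ'd⟩ := exists_adj_closer' h hc
  have h1 : vertexZ p α' ≤ MulAction.stabilizer X α := by
    have hlt : (cosetGraph M₁ M₂).dist α' β < criticalDistance p M₁ M₂ := by
      rw [SimpleGraph.dist_comm]; omega
    exact (vertexZ_le_of_dist_lt hlt).trans (neighbourKernel_le_stab hβadj.symm)
  have h2 : vertexZ p α ≤ MulAction.stabilizer X α' := by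
    have hlt : (cosetGraph M₁ M₂).dist α β' < criticalDistance p M₁ M₂ := by omega
    exact (vertexZ_le_of_dist_lt hlt).trans (neighbourKernel_le_stab hβ'adj.symm)
  refine ⟨h1, h2, ?_⟩
  apply commutator_le_inf_of_normalize'
  · exact h1.trans (le_normalizer_sylowCenterClosure _)
  · exact h2.trans (le_normalizer_sylowCenterClosure _)

end charp

end Cfsg.Agent.Lib.Helper46
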