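import Cfsg.Prelude.Def_Amalgam

set_option autoImplicit false

namespace Cfsg.Agent.Lib.Helper46

open Cfsg

/-! ### Facts about `pCore` -/

section pcore

variable {G : Type*} [Group G] {p : ℕ}

theorem pCore_isPGroup : IsPGroup p (pCore p G) :=
  Sylow.sSup_of_normal _ (fun _ h => h.2) (fun _ h => h.1)

theorem pCore_normal : (pCore p G).Normal :=
  Subgroup.sSup_normal _ (fun _ h => h.1)

theorem pCore_le_sylow (P : Sylow p G) : pCore p G ≤ P := by
  have : (pCore p G).Normal := pCore_normal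
  exact (pCore_isPGroup (G := G) (p := p)).le_sylow_of_normal P

theorem le_pCore {N : Subgroup G} (hN : N.Normal) (hp : IsPGroup p N) : N ≤ pCore p G :=
  le_sSup ⟨hN, hp⟩

theorem pCore_map_le {H : Type*} [Group H] (e : G ≃* H) :
    (pCore p G).map e.toMonoidHom ≤ pCore p H := by
  apply le_pCore
  · exact (pCore_normal (G := G) (p := p)).map e.toMonoidHom e.surjective
  · exact (pCore_isPGroup (G := G) (p := p)).map e.toMonoidHom

theorem pCore_map_equiv {H : Type*} [Group H] (e : G ≃* H) :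
    (pCore p G).map e.toMonoidHom = pCore p H := by
  apply le_antisymm (pCore_map_le e)
  have h2 := pCore_map_le (p := p) e.symm
  intro x hx
  have h3 : e.symm x ∈ pCore p G := h2 (Subgroup.mem_map_of_mem _ hx)
  have h4 := Subgroup.mem_map_of_mem e.toMonoidHom h3
  simpa using h4

end pcore

/-! ### Ambient-level Sylow subgroups of a subgroup -/

section sylin

variable {X : Type*} [Group X] {p : ℕ}

/-- `T` is (the image in `X` of) a Sylow `p`-subgroup of the subgroup `H`. -/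
def IsSylIn (p : ℕ) (T H : Subgroup X) : Prop :=
  ∃ S : Sylow p ↥H, T = (S : Subgroup ↥H).map H.subtype

theorem isSylIn_iff (T H : Subgroup X) :
    IsSylIn p T H ↔ T ≤ H ∧ IsPGroup p T ∧
      ∀ Q : Subgroup X, IsPGroup p Q → T ≤ Q → Q ≤ H → Q = T := by
  constructor
  · rintro ⟨S, rfl⟩
    refine ⟨Subgroup.map_subtype_le _, S.isPGroup'.map _, ?_⟩
    intro Q hQ hTQ hQH
    have h1 : (S : Subgroup ↥H) ≤ Q.subgroupOf H := by
      intro s hs
      rw [Subgroup.mem_subgroupOf]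
      exact hTQ (Subgroup.mem_map_of_mem _ hs)
    have h2 : IsPGroup p (Q.subgroupOf H) := hQ.comap_subtype
    have h3 : Q.subgroupOf H = S := S.is_maximal' h2 h1
    rw [← h3, Subgroup.map_subgroupOf_eq_of_le hQH]
  · rintro ⟨hTH, hT, hmax⟩
    have h2 : IsPGroup p (T.subgroupOf H) := hT.comap_subtype
    obtain ⟨S, hS⟩ := h2.exists_le_sylow
    refine ⟨S, ?_⟩
    symm
    apply hmax
    · exact S.isPGroup'.map _
    · intro t ht
      exact ⟨⟨t, hTH ht⟩, hS (by rw [Subgroup.mem_subgroupOf]; exact ht), rfl⟩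
    · exact Subgroup.map_subtype_le _

theorem IsSylIn.le {T H : Subgroup X} (h : IsSylIn p T H) : T ≤ H := ((isSylIn_iff T H).mp h).1

theorem IsSylIn.isPGroup {T H : Subgroup X} (h : IsSylIn p T H) : IsPGroup p T :=
  ((isSylIn_iff T H).mp h).2.1

theorem IsSylIn.map {T H : Subgroup X} (h : IsSylIn p T H) (φ : X ≃* X) :
    IsSylIn p (T.map φ.toMonoidHom) (H.map φ.toMonoidHom) := by
  rw [isSylIn_iff] at h ⊢
  obtain ⟨hTH, hT, hmax⟩ := h
  refine ⟨Subgroup.map_mono hTH, hT.map _, ?_⟩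
  intro Q hQ hTQ hQH
  have h1 : Q.map φ.symm.toMonoidHom = T := by
    apply hmax
    · exact hQ.map _
    · intro t ht
      refine ⟨φ t, hTQ (Subgroup.mem_map_of_mem _ ht), ?_⟩
      simp
    · intro x hx
      obtain ⟨q, hq, rfl⟩ := hx
      obtain ⟨h', hh', rfl⟩ := hQH hq
      simpa using hh'
  rw [← h1]
  ext x
  simp [Subgroup.mem_map]

theorem pCoreOf_le (H : Subgroup X) : pCoreOf p H ≤ H := Subgroup.map_subtype_le _

theorem pCoreOf_isPGroup (H : Subgroup X) : IsPGroup p (pCoreOf p H) :=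
  (pCore_isPGroup (G := ↥H) (p := p)).map _

theorem pCoreOf_le_of_isSylIn {T H : Subgroup X} (h : IsSylIn p T H) : pCoreOf p H ≤ T := by
  obtain ⟨S, rfl⟩ := h
  exact Subgroup.map_mono (pCore_le_sylow S)

theorem pCoreOf_map' (H : Subgroup X) (φ : X ≃* X) :
    pCoreOf p (H.map (φ : X →* X)) = (pCoreOf p H).map (φ : X →* X) := by
  unfold pCoreOf
  have h0 : Subgroup.map ((φ.subgroupMap H : ↥H ≃* ↥(H.map (φ : X →* X))) : ↥H →* ↥(H.map (φ : X →* X)))
      (pCore p ↥H) = pCore p ↥(H.map (φ : X →* X)) := pCore_map_equiv (p := p) (φ.subgroupMap H)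
  rw [← h0]
  ext x
  simp only [Subgroup.mem_map]
  constructor
  · rintro ⟨y, ⟨z, hz, rfl⟩, rfl⟩
    exact ⟨z, ⟨z, hz, rfl⟩, rfl⟩
  · rintro ⟨y, ⟨z, hz, rfl⟩, rfl⟩
    exact ⟨φ.subgroupMap H z, ⟨z, hz, rfl⟩, rfl⟩

theorem pCoreOf_map (H : Subgroup X) (φ : X ≃* X) :
    pCoreOf p (H.map φ.toMonoidHom) = (pCoreOf p H).map φ.toMonoidHom :=
  pCoreOf_map' H φ

/-- `H` normalizes `O_p(H)`. -/
theorem le_normalizer_pCoreOf (H : Subgroup X) :
    H ≤ Subgroup.normalizer (pCoreOf p H : Set X) := by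
  intro h hh
  rw [Subgroup.mem_normalizer_iff]
  have hn : (pCore p ↥H).Normal := pCore_normal
  intro x
  constructor
  · rintro ⟨y, hy, rfl⟩
    exact ⟨⟨h, hh⟩ * y * ⟨h, hh⟩⁻¹, hn.conj_mem y hy ⟨h, hh⟩, rfl⟩
  · rintro ⟨y, hy, hyx⟩
    refine ⟨⟨h, hh⟩⁻¹ * y * ⟨h, hh⟩, ?_, ?_⟩
    · have := hn.conj_mem y hy ⟨h, hh⟩⁻¹
      simpa using this
    · simp only [Subgroup.subtype_apply, Subgroup.coe_mul, Subgroup.coe_inv] at hyx ⊢
      rw [hyx]; group

end sylin

end Cfsg.Agent.Lib.Helper46
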