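import Cfsg.Prelude.Def_Amalgam

set_option autoImplicit false

namespace Cfsg.Agent.Lib.Helper46

open Cfsg

variable {X : Type*} [Group X] {M₁ M₂ : Subgroup X}

theorem cg_adj_iff (a b : CosetVertex M₁ M₂) :
    (cosetGraph M₁ M₂).Adj a b ↔
      (∃ x : X, a = Sum.inl (x : X ⧸ M₁) ∧ b = Sum.inr (x : X ⧸ M₂)) ∨
      (∃ x : X, b = Sum.inl (x : X ⧸ M₁) ∧ a = Sum.inr (x : X ⧸ M₂)) := by
  unfold cosetGraph
  rw [SimpleGraph.fromRel_adj]
  constructor
  · rintro ⟨_, h⟩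
    exact h
  · intro h
    refine ⟨?_, h⟩
    rcases h with ⟨x, rfl, rfl⟩ | ⟨x, rfl, rfl⟩
    · exact Sum.inl_ne_inr
    · exact Sum.inr_ne_inl

theorem cg_adj_inl_inr (x : X) :
    (cosetGraph M₁ M₂).Adj (Sum.inl (x : X ⧸ M₁)) (Sum.inr (x : X ⧸ M₂)) := by
  rw [cg_adj_iff]
  exact Or.inl ⟨x, rfl, rfl⟩

theorem cg_adj_inr_inl (x : X) :
    (cosetGraph M₁ M₂).Adj (Sum.inr (x : X ⧸ M₂)) (Sum.inl (x : X ⧸ M₁)) :=
  (cg_adj_inl_inr x).symm

theorem cg_smul_inl (g x : X) :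
    g • (Sum.inl (x : X ⧸ M₁) : CosetVertex M₁ M₂) = Sum.inl ((g * x : X) : X ⧸ M₁) := rfl

theorem cg_smul_inr (g x : X) :
    g • (Sum.inr (x : X ⧸ M₂) : CosetVertex M₁ M₂) = Sum.inr ((g * x : X) : X ⧸ M₂) := rfl

theorem cg_adj_smul (g : X) {a b : CosetVertex M₁ M₂} (h : (cosetGraph M₁ M₂).Adj a b) :
    (cosetGraph M₁ M₂).Adj (g • a) (g • b) := by
  rw [cg_adj_iff] at h ⊢
  rcases h with ⟨x, rfl, rfl⟩ | ⟨x, rfl, rfl⟩
  · exact Or.inl ⟨g * x, rfl, rfl⟩
  · exact Or.inr ⟨g * x, rfl, rfl⟩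

theorem cg_adj_smul_iff (g : X) (a b : CosetVertex M₁ M₂) :
    (cosetGraph M₁ M₂).Adj (g • a) (g • b) ↔ (cosetGraph M₁ M₂).Adj a b := by
  constructor
  · intro h
    have := cg_adj_smul g⁻¹ h
    simpa using this
  · exact cg_adj_smul g

/-- Every vertex has the form `inl x` or `inr x`. -/
theorem cg_vertex_cases (v : CosetVertex M₁ M₂) :
    (∃ x : X, v = Sum.inl (x : X ⧸ M₁)) ∨ (∃ x : X, v = Sum.inr (x : X ⧸ M₂)) := by
  rcases v with a | b
  · obtain ⟨x, rfl⟩ := QuotientGroup.mk_surjective a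
    exact Or.inl ⟨x, rfl⟩
  · obtain ⟨x, rfl⟩ := QuotientGroup.mk_surjective b
    exact Or.inr ⟨x, rfl⟩

/-- The stabilizer of a vertex is transitive on the neighbours of that vertex. -/
theorem cg_stab_trans_nbrs (δ μ μ' : CosetVertex M₁ M₂)
    (hμ : (cosetGraph M₁ M₂).Adj δ μ) (hμ' : (cosetGraph M₁ M₂).Adj δ μ') :
    ∃ g ∈ MulAction.stabilizer X δ, g • μ = μ' := by
  rw [cg_adj_iff] at hμ hμ'
  rcases hμ with ⟨x, rfl, rfl⟩ | ⟨x, rfl, rfl⟩
  · rcases hμ' with ⟨y, hy, rfl⟩ | ⟨y, hy, hy'⟩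
    · refine ⟨y * x⁻¹, ?_, ?_⟩
      · rw [MulAction.mem_stabilizer_iff, cg_smul_inl, hy]
        simp
      · rw [cg_smul_inr]; simp
    · exact absurd hy' (by simp)
  · rcases hμ' with ⟨y, hy, hy'⟩ | ⟨y, rfl, hy⟩
    · exact absurd hy (by simp)
    · refine ⟨y * x⁻¹, ?_, ?_⟩
      · rw [MulAction.mem_stabilizer_iff, cg_smul_inr, hy]
        simp
      · rw [cg_smul_inl]; simp

theorem cg_reachable_inl_inr (x : X) :
    (cosetGraph M₁ M₂).Reachable (Sum.inl (x : X ⧸ M₁)) (Sum.inr (x : X ⧸ M₂)) :=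
  (cg_adj_inl_inr x).reachable

theorem cg_connected (hgen : M₁ ⊔ M₂ = ⊤) : (cosetGraph M₁ M₂).Connected := by
  have key : ∀ x : X, (cosetGraph M₁ M₂).Reachable
      (Sum.inl ((1 : X) : X ⧸ M₁)) (Sum.inl (x : X ⧸ M₁)) := by
    intro x
    have hx : x ∈ Subgroup.closure ((M₁ : Set X) ∪ (M₂ : Set X)) := by
      rw [Subgroup.closure_union, Subgroup.closure_eq, Subgroup.closure_eq, hgen]
      exact Subgroup.mem_top x
    induction hx using Subgroup.closure_induction_right with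
    | one => exact SimpleGraph.Reachable.refl _
    | mul_right y _ m hm ih =>
      rcases hm with hm | hm
      · have : ((y * m : X) : X ⧸ M₁) = (y : X ⧸ M₁) := by
          rw [QuotientGroup.eq]; simpa using hm
        rw [this]; exact ih
      · have h2 : ((y * m : X) : X ⧸ M₂) = (y : X ⧸ M₂) := by
          rw [QuotientGroup.eq]; simpa using hm
        have r1 := ih.trans (cg_reachable_inl_inr (M₁ := M₁) (M₂ := M₂) y)
        rw [← h2] at r1
        exact r1.trans (cg_reachable_inl_inr (M₁ := M₁) (M₂ := M₂) (y * m)).symm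
    | mul_inv_cancel y _ m hm ih =>
      rcases hm with hm | hm
      · have : ((y * m⁻¹ : X) : X ⧸ M₁) = (y : X ⧸ M₁) := by
          rw [QuotientGroup.eq]; simpa using hm
        rw [this]; exact ih
      · have h2 : ((y * m⁻¹ : X) : X ⧸ M₂) = (y : X ⧸ M₂) := by
          rw [QuotientGroup.eq]; simpa using hm
        have r1 := ih.trans (cg_reachable_inl_inr (M₁ := M₁) (M₂ := M₂) y)
        rw [← h2] at r1
        exact r1.trans (cg_reachable_inl_inr (M₁ := M₁) (M₂ := M₂) (y * m⁻¹)).symm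
  have key' : ∀ v : CosetVertex M₁ M₂, (cosetGraph M₁ M₂).Reachable
      (Sum.inl ((1 : X) : X ⧸ M₁)) v := by
    intro v
    rcases cg_vertex_cases v with ⟨x, rfl⟩ | ⟨x, rfl⟩
    · exact key x
    · exact (key x).trans (cg_reachable_inl_inr x)
  have : Nonempty (CosetVertex M₁ M₂) := ⟨Sum.inl ((1 : X) : X ⧸ M₁)⟩
  rw [SimpleGraph.connected_iff]
  refine ⟨fun a b => (key' a).symm.trans (key' b), inferInstance⟩

end Cfsg.Agent.Lib.Helper46

namespace Cfsg.Agent.Lib.Helper46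

open Cfsg

variable {X : Type*} [Group X] {M₁ M₂ : Subgroup X}

theorem cg_stab_mk (M : Subgroup X) (x : X) :
    MulAction.stabilizer X (x : X ⧸ M) = M.map (MulAut.conj x).toMonoidHom := by
  ext g
  rw [MulAction.mem_stabilizer_iff, Subgroup.mem_map]
  constructor
  · intro h
    rw [MulAction.Quotient.smul_coe, smul_eq_mul, QuotientGroup.eq] at h
    refine ⟨x⁻¹ * g * x, ?_, ?_⟩
    · have := M.inv_mem h
      simpa [mul_assoc] using this
    · simp [mul_assoc]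
  · rintro ⟨m, hm, rfl⟩
    rw [MulAction.Quotient.smul_coe, smul_eq_mul, QuotientGroup.eq]
    simp [mul_assoc]
    exact hm

theorem cg_stab_inl (x : X) :
    MulAction.stabilizer X (Sum.inl (x : X ⧸ M₁) : CosetVertex M₁ M₂) =
      M₁.map (MulAut.conj x).toMonoidHom := by
  rw [← cg_stab_mk]
  ext g
  simp [MulAction.mem_stabilizer_iff]

theorem cg_stab_inr (x : X) :
    MulAction.stabilizer X (Sum.inr (x : X ⧸ M₂) : CosetVertex M₁ M₂) =
      M₂.map (MulAut.conj x).toMonoidHom := by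
  rw [← cg_stab_mk]
  ext g
  simp [MulAction.mem_stabilizer_iff]

theorem cg_stab_inl_one :
    MulAction.stabilizer X (Sum.inl ((1 : X) : X ⧸ M₁) : CosetVertex M₁ M₂) = M₁ := by
  rw [cg_stab_inl]
  ext g
  simp

theorem cg_stab_inr_one :
    MulAction.stabilizer X (Sum.inr ((1 : X) : X ⧸ M₂) : CosetVertex M₁ M₂) = M₂ := by
  rw [cg_stab_inr]
  ext g
  simp

/-- The action on the coset graph is faithful when `M₁ ⊓ M₂` has trivial normal core. -/
theorem cg_faithful (h : ∀ N : Subgroup X, N ≤ M₁ ⊓ M₂ → N.Normal → N = ⊥) :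
    Function.Injective (MulAction.toPermHom X (CosetVertex M₁ M₂)) := by
  rw [← MonoidHom.ker_eq_bot_iff]
  apply h
  · intro g hg
    rw [MonoidHom.mem_ker] at hg
    have h1 : g • (Sum.inl ((1 : X) : X ⧸ M₁) : CosetVertex M₁ M₂) = Sum.inl ((1 : X) : X ⧸ M₁) := by
      have := congrArg (fun σ => σ (Sum.inl ((1 : X) : X ⧸ M₁) : CosetVertex M₁ M₂)) hg
      simpa using this
    have h2 : g • (Sum.inr ((1 : X) : X ⧸ M₂) : CosetVertex M₁ M₂) = Sum.inr ((1 : X) : X ⧸ M₂) := by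
      have := congrArg (fun σ => σ (Sum.inr ((1 : X) : X ⧸ M₂) : CosetVertex M₁ M₂)) hg
      simpa using this
    rw [← MulAction.mem_stabilizer_iff] at h1 h2
    rw [cg_stab_inl_one] at h1
    rw [cg_stab_inr_one] at h2
    exact ⟨h1, h2⟩
  · exact MonoidHom.normal_ker _

end Cfsg.Agent.Lib.Helper46
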