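import Mathlib
import Cfsg.Prelude.Def_TwoFusion

/-!
# Isolated involutions: elementary group theory (for Glauberman's Z*-theorem)
-/

set_option autoImplicit false

namespace Cfsg.Agent.Lib.Helper46.ZStar

open Cfsg

variable {G : Type*} [Group G]

/-- an element with `u * u = 1` -/
theorem inv_eq_self_of_mul_self {u : G} (hu : u * u = 1) : u⁻¹ = u :=
  inv_eq_of_mul_eq_one_right hu

theorem mul_self_of_orderOf_two {u : G} (hu : orderOf u = 2) : u * u = 1 := by
  rw [← pow_two, ← hu, pow_orderOf_eq_one]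

theorem ne_one_of_orderOf_two {u : G} (hu : orderOf u = 2) : u ≠ 1 := by
  intro h
  rw [h, orderOf_one] at hu
  omega

/-- an involution `u` inverts `u * v` for an involution `v` -/
theorem conj_mul_invol {u v : G} (hu : u * u = 1) (hv : v * v = 1) :
    u * (u * v) * u⁻¹ = (u * v)⁻¹ := by
  rw [inv_eq_self_of_mul_self hu, mul_inv_rev, inv_eq_self_of_mul_self hu,
    inv_eq_self_of_mul_self hv]
  calc u * (u * v) * u = (u * u) * v * u := by group
    _ = v * u := by rw [hu, one_mul]

theorem conj_zpow_invol {u v : G} (hu : u * u = 1) (hv : v * v = 1) (k : ℤ) :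
    u * (u * v) ^ k * u⁻¹ = (u * v) ^ (-k) := by
  have h := conj_mul_invol hu hv
  have h2 : u * (u * v) ^ k * u⁻¹ = (u * (u * v) * u⁻¹) ^ k := by
    rw [conj_zpow]
  rw [h2, h, inv_zpow, zpow_neg]

/-- `r^k u r^{-k} = u r^{-2k}` for `r = u v` -/
theorem zpow_conj_invol {u v : G} (hu : u * u = 1) (hv : v * v = 1) (k : ℤ) :
    (u * v) ^ k * u * ((u * v) ^ k)⁻¹ = u * (u * v) ^ (-(2 * k)) := by
  have h := conj_zpow_invol hu hv (-k)
  rw [neg_neg] at h
  -- h : u * r^(-k) * u⁻¹ = r^k
  have h3 : (u * v) ^ k * u = u * (u * v) ^ (-k) := by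
    rw [← h]
    have : u⁻¹ * u = 1 := inv_mul_cancel u
    calc u * (u * v) ^ (-k) * u⁻¹ * u = u * (u * v) ^ (-k) * (u⁻¹ * u) := by group
      _ = u * (u * v) ^ (-k) := by rw [this, mul_one]
  rw [h3, mul_assoc, ← zpow_neg, ← zpow_add]
  congr 2
  ring

/-- `r^k v r^{-k} = u r^{1-2k}` for `r = u v` -/
theorem zpow_conj_invol' {u v : G} (hu : u * u = 1) (hv : v * v = 1) (k : ℤ) :
    (u * v) ^ k * v * ((u * v) ^ k)⁻¹ = u * (u * v) ^ (1 - 2 * k) := by
  have hv' : v = u * (u * v) := by
    rw [← mul_assoc, hu, one_mul]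
  have h := zpow_conj_invol hu hv k
  calc (u * v) ^ k * v * ((u * v) ^ k)⁻¹
      = (u * v) ^ k * (u * (u * v)) * ((u * v) ^ k)⁻¹ := by rw [← hv']
    _ = ((u * v) ^ k * u * ((u * v) ^ k)⁻¹) * ((u * v) ^ k * (u * v) * ((u * v) ^ k)⁻¹) := by
        group
    _ = u * (u * v) ^ (-(2 * k)) * (u * v) := by
        rw [h]
        congr 1
        have : Commute ((u * v) ^ k) (u * v) := (Commute.refl (u * v)).zpow_left k
        rw [this.eq, mul_assoc, mul_inv_cancel, mul_one]
    _ = u * (u * v) ^ (1 - 2 * k) := by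
        rw [mul_assoc, ← zpow_add_one]
        congr 2
        ring


/-- the conjugate `g u g⁻¹` of an involution is an involution -/
theorem conj_mul_self {u : G} (hu : u * u = 1) (g : G) :
    (g * u * g⁻¹) * (g * u * g⁻¹) = 1 := by
  calc (g * u * g⁻¹) * (g * u * g⁻¹) = g * (u * u) * g⁻¹ := by group
    _ = 1 := by rw [hu, mul_one, mul_inv_cancel]

/-- **Lemma B.** If `u` is an isolated involution and `v` is a conjugate of `u`, then `u * v` has
odd order (finite order assumed). -/
theorem isolated_odd {u : G} (hu : IsIsolatedInvolution u) (g : G)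
    (hfin : 0 < orderOf (u * (g * u * g⁻¹))) : Odd (orderOf (u * (g * u * g⁻¹))) := by
  have hu2 : u * u = 1 := mul_self_of_orderOf_two hu.1
  set v := g * u * g⁻¹ with hv
  have hv2 : v * v = 1 := conj_mul_self hu2 g
  set r := u * v with hr
  by_contra hodd
  rw [Nat.not_odd_iff_even] at hodd
  obtain ⟨m, hm⟩ := hodd
  have hm0 : 0 < m := by omega
  -- the involution i = r^m
  have hi1 : r ^ m ≠ 1 := by
    intro h
    have := orderOf_dvd_of_pow_eq_one h
    have := Nat.le_of_dvd hm0 this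
    omega
  have hi2 : r ^ m * r ^ m = 1 := by
    rw [← pow_add, ← hm, pow_orderOf_eq_one]
  have hiinv : (r ^ m)⁻¹ = r ^ m := inv_eq_self_of_mul_self hi2
  -- u commutes with i
  have hci : u * r ^ m * u⁻¹ = r ^ m := by
    have := conj_zpow_invol hu2 hv2 (m : ℤ)
    rw [zpow_neg, zpow_natCast] at this
    rw [this, hiinv]
  have hcomm : Commute u (u * r ^ m) := by
    have h1 : u * r ^ m = r ^ m * u := by
      calc u * r ^ m = u * r ^ m * u⁻¹ * u := by group
        _ = r ^ m * u := by rw [hci]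
    show u * (u * r ^ m) = u * r ^ m * u
    rw [mul_assoc, h1]
  -- u * i is a conjugate of u
  have hconj : ∃ h : G, h * u * h⁻¹ = u * r ^ m := by
    rcases Nat.even_or_odd' m with ⟨j, hj | hj⟩
    · -- m = 2j : conjugate u by r^(-j)
      refine ⟨r ^ (-(j : ℤ)), ?_⟩
      have := zpow_conj_invol hu2 hv2 (-(j : ℤ))
      rw [this]
      congr 1
      rw [← zpow_natCast]
      congr 1
      omega
    · -- m = 2j+1 : conjugate v by r^(-j)
      refine ⟨r ^ (-(j : ℤ)) * g, ?_⟩
      have := zpow_conj_invol' hu2 hv2 (-(j : ℤ))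
      calc r ^ (-(j : ℤ)) * g * u * (r ^ (-(j : ℤ)) * g)⁻¹
          = r ^ (-(j : ℤ)) * (g * u * g⁻¹) * (r ^ (-(j : ℤ)))⁻¹ := by group
        _ = u * r ^ (1 - 2 * (-(j : ℤ))) := this
        _ = u * r ^ m := by
            congr 1
            rw [← zpow_natCast]
            congr 1
            omega
  obtain ⟨h, hh⟩ := hconj
  have := hu.2 h (by rw [hh]; exact hcomm)
  rw [hh] at this
  exact hi1 (mul_left_cancel (this.trans (mul_one u).symm))

/-- **Lemma C.** Two involutions whose product has odd order are conjugate by a power of the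
product. -/
theorem exists_zpow_conj_of_odd {u v : G} (hu : u * u = 1) (hv : v * v = 1)
    (hodd : Odd (orderOf (u * v))) :
    ∃ k : ℤ, (u * v) ^ k * u * ((u * v) ^ k)⁻¹ = v := by
  obtain ⟨j, hj⟩ := hodd
  refine ⟨(j : ℤ), ?_⟩
  rw [zpow_conj_invol hu hv]
  have hv' : v = u * (u * v) := by rw [← mul_assoc, hu, one_mul]
  conv_rhs => rw [hv']
  congr 1
  have h1 : (u * v) ^ ((2 * j + 1 : ℕ) : ℤ) = 1 := by
    rw [zpow_natCast, ← hj, pow_orderOf_eq_one]
  calc (u * v) ^ (-(2 * (j : ℤ))) = (u * v) ^ (-(2 * (j : ℤ))) * 1 := (mul_one _).symm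
    _ = (u * v) ^ (-(2 * (j : ℤ))) * (u * v) ^ ((2 * j + 1 : ℕ) : ℤ) := by rw [h1]
    _ = (u * v) ^ (1 : ℤ) := by
        rw [← zpow_add]
        congr 1
        push_cast
        ring
    _ = u * v := zpow_one _

/-- **Lemma D.** An isolated involution is the only one of its conjugates in any 2-subgroup
containing it. -/
theorem isolated_eq_of_mem_pgroup [Finite G] {u : G} (hu : IsIsolatedInvolution u) (g : G)
    (Q : Subgroup G) (hQ : IsPGroup 2 Q) (huQ : u ∈ Q) (hgQ : g * u * g⁻¹ ∈ Q) :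
    g * u * g⁻¹ = u := by
  have hu2 : u * u = 1 := mul_self_of_orderOf_two hu.1
  have hodd := isolated_odd hu g (orderOf_pos _)
  have hrQ : u * (g * u * g⁻¹) ∈ Q := Q.mul_mem huQ hgQ
  obtain ⟨k, hk⟩ := hQ ⟨_, hrQ⟩
  have hk' : (u * (g * u * g⁻¹)) ^ 2 ^ k = 1 := by
    have := congrArg Subtype.val hk
    simpa using this
  have hdvd := orderOf_dvd_of_pow_eq_one hk'
  have h1 : orderOf (u * (g * u * g⁻¹)) = 1 := by
    have hcop : Nat.Coprime (orderOf (u * (g * u * g⁻¹))) (2 ^ k) :=
      Nat.Coprime.pow_right k (Nat.coprime_two_right.mpr hodd)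
    exact Nat.eq_one_of_dvd_coprimes hcop (dvd_refl _) hdvd
  rw [orderOf_eq_one_iff] at h1
  have : g * u * g⁻¹ = u⁻¹ := eq_inv_of_mul_eq_one_right h1
  rw [this, inv_eq_self_of_mul_self hu2]

/-- **Lemma F.** Isolation passes to subgroups. -/
theorem isolated_subgroup {u : G} (hu : IsIsolatedInvolution u) (H : Subgroup G) (huH : u ∈ H) :
    IsIsolatedInvolution (⟨u, huH⟩ : H) := by
  refine ⟨?_, ?_⟩
  · rw [← hu.1]
    exact Subgroup.orderOf_mk u huH
  · intro h hc
    apply Subtype.ext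
    have := hu.2 (h : G) (by
      have := congrArg Subtype.val hc.eq
      simpa [Commute, SemiconjBy] using this)
    simpa using this

/-- **Lemma G.** Isolation passes to quotients in which the involution survives. -/
theorem isolated_quotient [Finite G] {u : G} (hu : IsIsolatedInvolution u) (N : Subgroup G)
    [N.Normal] (huN : u ∉ N) : IsIsolatedInvolution (QuotientGroup.mk u : G ⧸ N) := by
  have hu2 : u * u = 1 := mul_self_of_orderOf_two hu.1
  have hbar2 : (QuotientGroup.mk u : G ⧸ N) * QuotientGroup.mk u = 1 := by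
    rw [← QuotientGroup.mk_mul, hu2, QuotientGroup.mk_one]
  refine ⟨?_, ?_⟩
  · apply orderOf_eq_prime
    · rw [pow_two]; exact hbar2
    · intro h
      exact huN ((QuotientGroup.eq_one_iff u).mp h)
  · intro gbar hc
    obtain ⟨g, rfl⟩ := QuotientGroup.mk_surjective gbar
    have hodd := isolated_odd hu g (orderOf_pos _)
    set v := g * u * g⁻¹ with hv
    have hv2 : v * v = 1 := conj_mul_self hu2 g
    have hvbar : (QuotientGroup.mk g : G ⧸ N) * QuotientGroup.mk u * (QuotientGroup.mk g)⁻¹ =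
        QuotientGroup.mk v := by
      simp [hv]
    rw [hvbar] at hc ⊢
    have hvbar2 : (QuotientGroup.mk v : G ⧸ N) * QuotientGroup.mk v = 1 := by
      rw [← QuotientGroup.mk_mul, hv2, QuotientGroup.mk_one]
    -- rbar^2 = 1 and rbar^odd = 1
    have hr2 : (QuotientGroup.mk (u * v) : G ⧸ N) ^ 2 = 1 := by
      rw [QuotientGroup.mk_mul, pow_two]
      calc (QuotientGroup.mk u : G ⧸ N) * QuotientGroup.mk v * (QuotientGroup.mk u * QuotientGroup.mk v)
          = QuotientGroup.mk u * (QuotientGroup.mk v * QuotientGroup.mk u) * QuotientGroup.mk v := by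
            group
        _ = QuotientGroup.mk u * (QuotientGroup.mk u * QuotientGroup.mk v) * QuotientGroup.mk v := by
            rw [hc.eq]
        _ = (QuotientGroup.mk u * QuotientGroup.mk u) * (QuotientGroup.mk v * QuotientGroup.mk v) := by
            group
        _ = 1 := by rw [hbar2, hvbar2, one_mul]
    have hrn : (QuotientGroup.mk (u * v) : G ⧸ N) ^ orderOf (u * v) = 1 := by
      rw [← QuotientGroup.mk_pow, pow_orderOf_eq_one, QuotientGroup.mk_one]
    have h1 : (QuotientGroup.mk (u * v) : G ⧸ N) = 1 := by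
      have hd2 := orderOf_dvd_of_pow_eq_one hr2
      have hdn := orderOf_dvd_of_pow_eq_one hrn
      have hcop : Nat.Coprime 2 (orderOf (u * v)) := Nat.coprime_two_left.mpr hodd
      have := Nat.eq_one_of_dvd_coprimes hcop hd2 hdn
      exact orderOf_eq_one_iff.mp this
    rw [QuotientGroup.mk_mul] at h1
    have : (QuotientGroup.mk v : G ⧸ N) = (QuotientGroup.mk u)⁻¹ := eq_inv_of_mul_eq_one_right h1
    rw [this, inv_eq_self_of_mul_self hbar2]


/-- Isolation is invariant under conjugation. -/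
theorem isolated_conj {u : G} (hu : IsIsolatedInvolution u) (h : G) :
    IsIsolatedInvolution (h * u * h⁻¹) := by
  refine ⟨?_, ?_⟩
  · rw [← hu.1]
    have := orderOf_injective (MulAut.conj h).toMonoidHom (MulAut.conj h).injective u
    simpa using this
  · intro g hc
    have key : h⁻¹ * g * h * u * (h⁻¹ * g * h)⁻¹ = u := by
      apply hu.2
      have e2 : h⁻¹ * g * h * u * (h⁻¹ * g * h)⁻¹ = h⁻¹ * (g * (h * u * h⁻¹) * g⁻¹) * h := by
        group
      rw [e2]
      show u * (h⁻¹ * (g * (h * u * h⁻¹) * g⁻¹) * h) = h⁻¹ * (g * (h * u * h⁻¹) * g⁻¹) * h * u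
      calc u * (h⁻¹ * (g * (h * u * h⁻¹) * g⁻¹) * h)
          = h⁻¹ * ((h * u * h⁻¹) * (g * (h * u * h⁻¹) * g⁻¹)) * h := by group
        _ = h⁻¹ * ((g * (h * u * h⁻¹) * g⁻¹) * (h * u * h⁻¹)) * h := by rw [hc.eq]
        _ = h⁻¹ * (g * (h * u * h⁻¹) * g⁻¹) * h * u := by group
    calc g * (h * u * h⁻¹) * g⁻¹ = h * (h⁻¹ * g * h * u * (h⁻¹ * g * h)⁻¹) * h⁻¹ := by group
      _ = h * u * h⁻¹ := by rw [key]

/-- **Lemma E.** The hypothesis of S0215 (`u` is the only conjugate of `u` in the Sylow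
2-subgroup `P`) makes `u` an isolated involution. -/
theorem isolated_of_sylow [Finite G] (P : Sylow 2 G) (u : G) (hu : orderOf u = 2)
    (hiso : ∀ g : G, g * u * g⁻¹ ∈ P → g * u * g⁻¹ = u) : IsIsolatedInvolution u := by
  have hu2 : u * u = 1 := mul_self_of_orderOf_two hu
  refine ⟨hu, ?_⟩
  intro g hc
  set v := g * u * g⁻¹ with hv
  have hv2 : v * v = 1 := conj_mul_self hu2 g
  -- `⟨u⟩ ⊔ ⟨v⟩` is a 2-group
  have hpu : IsPGroup 2 (Subgroup.zpowers u) := by
    apply IsPGroup.of_card (n := 1)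
    rw [Nat.card_zpowers, hu, pow_one]
  have hov : orderOf v = 2 := by
    rw [← hu]
    have := orderOf_injective (MulAut.conj g).toMonoidHom (MulAut.conj g).injective u
    simpa [hv] using this
  have hpv : IsPGroup 2 (Subgroup.zpowers v) := by
    apply IsPGroup.of_card (n := 1)
    rw [Nat.card_zpowers, hov, pow_one]
  have hnorm : Subgroup.zpowers u ≤ Subgroup.normalizer (Subgroup.zpowers v : Set G) := by
    rw [Subgroup.zpowers_le]
    rw [Subgroup.mem_normalizer_iff]
    intro x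
    have hux : ∀ x ∈ Subgroup.zpowers v, u * x * u⁻¹ = x := by
      intro x hx
      obtain ⟨k, rfl⟩ := Subgroup.mem_zpowers_iff.mp hx
      have : Commute u (v ^ k) := hc.zpow_right k
      rw [this.eq, mul_assoc, mul_inv_cancel, mul_one]
    constructor
    · intro hx
      rw [hux x hx]; exact hx
    · intro hx
      have h1 := hux _ hx
      have h2 : u⁻¹ * (u * x * u⁻¹) * u = x := by group
      have h3 : u * (u * x * u⁻¹) * u⁻¹ = u * x * u⁻¹ := h1
      -- conjugating back
      have h4 : x = u⁻¹ * (u * x * u⁻¹) * u := h2.symm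
      rw [h4]
      have h5 : u⁻¹ * (u * x * u⁻¹) * u = u * (u * x * u⁻¹) * u⁻¹ := by
        rw [inv_eq_self_of_mul_self hu2]
      rw [h5, h3]
      exact hx
  have hpK : IsPGroup 2 (Subgroup.zpowers u ⊔ Subgroup.zpowers v : Subgroup G) :=
    IsPGroup.to_sup_of_normal_right' hpu hpv hnorm
  obtain ⟨Q, hQ⟩ := hpK.exists_le_sylow
  obtain ⟨h, hh⟩ := MulAction.exists_smul_eq G Q P
  -- h • Q = P
  have huQ : u ∈ (Q : Subgroup G) :=
    hQ (Subgroup.mem_sup_left (Subgroup.mem_zpowers u))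
  have hvQ : v ∈ (Q : Subgroup G) :=
    hQ (Subgroup.mem_sup_right (Subgroup.mem_zpowers v))
  have hmem : ∀ x ∈ (Q : Subgroup G), h * x * h⁻¹ ∈ (P : Subgroup G) := by
    intro x hx
    rw [← hh, Sylow.smul_def, Sylow.pointwise_smul_def]
    have : h * x * h⁻¹ = MulAut.conj h • x := by
      rw [MulAut.smul_def, MulAut.conj_apply]
    rw [this, Subgroup.smul_mem_pointwise_smul_iff]
    exact hx
  have h1 := hiso h (hmem u huQ)
  have h2 : h * g * u * (h * g)⁻¹ = u := by
    have : h * g * u * (h * g)⁻¹ = h * v * h⁻¹ := by rw [hv]; group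
    rw [this] at *
    have := hiso (h * g) (by
      have e : h * g * u * (h * g)⁻¹ = h * v * h⁻¹ := by rw [hv]; group
      rw [e]; exact hmem v hvQ)
    rw [← this]; rw [hv]; group
  have h3 : h * v * h⁻¹ = h * u * h⁻¹ := by
    rw [h1, ← h2, hv]; group
  calc v = h⁻¹ * (h * v * h⁻¹) * h := by group
    _ = h⁻¹ * (h * u * h⁻¹) * h := by rw [h3]
    _ = u := by group

/-- An isolated involution is central in every 2-subgroup containing it. -/
theorem isolated_commute_of_mem_pgroup [Finite G] {u : G} (hu : IsIsolatedInvolution u)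
    (Q : Subgroup G) (hQ : IsPGroup 2 Q) (huQ : u ∈ Q) (x : G) (hx : x ∈ Q) : x * u = u * x := by
  have := isolated_eq_of_mem_pgroup hu x Q hQ huQ (Q.mul_mem (Q.mul_mem hx huQ) (Q.inv_mem hx))
  calc x * u = x * u * x⁻¹ * x := by group
    _ = u * x := by rw [this]

end Cfsg.Agent.Lib.Helper46.ZStar
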