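import Mathlib
import Cfsg.Prelude.Def_TwoFusion
import Cfsg.Prelude.Def_CaseTheorems
import Cfsg.Agent.Lib.Helper46.ZStar1
import Cfsg.Agent.Lib.Helper55.Cores
import Cfsg.Agent.Lib.Helper55.Cores2
import Cfsg.Agent.Lib.Helper97.Cores

/-!
# Glauberman's Z*-theorem: the group-theoretic reductions
-/

set_option autoImplicit false

namespace Cfsg.Agent.Lib.Helper46.ZStar

open Cfsg

universe u

/-- The conclusion of the Z*-theorem for a group `H`. -/
def ZS (H : Type u) [Group H] : Prop :=
  ∀ z : H, IsIsolatedInvolution z → ∀ g : H, z * g * z⁻¹ * g⁻¹ ∈ oddCore H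

/-- The induction hypothesis: Z* holds for all groups of smaller order in the same universe. -/
def IHyp (G : Type u) [Group G] : Prop :=
  ∀ (H : Type u) [Group H] [Finite H], Nat.card H < Nat.card G → ZS H

variable {G : Type u} [Group G] [Finite G]

theorem not_mem_of_odd_card {z : G} (hz : orderOf z = 2) (N : Subgroup G)
    (hN : Odd (Nat.card N)) : z ∉ N := by
  intro h
  have h1 : orderOf (⟨z, h⟩ : N) = 2 := by rw [Subgroup.orderOf_mk]; exact hz
  have h2 : orderOf (⟨z, h⟩ : N) ∣ Nat.card N := orderOf_dvd_natCard _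
  rw [h1] at h2
  exact (Nat.not_even_iff_odd.mpr hN) (even_iff_two_dvd.mpr h2)

/-- **Step 1.** If `O(G) ≠ 1`, the theorem for `G` follows from that for `G / O(G)`. -/
theorem zs_of_oddCore_ne_bot (IH : IHyp G) (hO : oddCore G ≠ ⊥) : ZS G := by
  intro z hz g
  have hn : (oddCore G).Normal := Cfsg.Agent.Lib.Helper55.pPrimeCore_normal' 2
  have hodd : Odd (Nat.card (oddCore G)) := Cfsg.Agent.Lib.Helper97.odd_card_oddCore
  have hzN : z ∉ oddCore G := not_mem_of_odd_card hz.1 _ hodd
  have hcard : Nat.card (G ⧸ oddCore G) < Nat.card G := by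
    have h1 : Nat.card G = Nat.card (G ⧸ oddCore G) * Nat.card (oddCore G) :=
      Subgroup.card_eq_card_quotient_mul_card_subgroup _
    have h2 : 1 < Nat.card (oddCore G) := by
      rw [Subgroup.one_lt_card_iff_ne_bot]
      exact hO
    have h3 : 0 < Nat.card (G ⧸ oddCore G) := Nat.card_pos
    rw [h1]
    nlinarith
  have hiso := isolated_quotient hz (oddCore G) hzN
  have := IH (G ⧸ oddCore G) hcard _ hiso (QuotientGroup.mk g)
  have hbot : oddCore (G ⧸ oddCore G) = ⊥ :=
    Cfsg.Agent.Lib.Helper55.pPrimeCore_quotient_pPrimeCore 2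
  rw [hbot, Subgroup.mem_bot] at this
  have h2 : (QuotientGroup.mk (z * g * z⁻¹ * g⁻¹) : G ⧸ oddCore G) = 1 := by
    rw [← this]
    simp
  exact (QuotientGroup.eq_one_iff _).mp h2

/-- **Step 2.** If `O(G) = 1` and `⟨z^G⟩ ≠ G` then `z` is central. -/
theorem central_of_normalClosure_ne_top (IH : IHyp G) (hO : oddCore G = ⊥) {z : G}
    (hz : IsIsolatedInvolution z) (hH : Subgroup.normalClosure ({z} : Set G) ≠ ⊤) (g : G) :
    z * g = g * z := by
  set H := Subgroup.normalClosure ({z} : Set G) with hHdef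
  have hzH : z ∈ H := Subgroup.subset_normalClosure (Set.mem_singleton z)
  have hcard : Nat.card H < Nat.card G := by
    have h1 : Nat.card H ∣ Nat.card G := Subgroup.card_subgroup_dvd_card H
    have h2 : Nat.card H ≠ Nat.card G := by
      intro h
      exact hH (Subgroup.card_eq_iff_eq_top H |>.mp h)
    exact lt_of_le_of_ne (Nat.le_of_dvd Nat.card_pos h1) h2
  have hisoH := isolated_subgroup hz H hzH
  have hbot : oddCore H = ⊥ := Cfsg.Agent.Lib.Helper55.pPrimeCore_eq_bot_of_normal 2 H hO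
  -- z commutes with the conjugate g z g⁻¹ ∈ H
  have hv : g * z * g⁻¹ ∈ H := by
    have : H.Normal := Subgroup.normalClosure_normal
    exact this.conj_mem z hzH g
  have := IH H hcard _ hisoH ⟨g * z * g⁻¹, hv⟩
  rw [hbot, Subgroup.mem_bot] at this
  have h1 : z * (g * z * g⁻¹) * z⁻¹ * (g * z * g⁻¹)⁻¹ = 1 := by
    have := congrArg Subtype.val this
    simpa using this
  have hc : Commute z (g * z * g⁻¹) := by
    show z * (g * z * g⁻¹) = g * z * g⁻¹ * z
    calc z * (g * z * g⁻¹) = z * (g * z * g⁻¹) * z⁻¹ * (g * z * g⁻¹)⁻¹ * (g * z * g⁻¹) * z := by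
          group
      _ = g * z * g⁻¹ * z := by rw [h1, one_mul]
  have h2 := hz.2 g hc
  calc z * g = (g * z * g⁻¹) * g := by rw [h2]
    _ = g * z := by group

end Cfsg.Agent.Lib.Helper46.ZStar
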