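import Mathlib
import Cfsg.Agent.Lib.Helper46.ZStar2

/-!
# Glauberman's Z*-theorem: central involutions (Step 3)
-/

set_option autoImplicit false

namespace Cfsg.Agent.Lib.Helper46.ZStar

open Cfsg

universe u

variable {G : Type u} [Group G] [Finite G]

omit [Finite G] in
theorem mem_zpowers_invol {c x : G} (hc : c * c = 1) (hx : x ∈ Subgroup.zpowers c) :
    x = 1 ∨ x = c := by
  obtain ⟨k, rfl⟩ := Subgroup.mem_zpowers_iff.mp hx
  have hc2 : c ^ (2 : ℤ) = 1 := by
    rw [zpow_ofNat, pow_two]; exact hc
  rcases Int.even_or_odd' k with ⟨j, hj | hj⟩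
  · left
    rw [hj, zpow_mul, hc2, one_zpow]
  · right
    rw [hj, zpow_add, zpow_mul, hc2, one_zpow, one_mul, zpow_one]

omit [Finite G] in
theorem zpowers_normal_of_mem_center {c : G} (hc : c ∈ Subgroup.center G) :
    (Subgroup.zpowers c).Normal := by
  constructor
  intro x hx g
  have hxc : x ∈ Subgroup.center G := by
    have : Subgroup.zpowers c ≤ Subgroup.center G := by
      rw [Subgroup.zpowers_le]; exact hc
    exact this hx
  have : g * x * g⁻¹ = x := by
    have h := Subgroup.mem_center_iff.mp hxc g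
    rw [h, mul_assoc, mul_inv_cancel, mul_one]
  rw [this]; exact hx

/-- A normal subgroup `N` of order `2m` (`m` odd) containing a central involution of `G`: the
odd-order elements of `N` lie in a normal subgroup of `G` of odd order. -/
theorem exists_normal_odd_of_card_two_mul (N : Subgroup G) [hNn : N.Normal] (m : ℕ)
    (hm : Odd m) (hN : Nat.card N = 2 * m) (c : G) (hc : orderOf c = 2) (hcN : c ∈ N)
    (hcc : c ∈ Subgroup.center G) :
    ∃ K : Subgroup G, K.Normal ∧ Odd (Nat.card K) ∧ ∀ x ∈ N, Odd (orderOf x) → x ∈ K := by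
  classical
  have hle : Subgroup.zpowers c ≤ N := by rw [Subgroup.zpowers_le]; exact hcN
  set Z' : Subgroup N := (Subgroup.zpowers c).subgroupOf N with hZ'
  have hZn : Z'.Normal := by
    have := zpowers_normal_of_mem_center hcc
    exact Subgroup.Normal.subgroupOf this N
  have hZcard : Nat.card Z' = 2 := by
    rw [hZ', Nat.card_congr (Subgroup.subgroupOfEquivOfLe hle).toEquiv, Nat.card_zpowers, hc]
  have hZidx : Z'.index = m := by
    have := Z'.card_mul_index
    rw [hZcard, hN] at this
    omega
  have hcop : Nat.Coprime (Nat.card Z') Z'.index := by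
    rw [hZcard, hZidx]
    exact Nat.coprime_two_left.mpr hm
  obtain ⟨H, hH⟩ := Subgroup.exists_right_complement'_of_coprime hcop
  have hHcard : Nat.card H = m := by
    have := hH.card_mul_card
    rw [hZcard, hN] at this
    omega
  have hHidx : H.index = 2 := by
    rw [hH.index_eq_card, hZcard]
  have hmemH : ∀ x : N, Odd (orderOf x) → x ∈ H := by
    intro x hx
    obtain ⟨j, hj⟩ := hx
    have h2 : x ^ 2 ∈ H := Subgroup.sq_mem_of_index_two hHidx x
    have h3 : (x ^ 2) ^ (j + 1) ∈ H := H.pow_mem h2 _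
    have h4 : (x ^ 2) ^ (j + 1) = x := by
      rw [← pow_mul]
      have : 2 * (j + 1) = orderOf x + 1 := by omega
      rw [this, pow_succ, pow_orderOf_eq_one, one_mul]
    rw [h4] at h3
    exact h3
  have hHodd : ∀ x : N, x ∈ H → Odd (orderOf x) := by
    intro x hx
    have h1 : orderOf (⟨x, hx⟩ : H) ∣ Nat.card H := orderOf_dvd_natCard _
    rw [Subgroup.orderOf_mk, hHcard] at h1
    exact Odd.of_dvd_nat hm h1
  refine ⟨H.map N.subtype, ?_, ?_, ?_⟩
  · constructor
    intro y hy g
    obtain ⟨x, hxH, rfl⟩ := Subgroup.mem_map.mp hy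
    have hmem : g * (x : G) * g⁻¹ ∈ N := hNn.conj_mem _ x.2 g
    refine Subgroup.mem_map.mpr ⟨⟨g * (x : G) * g⁻¹, hmem⟩, ?_, rfl⟩
    apply hmemH
    have h1 : orderOf (⟨g * (x : G) * g⁻¹, hmem⟩ : N) = orderOf (x : G) := by
      rw [Subgroup.orderOf_mk]
      have := orderOf_injective (MulAut.conj g).toMonoidHom (MulAut.conj g).injective (x : G)
      simpa using this
    rw [h1, Subgroup.orderOf_coe]
    exact hHodd x hxH
  · rw [Subgroup.card_map_of_injective N.subtype_injective, hHcard]
    exact hm
  · intro x hxN hx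
    refine Subgroup.mem_map.mpr ⟨⟨x, hxN⟩, ?_, rfl⟩
    apply hmemH
    rw [Subgroup.orderOf_mk]
    exact hx

/-- **Step 3a.** If `O(G) = 1` and `G` has a central involution, an isolated involution is
central. -/
theorem central_of_central_involution (IH : IHyp G) (hO : oddCore G = ⊥) {z : G}
    (hz : IsIsolatedInvolution z) (i : G) (hi : orderOf i = 2) (hic : i ∈ Subgroup.center G)
    (g : G) : z * g = g * z := by
  by_cases hzi : z = i
  · rw [hzi]
    exact (Subgroup.mem_center_iff.mp hic g).symm
  have hi2 : i * i = 1 := mul_self_of_orderOf_two hi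
  have hz2 : z * z = 1 := mul_self_of_orderOf_two hz.1
  have hZn : (Subgroup.zpowers i).Normal := zpowers_normal_of_mem_center hic
  have hZcard : Nat.card (Subgroup.zpowers i) = 2 := by rw [Nat.card_zpowers, hi]
  have hGcard : Nat.card G = Nat.card (G ⧸ Subgroup.zpowers i) * 2 := by
    rw [← hZcard]
    exact Subgroup.card_eq_card_quotient_mul_card_subgroup _
  have hcard : Nat.card (G ⧸ Subgroup.zpowers i) < Nat.card G := by
    have : 0 < Nat.card (G ⧸ Subgroup.zpowers i) := Nat.card_pos
    omega
  have hzZ : z ∉ Subgroup.zpowers i := by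
    intro h
    rcases mem_zpowers_invol hi2 h with h1 | h1
    · exact ne_one_of_orderOf_two hz.1 h1
    · exact hzi h1
  have hiso := isolated_quotient hz (Subgroup.zpowers i) hzZ
  have hIH := IH (G ⧸ Subgroup.zpowers i) hcard _ hiso
  set π := QuotientGroup.mk' (Subgroup.zpowers i) with hπ
  have hsurj : Function.Surjective π := QuotientGroup.mk'_surjective _
  set Kbar := oddCore (G ⧸ Subgroup.zpowers i) with hKbar
  have hKn : Kbar.Normal := Cfsg.Agent.Lib.Helper55.pPrimeCore_normal' 2
  have hKodd : Odd (Nat.card Kbar) := Cfsg.Agent.Lib.Helper97.odd_card_oddCore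
  set N := Kbar.comap π with hNdef
  have hNn : N.Normal := Subgroup.Normal.comap hKn π
  have hNcard : Nat.card N = 2 * Nat.card Kbar := by
    have h1 : N.index = Kbar.index := Subgroup.index_comap_of_surjective Kbar hsurj
    have h2 := N.card_mul_index
    have h3 := Kbar.card_mul_index
    rw [h1] at h2
    have h4 : Kbar.index ≠ 0 := Subgroup.index_ne_zero_of_finite
    have h5 : Nat.card N * Kbar.index = (2 * Nat.card Kbar) * Kbar.index := by
      rw [h2, hGcard, ← h3]; ring
    exact Nat.eq_of_mul_eq_mul_right (Nat.pos_of_ne_zero h4) h5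
  have hiN : i ∈ N := by
    rw [hNdef, Subgroup.mem_comap]
    have : π i = 1 := by
      rw [hπ, QuotientGroup.mk'_apply, QuotientGroup.eq_one_iff]
      exact Subgroup.mem_zpowers i
    rw [this]; exact Subgroup.one_mem _
  obtain ⟨K, hKnorm, hKcard, hKmem⟩ :=
    exists_normal_odd_of_card_two_mul N (Nat.card Kbar) hKodd hNcard i hi hiN hic
  have hKbot : K = ⊥ := by
    have := Cfsg.Agent.Lib.Helper97.le_oddCore_of_normal_of_odd hKnorm hKcard
    rw [hO] at this
    exact le_bot_iff.mp this
  -- the commutator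
  have hr : z * g * z⁻¹ * g⁻¹ = z * (g * z * g⁻¹) := by
    rw [inv_eq_self_of_mul_self hz2]; group
  have hrN : z * g * z⁻¹ * g⁻¹ ∈ N := by
    rw [hNdef, Subgroup.mem_comap]
    have := hIH (π g)
    have e : π (z * g * z⁻¹ * g⁻¹) = π z * π g * (π z)⁻¹ * (π g)⁻¹ := by
      simp
    rw [e]
    exact this
  have hrodd : Odd (orderOf (z * g * z⁻¹ * g⁻¹)) := by
    rw [hr]
    exact isolated_odd hz g (orderOf_pos _)
  have := hKmem _ hrN hrodd
  rw [hKbot, Subgroup.mem_bot] at this
  calc z * g = z * g * z⁻¹ * g⁻¹ * g * z := by group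
    _ = g * z := by rw [this, one_mul]

end Cfsg.Agent.Lib.Helper46.ZStar
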