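import Mathlib
import Cfsg.Agent.Lib.Helper46.ZStar3
import Cfsg.Agent.Lib.Helper51.UniqueOrderP
import Cfsg.Agent.S0219

/-!
# Glauberman's Z*-theorem: Sylow 2-subgroups with a unique involution
-/

set_option autoImplicit false

namespace Cfsg.Agent.Lib.Helper46.ZStar

open Cfsg

universe u

/-- The Brauer–Suzuki theorem (statement S0201) for all groups in the universe `u`. -/
def BSHyp : Prop :=
  ∀ (H : Type u) [Group H] [Finite H] (S : Sylow 2 H) (n : ℕ),
    Nonempty ((S : Subgroup H) ≃* QuaternionGroup (2 ^ (n + 1))) →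
    (∀ N : Subgroup H, N.Normal → Odd (Nat.card N) → N = ⊥) →
    Nat.card (Subgroup.center H) = 2

variable {G : Type u} [Group G] [Finite G]

/-- every involution is conjugate into a given Sylow 2-subgroup -/
theorem exists_conj_mem_sylow (P : Sylow 2 G) (w : G) (hw : orderOf w = 2) :
    ∃ h : G, h * w * h⁻¹ ∈ (P : Subgroup G) := by
  have hpw : IsPGroup 2 (Subgroup.zpowers w) := by
    apply IsPGroup.of_card (n := 1)
    rw [Nat.card_zpowers, hw, pow_one]
  obtain ⟨Q, hQ⟩ := hpw.exists_le_sylow
  obtain ⟨h, hh⟩ := MulAction.exists_smul_eq G Q P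
  refine ⟨h, ?_⟩
  rw [← hh, Sylow.smul_def, Sylow.pointwise_smul_def]
  have : h * w * h⁻¹ = MulAut.conj h • w := by
    rw [MulAut.smul_def, MulAut.conj_apply]
  rw [this, Subgroup.smul_mem_pointwise_smul_iff]
  exact hQ (Subgroup.mem_zpowers w)

theorem central_of_index_two (hO : oddCore G = ⊥) {z : G}
    (hcl : Subgroup.normalClosure ({z} : Set G) = ⊤) (P : Sylow 2 G)
    (huniq : ∀ w ∈ (P : Subgroup G), orderOf w = 2 → w = z) (M : Subgroup G)
    (hM : M.index = 2) (g : G) : z * g = g * z := by
  have hMn : M.Normal := Subgroup.normal_of_index_eq_two hM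
  have hzM : z ∉ M := by
    intro h
    have h1 : Subgroup.normalClosure ({z} : Set G) ≤ M :=
      Subgroup.normalClosure_le_normal (Set.singleton_subset_iff.mpr h)
    rw [hcl, top_le_iff] at h1
    rw [h1, Subgroup.index_top] at hM
    omega
  have hodd : Odd (Nat.card M) := by
    by_contra hne
    rw [Nat.not_odd_iff_even, even_iff_two_dvd] at hne
    have : Fact (Nat.Prime 2) := ⟨Nat.prime_two⟩
    obtain ⟨w, hw⟩ := exists_prime_orderOf_dvd_card' 2 hne
    have hw' : orderOf (w : G) = 2 := by rw [Subgroup.orderOf_coe]; exact hw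
    obtain ⟨h, hh⟩ := exists_conj_mem_sylow P (w : G) hw'
    have h2 : orderOf (h * (w : G) * h⁻¹) = 2 := by
      rw [← hw']
      have := orderOf_injective (MulAut.conj h).toMonoidHom (MulAut.conj h).injective (w : G)
      simpa using this
    have h3 := huniq _ hh h2
    apply hzM
    rw [← h3]
    exact hMn.conj_mem _ w.2 h
  have hbot : M = ⊥ := by
    have := Cfsg.Agent.Lib.Helper97.le_oddCore_of_normal_of_odd hMn hodd
    rw [hO] at this
    exact le_bot_iff.mp this
  rw [hbot, Subgroup.index_bot] at hM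
  have : Fact (Nat.Prime 2) := ⟨Nat.prime_two⟩
  have hcyc : IsCyclic G := isCyclic_of_prime_card hM
  let _ := IsCyclic.commGroup (α := G)
  exact mul_comm z g

theorem central_of_unique_involution (BS : BSHyp.{u}) (IH : IHyp G) (hO : oddCore G = ⊥) {z : G}
    (hz : IsIsolatedInvolution z) (hcl : Subgroup.normalClosure ({z} : Set G) = ⊤)
    (P : Sylow 2 G) (hzP : z ∈ (P : Subgroup G))
    (huniq : ∀ w ∈ (P : Subgroup G), orderOf w = 2 → w = z) (g : G) : z * g = g * z := by
  have : Fact (Nat.Prime 2) := ⟨Nat.prime_two⟩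
  have heven : Even (Nat.card G) := by
    rw [even_iff_two_dvd, ← hz.1]
    exact orderOf_dvd_natCard z
  -- unique subgroup of order 2 in P
  have hsub : ∀ H : Subgroup (P : Subgroup G), Nat.card H = 2 →
      H = Subgroup.zpowers (⟨z, hzP⟩ : (P : Subgroup G)) := by
    intro H hH
    have h2 : 2 ∣ Nat.card H := by rw [hH]
    obtain ⟨w, hw⟩ := exists_prime_orderOf_dvd_card' 2 h2
    have hw' : orderOf ((w : (P : Subgroup G)) : G) = 2 := by
      rw [Subgroup.orderOf_coe, Subgroup.orderOf_coe]; exact hw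
    have hwz : ((w : (P : Subgroup G)) : G) = z := huniq _ (w : (P : Subgroup G)).2 hw'
    have hwz' : (w : (P : Subgroup G)) = ⟨z, hzP⟩ := Subtype.ext hwz
    have hle : Subgroup.zpowers (⟨z, hzP⟩ : (P : Subgroup G)) ≤ H := by
      rw [Subgroup.zpowers_le, ← hwz']
      exact w.2
    have hcard : Nat.card (Subgroup.zpowers (⟨z, hzP⟩ : (P : Subgroup G))) = 2 := by
      rw [Nat.card_zpowers, Subgroup.orderOf_mk]; exact hz.1
    symm
    apply Subgroup.eq_of_le_of_card_ge hle
    rw [hH, hcard]
  have hO' : ∀ N : Subgroup G, N.Normal → Odd (Nat.card N) → N = ⊥ := by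
    intro N hN hodd
    have := Cfsg.Agent.Lib.Helper97.le_oddCore_of_normal_of_odd hN hodd
    rw [hO] at this
    exact le_bot_iff.mp this
  have hcyclic_case : IsCyclic (P : Subgroup G) → z * g = g * z := by
    intro hcyc
    obtain ⟨M, hM⟩ := Cfsg.Agent.S0219.result heven P hcyc
    exact central_of_index_two hO hcl P huniq M hM g
  rcases Cfsg.Agent.Lib.Helper51.cyclic_or_quaternion_of_uniqueOrderP 2 P.isPGroup'
      (fun H K hH hK => (hsub H hH).trans (hsub K hK).symm) with hcyc | ⟨-, n, ⟨e⟩⟩
  · exact hcyclic_case hcyc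
  · cases n with
    | zero =>
      apply hcyclic_case
      have : IsCyclic (QuaternionGroup (2 ^ 0)) := by
        rw [pow_zero]; exact QuaternionGroup.quaternionGroup_one_isCyclic
      exact isCyclic_of_surjective e.symm e.symm.surjective
    | succ n =>
      have hc := BS G P n ⟨e⟩ hO'
      have h2 : 2 ∣ Nat.card (Subgroup.center G) := by rw [hc]
      obtain ⟨c, hc2⟩ := exists_prime_orderOf_dvd_card' 2 h2
      have hc2' : orderOf (c : G) = 2 := by rw [Subgroup.orderOf_coe]; exact hc2
      exact central_of_central_involution IH hO hz (c : G) hc2' c.2 g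

end Cfsg.Agent.Lib.Helper46.ZStar
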