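import Mathlib
import Cfsg.Agent.Lib.Helper46.ZStar1

/-!
# Glauberman's Z*-theorem: the product of a conjugate of the isolated involution `z` with a
conjugate of a commuting involution `s`
-/

set_option autoImplicit false

namespace Cfsg.Agent.Lib.Helper46.ZStar

open Cfsg

variable {G : Type*} [Group G]

/-- If `u` is isolated, `v` an involution and `u v` has order `2m`, then `m` is odd. -/
theorem isolated_half_odd {u v : G} (hu : IsIsolatedInvolution u) (hv2 : v * v = 1) (m : ℕ)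
    (hm : orderOf (u * v) = 2 * m) (hm0 : 0 < m) : Odd m := by
  have hu2 : u * u = 1 := mul_self_of_orderOf_two hu.1
  set r := u * v with hr
  by_contra hodd
  rw [Nat.not_odd_iff_even] at hodd
  obtain ⟨j, hj⟩ := hodd
  have hi1 : r ^ m ≠ 1 := by
    intro h
    have := orderOf_dvd_of_pow_eq_one h
    have := Nat.le_of_dvd hm0 this
    omega
  have hi2 : r ^ m * r ^ m = 1 := by
    rw [← pow_add, ← two_mul, ← hm, pow_orderOf_eq_one]
  have hiinv : (r ^ m)⁻¹ = r ^ m := inv_eq_self_of_mul_self hi2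
  have hci : u * r ^ m * u⁻¹ = r ^ m := by
    have := conj_zpow_invol hu2 hv2 (m : ℤ)
    rw [zpow_neg, zpow_natCast] at this
    rw [this, hiinv]
  have hcomm : Commute u (u * r ^ m) := by
    have h1 : u * r ^ m = r ^ m * u := by
      calc u * r ^ m = u * r ^ m * u⁻¹ * u := by group
        _ = r ^ m * u := by rw [hci]
    show u * (u * r ^ m) = u * r ^ m * u
    rw [mul_assoc, h1]
  have hconj : r ^ (-(j : ℤ)) * u * (r ^ (-(j : ℤ)))⁻¹ = u * r ^ m := by
    rw [zpow_conj_invol hu2 hv2 (-(j : ℤ))]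
    congr 1
    rw [← zpow_natCast]
    congr 1
    omega
  have := hu.2 (r ^ (-(j : ℤ))) (by rw [hconj]; exact hcomm)
  rw [hconj] at this
  exact hi1 (mul_left_cancel (this.trans (mul_one u).symm))

/-- The key decomposition: for an isolated involution `z`, an involution `s ≠ z` commuting with
`z`, and conjugates `u₁` of `z`, `s₁` of `s`: `u₁ s₁ = i z'` where `i` is an involution conjugate
to `z s`, and `z'` is an element of odd order commuting with `i` and inverted by `u₁`. -/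
theorem exists_decomp [Finite G] {z s : G} (hz : IsIsolatedInvolution z) (hs : orderOf s = 2)
    (hsz : s ≠ z) (hc : Commute z s) (a b : G) :
    ∃ i z' c : G, orderOf i = 2 ∧ Commute i z' ∧ (a * z * a⁻¹) * (b * s * b⁻¹) = i * z' ∧
      c * (z * s) * c⁻¹ = i ∧ Commute (a * z * a⁻¹) i ∧
      (a * z * a⁻¹) * z' * (a * z * a⁻¹)⁻¹ = z'⁻¹ ∧ Odd (orderOf z') := by
  have hz2 : z * z = 1 := mul_self_of_orderOf_two hz.1
  have hs2 : s * s = 1 := mul_self_of_orderOf_two hs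
  set u₁ := a * z * a⁻¹ with hu₁
  set s₁ := b * s * b⁻¹ with hs₁
  have hu₁iso : IsIsolatedInvolution u₁ := isolated_conj hz a
  have hu₁2 : u₁ * u₁ = 1 := conj_mul_self hz2 a
  have hs₁2 : s₁ * s₁ = 1 := conj_mul_self hs2 b
  set r := u₁ * s₁ with hr
  have hn0 : 0 < orderOf r := orderOf_pos r
  -- the order of r is even
  have heven : Even (orderOf r) := by
    by_contra hodd
    rw [Nat.not_even_iff_odd] at hodd
    obtain ⟨k, hk⟩ := exists_zpow_conj_of_odd hu₁2 hs₁2 hodd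
    -- s is a conjugate of z commuting with z
    have h1 : (b⁻¹ * r ^ k * a) * z * (b⁻¹ * r ^ k * a)⁻¹ = s := by
      calc (b⁻¹ * r ^ k * a) * z * (b⁻¹ * r ^ k * a)⁻¹
          = b⁻¹ * (r ^ k * (a * z * a⁻¹) * (r ^ k)⁻¹) * b := by group
        _ = b⁻¹ * (b * s * b⁻¹) * b := by rw [hk]
        _ = s := by group
    have := hz.2 (b⁻¹ * r ^ k * a) (by rw [h1]; exact hc)
    rw [h1] at this
    exact hsz this
  obtain ⟨m, hm⟩ := heven
  have hm' : orderOf r = 2 * m := by omega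
  have hm0 : 0 < m := by omega
  have hmodd : Odd m := isolated_half_odd hu₁iso hs₁2 m hm' hm0
  obtain ⟨j, hj⟩ := hmodd
  -- i = r^m
  have hi1 : r ^ m ≠ 1 := by
    intro h
    have := orderOf_dvd_of_pow_eq_one h
    have := Nat.le_of_dvd hm0 this
    omega
  have hi2 : r ^ m * r ^ m = 1 := by
    rw [← pow_add, ← hm, pow_orderOf_eq_one]
  have hiord : orderOf (r ^ m) = 2 := by
    have : Fact (Nat.Prime 2) := ⟨Nat.prime_two⟩
    exact orderOf_eq_prime (by rw [pow_two]; exact hi2) hi1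
  have hiinv : (r ^ m)⁻¹ = r ^ m := inv_eq_self_of_mul_self hi2
  have hci : u₁ * r ^ m * u₁⁻¹ = r ^ m := by
    have := conj_zpow_invol hu₁2 hs₁2 (m : ℤ)
    rw [zpow_neg, zpow_natCast] at this
    rw [this, hiinv]
  have hcomm_ui : Commute u₁ (r ^ m) := by
    show u₁ * r ^ m = r ^ m * u₁
    calc u₁ * r ^ m = u₁ * r ^ m * u₁⁻¹ * u₁ := by group
      _ = r ^ m * u₁ := by rw [hci]
  -- z' = r^(m+1)
  have hz'inv : u₁ * r ^ (m + 1) * u₁⁻¹ = (r ^ (m + 1))⁻¹ := by
    have := conj_zpow_invol hu₁2 hs₁2 ((m + 1 : ℕ) : ℤ)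
    rw [zpow_neg, zpow_natCast] at this
    exact this
  have hz'pow : (r ^ (m + 1)) ^ m = 1 := by
    rw [← pow_mul]
    have : (m + 1) * m = orderOf r * (j + 1) := by
      rw [hm', hj]; ring
    rw [this, pow_mul, pow_orderOf_eq_one, one_pow]
  have hz'odd : Odd (orderOf (r ^ (m + 1))) := by
    have h1 := orderOf_dvd_of_pow_eq_one hz'pow
    exact Odd.of_dvd_nat ⟨j, hj⟩ h1
  have hprod : r = r ^ m * r ^ (m + 1) := by
    rw [← pow_add]
    have : m + (m + 1) = orderOf r + 1 := by omega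
    rw [this, pow_succ, pow_orderOf_eq_one, one_mul]
  have hcomm_iz : Commute (r ^ m) (r ^ (m + 1)) := (Commute.refl r).pow_pow m (m + 1)
  -- s₂ = u₁ i is a conjugate of s
  set d := r ^ (-(j : ℤ)) * b with hd
  have hs₂ : d * s * d⁻¹ = u₁ * r ^ m := by
    have h1 := zpow_conj_invol' hu₁2 hs₁2 (-(j : ℤ))
    calc d * s * d⁻¹ = r ^ (-(j : ℤ)) * (b * s * b⁻¹) * (r ^ (-(j : ℤ)))⁻¹ := by
          rw [hd]; group
      _ = u₁ * r ^ (1 - 2 * (-(j : ℤ))) := h1
      _ = u₁ * r ^ m := by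
          congr 1
          rw [← zpow_natCast]
          congr 1
          omega
  -- u₃ = d⁻¹ u₁ d commutes with s
  set e := d⁻¹ * a with he
  have hu₃ : e * z * e⁻¹ = d⁻¹ * u₁ * d := by
    rw [he, hu₁]; group
  have hu₃2 : (e * z * e⁻¹) * (e * z * e⁻¹) = 1 := conj_mul_self hz2 e
  have hcomm_u₃s : Commute (e * z * e⁻¹) s := by
    have h1 : Commute u₁ (u₁ * r ^ m) := (Commute.refl u₁).mul_right hcomm_ui
    rw [← hs₂] at h1
    show e * z * e⁻¹ * s = s * (e * z * e⁻¹)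
    rw [hu₃]
    calc d⁻¹ * u₁ * d * s = d⁻¹ * (u₁ * (d * s * d⁻¹)) * d := by group
      _ = d⁻¹ * ((d * s * d⁻¹) * u₁) * d := by rw [h1.eq]
      _ = s * (d⁻¹ * u₁ * d) := by group
  have hodd3 : Odd (orderOf (z * (e * z * e⁻¹))) := isolated_odd hz e (orderOf_pos _)
  obtain ⟨k, hk⟩ := exists_zpow_conj_of_odd hz2 hu₃2 hodd3
  set c₀ := (z * (e * z * e⁻¹)) ^ k with hc₀
  have hcomm_c₀s : Commute c₀ s := by
    have : Commute (z * (e * z * e⁻¹)) s := hc.mul_left hcomm_u₃s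
    exact this.zpow_left k
  refine ⟨r ^ m, r ^ (m + 1), d * c₀, hiord, hcomm_iz, hprod, ?_, hcomm_ui, hz'inv, hz'odd⟩
  have h5 : c₀ * s * c₀⁻¹ = s := by
    rw [hcomm_c₀s.eq, mul_assoc, mul_inv_cancel, mul_one]
  calc d * c₀ * (z * s) * (d * c₀)⁻¹
      = d * ((c₀ * z * c₀⁻¹) * (c₀ * s * c₀⁻¹)) * d⁻¹ := by group
    _ = d * ((e * z * e⁻¹) * s) * d⁻¹ := by rw [hk, h5]
    _ = d * ((d⁻¹ * u₁ * d) * s) * d⁻¹ := by rw [hu₃]
    _ = u₁ * (d * s * d⁻¹) := by group
    _ = u₁ * (u₁ * r ^ m) := by rw [hs₂]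
    _ = r ^ m := by rw [← mul_assoc, hu₁2, one_mul]

end Cfsg.Agent.Lib.Helper46.ZStar
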