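import Mathlib
import Cfsg.Agent.Lib.Helper46.ZStar4
import Cfsg.Agent.Lib.Helper46.ZStar5
import Cfsg.Agent.S0942
import Cfsg.Agent.S0943
import Cfsg.Agent.S0925
import Cfsg.Agent.S0165
import Cfsg.Agent.Lib.Helper74.PrincipalSMT
import Cfsg.Agent.Lib.Helper80.CharOrth
import Cfsg.Agent.Lib.Helper78.BlockSums
import Cfsg.Agent.Lib.Helper78.CharOrtho

/-!
# Glauberman's Z*-theorem: the character-theoretic step
-/

set_option autoImplicit false

namespace Cfsg.Agent.Lib.Helper46.ZStar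

open Cfsg
open scoped ComplexConjugate

universe u

variable {G : Type u} [Group G] [Finite G]

/-- **Step 4a.** Principal-block characters are constant on the products of a conjugate of `z`
with a conjugate of `s`. -/
theorem char_prod_const (IH : IHyp G)
    (hnc : ∀ i : G, orderOf i = 2 → i ∉ Subgroup.center G)
    {z s : G} (hz : IsIsolatedInvolution z) (hs : orderOf s = 2) (hsz : s ≠ z)
    (hc : Commute z s) {M : Ideal AlgInt} (hM : IsPModular 2 M) (χ : IrrCharacter G)
    (hχ : χ ∈ principalBlock M G) (a b : G) :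
    (χ : G → ℂ) ((a * z * a⁻¹) * (b * s * b⁻¹)) = (χ : G → ℂ) (z * s) := by
  obtain ⟨i, z', c, hi, hiz', hprod, hci, hui, hinv, hodd⟩ := exists_decomp hz hs hsz hc a b
  have hmem : z' ∈ centralizerPPrimeCore 2 i := by
    set H := Subgroup.centralizer ({i} : Set G) with hH
    have hHne : H ≠ ⊤ := by
      intro htop
      apply hnc i hi
      rw [Subgroup.mem_center_iff]
      intro g
      have hg : g ∈ H := by rw [htop]; trivial
      rw [hH, Subgroup.mem_centralizer_iff] at hg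
      exact (hg i (Set.mem_singleton i)).symm
    have hcard : Nat.card H < Nat.card G := by
      have h1 : Nat.card H ∣ Nat.card G := Subgroup.card_subgroup_dvd_card H
      have h2 : Nat.card H ≠ Nat.card G := fun h => hHne (Subgroup.card_eq_iff_eq_top H |>.mp h)
      exact lt_of_le_of_ne (Nat.le_of_dvd Nat.card_pos h1) h2
    have hu₁H : a * z * a⁻¹ ∈ H := by
      rw [hH, Subgroup.mem_centralizer_iff]
      intro x hx
      rw [Set.mem_singleton_iff] at hx
      rw [hx]
      exact hui.eq.symm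
    have hz'H : z' ∈ H := by
      rw [hH, Subgroup.mem_centralizer_iff]
      intro x hx
      rw [Set.mem_singleton_iff] at hx
      rw [hx]
      exact hiz'.eq
    have hisoH := isolated_subgroup (isolated_conj hz a) H hu₁H
    have h1 := IH H hcard _ hisoH ⟨z', hz'H⟩
    have h2 : (⟨a * z * a⁻¹, hu₁H⟩ : H) * ⟨z', hz'H⟩ * (⟨a * z * a⁻¹, hu₁H⟩ : H)⁻¹ *
        (⟨z', hz'H⟩ : H)⁻¹ = ((⟨z', hz'H⟩ : H) * ⟨z', hz'H⟩)⁻¹ := by
      apply Subtype.ext
      push_cast
      rw [hinv, mul_inv_rev]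
    rw [h2] at h1
    have h3 : (⟨z', hz'H⟩ : H) * ⟨z', hz'H⟩ ∈ oddCore H := by
      have := (oddCore H).inv_mem h1
      rwa [inv_inv] at this
    obtain ⟨k, hk⟩ := hodd
    have h4 : ((⟨z', hz'H⟩ : H) * ⟨z', hz'H⟩) ^ (k + 1) = ⟨z', hz'H⟩ := by
      apply Subtype.ext
      push_cast
      rw [← pow_two, ← pow_mul]
      have : 2 * (k + 1) = orderOf z' + 1 := by omega
      rw [this, pow_succ, pow_orderOf_eq_one, one_mul]
    have h5 : (⟨z', hz'H⟩ : H) ∈ oddCore H := by
      rw [← h4]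
      exact (oddCore H).pow_mem h3 _
    unfold centralizerPPrimeCore
    exact Subgroup.mem_map.mpr ⟨⟨z', hz'H⟩, h5, rfl⟩
  have h942 := Cfsg.Agent.S0942.result 2 M hM i ⟨1, by rw [hi, pow_one]⟩ z' hmem χ hχ
  rw [hprod, h942, ← hci]
  exact Cfsg.Agent.Lib.Helper80.char_conj_eq
    (Cfsg.Agent.Lib.Helper80.isCharacter_of_isIrr χ.2) (z * s) c

/-- **Step 4b.** `χ(z) χ(s) = χ(1) χ(zs)` for `χ` in the principal 2-block. -/
theorem char_relation (IH : IHyp G)
    (hnc : ∀ i : G, orderOf i = 2 → i ∉ Subgroup.center G)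
    {z s : G} (hz : IsIsolatedInvolution z) (hs : orderOf s = 2) (hsz : s ≠ z)
    (hc : Commute z s) {M : Ideal AlgInt} (hM : IsPModular 2 M) (χ : IrrCharacter G)
    (hχ : χ ∈ principalBlock M G) :
    (χ : G → ℂ) z * (χ : G → ℂ) s = (χ : G → ℂ) 1 * (χ : G → ℂ) (z * s) := by
  apply Cfsg.Agent.S0943.result χ z s
  intro x y hx hy
  obtain ⟨a, ha⟩ := isConj_iff.mp hx
  obtain ⟨b, hb⟩ := isConj_iff.mp hy
  rw [← ha, ← hb]
  exact char_prod_const IH hnc hz hs hsz hc hM χ hχ a b

end Cfsg.Agent.Lib.Helper46.ZStar
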