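import Mathlib
import Cfsg.Agent.Lib.Helper46.ZStar6

/-!
# Glauberman's Z*-theorem: the final contradiction and the induction
-/

set_option autoImplicit false

namespace Cfsg.Agent.Lib.Helper46.ZStar

open Cfsg
open scoped ComplexConjugate

universe u

variable {G : Type u} [Group G] [Finite G]

/-- **Step 5.** In a minimal counterexample there is no involution `s ≠ z` commuting with `z`. -/
theorem no_second_involution (IH : IHyp G)
    (hnc : ∀ i : G, orderOf i = 2 → i ∉ Subgroup.center G)
    {z s : G} (hz : IsIsolatedInvolution z)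
    (hcl : Subgroup.normalClosure ({z} : Set G) = ⊤)
    (hs : orderOf s = 2) (hsz : s ≠ z) (hc : Commute z s) : False := by
  have : Fact (Nat.Prime 2) := ⟨Nat.prime_two⟩
  obtain ⟨M, hMmax, hM2⟩ := Cfsg.Agent.S0165.exists_modular 2 Nat.prime_two
  have hM : IsPModular 2 M := ⟨Nat.prime_two, hMmax, hM2⟩
  have hz2 : z * z = 1 := mul_self_of_orderOf_two hz.1
  have hs2 : s * s = 1 := mul_self_of_orderOf_two hs
  have hsinv : s⁻¹ = s := inv_eq_self_of_mul_self hs2
  have hs1 : s ≠ 1 := ne_one_of_orderOf_two hs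
  -- the second involution z * s
  have hzs2 : (z * s) * (z * s) = 1 := by
    calc (z * s) * (z * s) = z * (s * z) * s := by group
      _ = z * (z * s) * s := by rw [hc.eq]
      _ = (z * z) * (s * s) := by group
      _ = 1 := by rw [hz2, hs2, one_mul]
  have hzs1 : z * s ≠ 1 := by
    intro h
    apply hsz
    have : s = z⁻¹ := (eq_inv_of_mul_eq_one_right h)
    rw [this, inv_eq_self_of_mul_self hz2]
  have hzsord : orderOf (z * s) = 2 :=
    orderOf_eq_prime (by rw [pow_two]; exact hzs2) hzs1
  have hzsz : z * s ≠ z := by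
    intro h
    exact hs1 (mul_left_cancel (h.trans (mul_one z).symm))
  have hczs : Commute z (z * s) := (Commute.refl z).mul_right hc
  have hzzs : z * (z * s) = s := by rw [← mul_assoc, hz2, one_mul]
  -- the two relations
  have R1 := fun (χ : IrrCharacter G) (hχ : χ ∈ principalBlock M G) =>
    char_relation IH hnc hz hs hsz hc hM χ hχ
  have R2 := fun (χ : IrrCharacter G) (hχ : χ ∈ principalBlock M G) =>
    char_relation IH hnc hz hzsord hzsz hczs hM χ hχ
  -- block orthogonality
  have hB := Cfsg.Agent.Lib.Helper74.isPBlock_principalBlock G M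
  have horth := (Cfsg.Agent.S0925.result (G := G) 2 M hM).2
  have hpp1 : IsPPart 2 (1 : G) 1 :=
    ⟨1, one_mul 1, Commute.one_left 1, ⟨0, by simp⟩, by simp⟩
  have hpps : IsPPart 2 s s :=
    ⟨1, mul_one s, Commute.one_right s, ⟨1, by rw [hs, pow_one]⟩, by simp⟩
  have hppz : IsPPart 2 z z :=
    ⟨1, mul_one z, Commute.one_right z, ⟨1, by rw [hz.1, pow_one]⟩, by simp⟩
  have hnc1 : ¬ IsConj (1 : G) s := by
    intro h
    obtain ⟨c, hc'⟩ := isConj_iff.mp h
    apply hs1
    rw [← hc']
    group
  have hncz : ¬ IsConj z s := by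
    intro h
    obtain ⟨c, hc'⟩ := isConj_iff.mp h
    have := hz.2 c (by rw [hc']; exact hc)
    rw [hc'] at this
    exact hsz this
  have S1 := horth 1 s 1 s hpp1 hpps hnc1 _ hB
  have S2 := horth z s z s hppz hpps hncz _ hB
  rw [hsinv] at S1 S2
  -- turn into finite sums
  classical
  rw [Cfsg.Agent.Lib.Helper78.finsum_mem_eq_sum_filter_univ] at S1 S2
  -- each term of the combined sum is a natural number
  have key : ∀ χ ∈ Finset.univ.filter (· ∈ principalBlock M G),
      ∃ n : ℕ, ((χ : IrrCharacter G) : G → ℂ) 1 * (χ : G → ℂ) s + (χ : G → ℂ) z * (χ : G → ℂ) s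
        = (n : ℂ) ∧ ((χ : G → ℂ) z = (χ : G → ℂ) 1 → 0 < n) := by
    intro χ hχ
    rw [Finset.mem_filter] at hχ
    have r1 := R1 χ hχ.2
    have r2 := R2 χ hχ.2
    rw [hzzs] at r2
    have hchar := Cfsg.Agent.Lib.Helper80.isCharacter_of_isIrr χ.2
    obtain ⟨d, hd⟩ := Cfsg.Agent.Lib.Helper80.char_one_eq_natCast hchar
    by_cases hker : (χ : G → ℂ) z = (χ : G → ℂ) 1
    · -- z in the kernel, so the kernel is everything
      have hzk : z ∈ Cfsg.Agent.Lib.Helper80.charKer (χ : G → ℂ) hchar := hker
      have hle : Subgroup.normalClosure ({z} : Set G) ≤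
          Cfsg.Agent.Lib.Helper80.charKer (χ : G → ℂ) hchar :=
        Subgroup.normalClosure_le_normal (Set.singleton_subset_iff.mpr hzk)
      rw [hcl] at hle
      have hsk : s ∈ Cfsg.Agent.Lib.Helper80.charKer (χ : G → ℂ) hchar := hle trivial
      have hsk' : (χ : G → ℂ) s = (χ : G → ℂ) 1 := hsk
      have hd0 : d ≠ 0 := by
        intro h0
        rw [h0, Nat.cast_zero] at hd
        exact Cfsg.Agent.Lib.Helper80.char_one_ne_zero_of_isIrr χ.2 hd
      have hdpos : 0 < d := Nat.pos_of_ne_zero hd0
      refine ⟨2 * d * d, ?_, fun _ => by positivity⟩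
      rw [hker, hsk', hd]
      push_cast
      ring
    · refine ⟨0, ?_, fun h => absurd h hker⟩
      -- b ≠ a: from bc = ad, bd = ac get (a+b) c = 0
      set a := (χ : G → ℂ) 1
      set b := (χ : G → ℂ) z
      set c := (χ : G → ℂ) s
      set e := (χ : G → ℂ) (z * s)
      have hba : b - a ≠ 0 := sub_ne_zero.mpr hker
      have h1 : (b - a) * (c + e) = 0 := by linear_combination r1 + r2
      have h2 : c + e = 0 := by
        rcases mul_eq_zero.mp h1 with h | h
        · exact absurd h hba
        · exact h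
      have h3 : e = -c := by linear_combination h2
      rw [h3] at r1
      -- b c = - a c
      rw [Nat.cast_zero]
      linear_combination r1
  -- sum up
  choose! n hn hnpos using key
  have hsum : ∑ χ ∈ Finset.univ.filter (· ∈ principalBlock M G), (n χ : ℂ) = 0 := by
    rw [← Finset.sum_congr rfl (fun χ hχ => hn χ hχ), Finset.sum_add_distrib, S1, S2, add_zero]
  rw [← Nat.cast_sum, Nat.cast_eq_zero, Finset.sum_eq_zero_iff] at hsum
  -- the trivial character
  have htriv := Cfsg.Agent.Lib.Helper74.one_mem_principalBlock hM G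
  have hmem : (⟨fun _ => 1, Cfsg.Agent.Lib.Helper78.isIrrCharacter_one⟩ : IrrCharacter G) ∈
      Finset.univ.filter (· ∈ principalBlock M G) := by
    rw [Finset.mem_filter]
    exact ⟨Finset.mem_univ _, htriv⟩
  have h0 := hsum _ hmem
  have hp := hnpos _ hmem rfl
  omega

end Cfsg.Agent.Lib.Helper46.ZStar
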