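import Mathlib
import Cfsg.Agent.Lib.Helper46.ZStar7

/-!
# Glauberman's Z*-theorem, modulo the Brauer–Suzuki theorem

`zstar BS G` : given the Brauer–Suzuki theorem (`BSHyp`, i.e. statement S0201) for all groups of the
universe `u`, every isolated involution `z` of a finite group `G : Type u` satisfies
`[z, g] ∈ O(G)` for all `g`.  `zstar_sylow` is the same with the hypotheses of statement S0215.
-/

set_option autoImplicit false

namespace Cfsg.Agent.Lib.Helper46.ZStar

open Cfsg

universe u

theorem zstar_aux (BS : BSHyp.{u}) :
    ∀ (n : ℕ) (G : Type u) [Group G] [Finite G], Nat.card G = n → ZS G := by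
  intro n
  induction n using Nat.strong_induction_on with
  | _ n ih =>
    intro G _ _ hcard
    have IH : IHyp G := fun H _ _ hlt => ih (Nat.card H) (hcard ▸ hlt) H rfl
    by_cases hO : oddCore G = ⊥
    · intro z hz g
      have hcentral : ∀ g : G, z * g = g * z := by
        by_cases hcl : Subgroup.normalClosure ({z} : Set G) = ⊤
        · by_cases hci : ∃ i : G, orderOf i = 2 ∧ i ∈ Subgroup.center G
          · obtain ⟨i, hi, hic⟩ := hci
            exact central_of_central_involution IH hO hz i hi hic
          · have hnc : ∀ i : G, orderOf i = 2 → i ∉ Subgroup.center G :=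
              fun i hi hic => hci ⟨i, hi, hic⟩
            have : Fact (Nat.Prime 2) := ⟨Nat.prime_two⟩
            have hpz : IsPGroup 2 (Subgroup.zpowers z) := by
              apply IsPGroup.of_card (n := 1)
              rw [Nat.card_zpowers, hz.1, pow_one]
            obtain ⟨P, hP⟩ := hpz.exists_le_sylow
            have hzP : z ∈ (P : Subgroup G) := hP (Subgroup.mem_zpowers z)
            by_cases h2 : ∃ s ∈ (P : Subgroup G), orderOf s = 2 ∧ s ≠ z
            · obtain ⟨s, hsP, hs, hsz⟩ := h2
              have hc : Commute z s :=
                (isolated_commute_of_mem_pgroup hz (P : Subgroup G) P.isPGroup' hzP s hsP).symm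
              exact (no_second_involution IH hnc hz hcl hs hsz hc).elim
            · have huniq : ∀ w ∈ (P : Subgroup G), orderOf w = 2 → w = z := by
                intro w hw hw2
                by_contra hne
                exact h2 ⟨w, hw, hw2, hne⟩
              exact central_of_unique_involution BS IH hO hz hcl P hzP huniq
        · exact central_of_normalClosure_ne_top IH hO hz hcl
      have : z * g * z⁻¹ * g⁻¹ = 1 := by
        rw [hcentral g]; group
      rw [this]
      exact one_mem _
    · exact zs_of_oddCore_ne_bot IH hO

/-- **Glauberman's Z*-theorem** (modulo Brauer–Suzuki): commutators with an isolated involution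
lie in `O(G)`. -/
theorem zstar (BS : BSHyp.{u}) (G : Type u) [Group G] [Finite G] : ZS G :=
  zstar_aux BS (Nat.card G) G rfl

/-- Z* in the form of statement S0215 (modulo Brauer–Suzuki). -/
theorem zstar_sylow (BS : BSHyp.{u}) {G : Type u} [Group G] [Finite G] (P : Sylow 2 G) (u : G)
    (hu : orderOf u = 2) (hiso : ∀ g : G, g * u * g⁻¹ ∈ P → g * u * g⁻¹ = u) :
    ∃ N : Subgroup G, N.Normal ∧ Odd (Nat.card N) ∧ ∀ g : G, (u * g * u⁻¹ * g⁻¹) ∈ N :=
  ⟨oddCore G, Cfsg.Agent.Lib.Helper55.pPrimeCore_normal' 2,
    Cfsg.Agent.Lib.Helper97.odd_card_oddCore,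
    zstar BS G u (isolated_of_sylow P u hu hiso)⟩

end Cfsg.Agent.Lib.Helper46.ZStar
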