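import Mathlib

/-!
# Fusion in a quaternion Sylow 2-subgroup of order 8

If `G` has a Sylow 2-subgroup `S ≅ Q₈` and no normal subgroup of index 2, then all elements of
order 4 of `S` are conjugate in `G` (focal subgroup theorem).
-/

set_option autoImplicit false

namespace Cfsg.Agent.Lib.Helper46

open QuaternionGroup
open scoped commutatorElement

universe u

section Q8facts

/-- decidable form of "order 4" in `Q₈`. -/
def IsO4 (q : QuaternionGroup 2) : Prop := q ^ 4 = 1 ∧ q ^ 2 ≠ 1

instance : DecidablePred IsO4 := fun q => by unfold IsO4; infer_instance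

theorem isO4_of_orderOf {q : QuaternionGroup 2} (h : orderOf q = 4) : IsO4 q := by
  refine ⟨by rw [← h, pow_orderOf_eq_one], fun h2 => ?_⟩
  have := orderOf_dvd_of_pow_eq_one h2
  rw [h] at this
  omega

theorem q8_inv_conj : ∀ q : QuaternionGroup 2, IsO4 q →
    ∃ r : QuaternionGroup 2, r * q * r⁻¹ = q⁻¹ := by
  decide +kernel

theorem q8_third : ∀ y s w : QuaternionGroup 2, IsO4 y → IsO4 s → IsO4 w →
    y ≠ a 1 → y ≠ (a 1)⁻¹ → s ≠ a 1 → s ≠ (a 1)⁻¹ → s ≠ y → s ≠ y⁻¹ →
    w ≠ a 1 → w ≠ (a 1)⁻¹ → w ≠ y → w ≠ y⁻¹ → w = s ∨ w = s⁻¹ := by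
  decide +kernel

theorem q8_index2 : ∀ x y y' : QuaternionGroup 2, IsO4 x →
    y ≠ 1 → y ≠ x → y ≠ x ^ 2 → y ≠ x⁻¹ → y' ≠ 1 → y' ≠ x → y' ≠ x ^ 2 → y' ≠ x⁻¹ →
    (y * y' = 1 ∨ y * y' = x ∨ y * y' = x ^ 2 ∨ y * y' = x⁻¹) := by
  decide +kernel

theorem q8_o2 : ∀ q : QuaternionGroup 2, q ^ 2 = 1 → q ≠ 1 → q = a 2 := by
  decide +kernel

theorem q8_cases : ∀ q : QuaternionGroup 2, q = 1 ∨ q = a 2 ∨ IsO4 q := by
  decide +kernel

theorem q8_a1 : IsO4 (a 1 : QuaternionGroup 2) := by
  decide +kernel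

theorem q8_pair : ∀ x q q' : QuaternionGroup 2, IsO4 x → (q = x ∨ q = x⁻¹) →
    (q' = x ∨ q' = x⁻¹) → (q * q' = 1 ∨ q * q' = x ^ 2) := by
  decide +kernel

theorem q8_sq : ∀ x : QuaternionGroup 2, IsO4 x → x ^ 2 = a 2 := by
  decide +kernel

theorem q8_inv_o4 : ∀ x : QuaternionGroup 2, IsO4 x → IsO4 x⁻¹ := by
  decide +kernel

end Q8facts

variable {G : Type u} [Group G]

/-- the embedding `Q₈ → G` with image `S`. -/
noncomputable def qpsi (S : Subgroup G) (e : S ≃* QuaternionGroup 2) : QuaternionGroup 2 →* G :=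
  S.subtype.comp e.symm.toMonoidHom

theorem qpsi_injective (S : Subgroup G) (e : S ≃* QuaternionGroup 2) :
    Function.Injective (qpsi S e) := by
  intro x y hxy
  apply e.symm.injective
  exact Subtype.ext hxy

theorem qpsi_mem (S : Subgroup G) (e : S ≃* QuaternionGroup 2) (q : QuaternionGroup 2) :
    qpsi S e q ∈ S := (e.symm q).2

theorem exists_qpsi_eq (S : Subgroup G) (e : S ≃* QuaternionGroup 2) {s : G} (hs : s ∈ S) :
    ∃ q, qpsi S e q = s :=
  ⟨e ⟨s, hs⟩, by simp [qpsi]⟩

theorem orderOf_qpsi (S : Subgroup G) (e : S ≃* QuaternionGroup 2) (q : QuaternionGroup 2) :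
    orderOf (qpsi S e q) = orderOf q :=
  orderOf_injective _ (qpsi_injective S e) q

theorem isO4_of_conj (S : Subgroup G) (e : S ≃* QuaternionGroup 2) {q q' : QuaternionGroup 2}
    (u : G) (h : u * qpsi S e q * u⁻¹ = qpsi S e q') (hq : IsO4 q) : IsO4 q' := by
  have hinj := qpsi_injective S e
  constructor
  · apply hinj
    rw [map_pow, ← h, map_one, conj_pow, ← map_pow, hq.1, map_one]
    group
  · intro h2
    apply hq.2
    apply hinj
    have : (u * qpsi S e q * u⁻¹) ^ 2 = 1 := by rw [h, ← map_pow, h2, map_one]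
    rw [conj_pow] at this
    rw [map_pow, map_one]
    calc qpsi S e q ^ 2 = u⁻¹ * (u * qpsi S e q ^ 2 * u⁻¹) * u := by group
      _ = 1 := by rw [this]; group

/-- An element `x` of order 4 of `S ≅ Q₈` all of whose `G`-conjugates in `S` lie in `⟨x⟩` gives
a normal subgroup of index 2. -/
theorem exists_index_two_of_isolated [Finite G] (S : Sylow 2 G)
    (e : (S : Subgroup G) ≃* QuaternionGroup 2) (x : QuaternionGroup 2) (hx : IsO4 x)
    (hiso : ∀ (u : G) (q q' : QuaternionGroup 2), (q = x ∨ q = x⁻¹) →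
      u * qpsi (S : Subgroup G) e q * u⁻¹ = qpsi (S : Subgroup G) e q' → (q' = x ∨ q' = x⁻¹)) :
    ∃ M : Subgroup G, M.Normal ∧ M.index = 2 := by
  have : Fact (Nat.Prime 2) := ⟨Nat.prime_two⟩
  set ψ := qpsi (S : Subgroup G) e with hψ
  have hinj := qpsi_injective (S : Subgroup G) e
  set X : Subgroup G := Subgroup.zpowers (ψ x) with hX
  have hXS : X ≤ (S : Subgroup G) := by
    rw [hX, Subgroup.zpowers_le]
    exact qpsi_mem _ e x
  -- membership in X
  have hmemX : ∀ q : QuaternionGroup 2, (q = 1 ∨ q = x ∨ q = x ^ 2 ∨ q = x⁻¹) → ψ q ∈ X := by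
    intro q hq
    rcases hq with rfl | rfl | rfl | rfl
    · rw [map_one]; exact X.one_mem
    · exact Subgroup.mem_zpowers _
    · rw [map_pow]; exact X.pow_mem (Subgroup.mem_zpowers _) 2
    · rw [map_inv]; exact X.inv_mem (Subgroup.mem_zpowers _)
  -- converse direction of isolation
  have hiso' : ∀ (u : G) (q q' : QuaternionGroup 2), u * ψ q * u⁻¹ = ψ q' →
      (q' = x ∨ q' = x⁻¹) → (q = x ∨ q = x⁻¹) := by
    intro u q q' h hq'
    apply hiso u⁻¹ q' q hq'
    rw [← h]; group
  -- the focal subgroup lies in X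
  have hfoc : (S : Subgroup G).focalSubgroup ≤ X := by
    rw [Subgroup.focalSubgroup_def, Subgroup.closure_le]
    rintro g ⟨hgS, y, hyS, u, rfl⟩
    obtain ⟨q, rfl⟩ := exists_qpsi_eq (S : Subgroup G) e hyS
    have hy'S : u * (ψ q)⁻¹ * u⁻¹ ∈ (S : Subgroup G) := by
      have : u * (ψ q)⁻¹ * u⁻¹ = (ψ q)⁻¹ * ⁅ψ q, u⁆ := by
        rw [commutatorElement_def]; group
      rw [this]
      exact (S : Subgroup G).mul_mem ((S : Subgroup G).inv_mem (qpsi_mem _ e q)) hgS
    obtain ⟨q', hq'⟩ := exists_qpsi_eq (S : Subgroup G) e hy'S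
    have hconj : u * ψ q⁻¹ * u⁻¹ = ψ q' := by rw [map_inv, hq']
    have hprod : ⁅ψ q, u⁆ = ψ (q * q') := by
      rw [map_mul, hq', commutatorElement_def]; group
    show ⁅ψ q, u⁆ ∈ X
    rw [hprod]
    apply hmemX
    rcases q8_cases q with rfl | rfl | hq4
    · -- q = 1
      have : ψ q' = 1 := by rw [← hconj]; simp
      have : q' = 1 := hinj (this.trans (map_one ψ).symm)
      left; rw [this]; simp
    · -- q = a 2
      have h1 : (a 2 : QuaternionGroup 2)⁻¹ = a 2 := by decide +kernel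
      rw [h1] at hconj
      have hq'2 : q' ^ 2 = 1 := by
        apply hinj
        rw [map_pow, ← hconj, conj_pow, ← map_pow, map_one]
        have : (a 2 : QuaternionGroup 2) ^ 2 = 1 := by decide +kernel
        rw [this, map_one]; group
      have hq'1 : q' ≠ 1 := by
        rintro rfl
        rw [map_one] at hconj
        have : ψ (a 2) = 1 := by
          calc ψ (a 2) = u⁻¹ * (u * ψ (a 2) * u⁻¹) * u := by group
            _ = 1 := by rw [hconj]; group
        have := hinj (this.trans (map_one ψ).symm)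
        revert this
        decide +kernel
      rw [q8_o2 q' hq'2 hq'1]
      left
      decide +kernel
    · -- q of order 4
      have hq4' : IsO4 q⁻¹ := q8_inv_o4 q hq4
      have hq'4 : IsO4 q' := isO4_of_conj _ e u hconj hq4'
      by_cases hqx : q = x ∨ q = x⁻¹
      · have hqx' : q⁻¹ = x ∨ q⁻¹ = x⁻¹ := by
          rcases hqx with rfl | rfl
          · right; rfl
          · left; simp
        have := hiso u q⁻¹ q' hqx' hconj
        rcases q8_pair x q q' hx hqx this with h | h
        · left; exact h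
        · right; right; left; exact h
      · have hq'x : ¬ (q' = x ∨ q' = x⁻¹) := by
          intro h
          have := hiso' u q⁻¹ q' hconj h
          apply hqx
          rcases this with h1 | h1
          · right; rw [← h1]; simp
          · left; rw [← inv_inj]; exact h1
        push Not at hqx hq'x
        have hx2 : x ^ 2 = a 2 := q8_sq x hx
        have hq2 : q ≠ x ^ 2 := by
          intro h
          apply hq4.2
          rw [h, ← pow_mul]
          exact hx.1
        have hq'2 : q' ≠ x ^ 2 := by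
          intro h
          apply hq'4.2
          rw [h, ← pow_mul]
          exact hx.1
        have hq1 : q ≠ 1 := by
          rintro rfl
          exact hq4.2 (one_pow 2)
        have hq'1 : q' ≠ 1 := by
          rintro rfl
          exact hq'4.2 (one_pow 2)
        exact q8_index2 x q q' hx hq1 hqx.1 hq2 hqx.2 hq'1 hq'x.1 hq'2 hq'x.2
  -- the index-two subgroup
  set N := (S : Subgroup G).focalSubgroupOf with hN
  set K : Subgroup ((S : Subgroup G) ⧸ N) :=
    (X.subgroupOf (S : Subgroup G)).map (QuotientGroup.mk' N) with hK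
  have hKn : K.Normal := by
    constructor
    intro n hn g
    have : g * n * g⁻¹ = n := by
      have hc : g * n = n * g := (inferInstance : IsMulCommutative _).is_comm.comm g n
      rw [hc]; group
    rw [this]
    exact hn
  have hNle : N ≤ X.subgroupOf (S : Subgroup G) := by
    rw [hN, Subgroup.focalSubgroupOf_def]
    exact Subgroup.comap_mono hfoc
  have hKidx : K.index = (X.subgroupOf (S : Subgroup G)).index := by
    apply Subgroup.index_map_eq _ (QuotientGroup.mk'_surjective N)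
    rw [QuotientGroup.ker_mk']
    exact hNle
  have hcardX : Nat.card (X.subgroupOf (S : Subgroup G)) = 4 := by
    rw [Nat.card_congr (Subgroup.subgroupOfEquivOfLe hXS).toEquiv, hX, Nat.card_zpowers,
      orderOf_qpsi]
    have h1 : orderOf x ∣ 4 := orderOf_dvd_of_pow_eq_one hx.1
    have h2 : ¬ orderOf x ∣ 2 := fun h => hx.2 (orderOf_dvd_iff_pow_eq_one.mp h)
    have h3 : orderOf x ≤ 4 := Nat.le_of_dvd (by norm_num) h1
    interval_cases h : orderOf x
    · simp at h1
    · simp at h2
    · simp at h2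
    · norm_num at h1
    · rfl
  have hcardS : Nat.card (S : Subgroup G) = 8 := by
    rw [Nat.card_congr e.toEquiv, Nat.card_eq_fintype_card, QuaternionGroup.card]
  have hidx : (X.subgroupOf (S : Subgroup G)).index = 2 := by
    have := Subgroup.card_mul_index (X.subgroupOf (S : Subgroup G))
    rw [hcardX, hcardS] at this
    omega
  refine ⟨K.comap (S : Subgroup G).transferFocal, hKn.comap _, ?_⟩
  rw [Subgroup.index_comap_of_surjective _ (Subgroup.transferFocal_surjective S), hKidx, hidx]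

/-- **Fusion.** If `G` has no normal subgroup of index 2 and a Sylow 2-subgroup `S ≅ Q₈`, then all
elements of order 4 of `S` are `G`-conjugate. -/
theorem q8_fusion [Finite G] (S : Sylow 2 G) (e : (S : Subgroup G) ≃* QuaternionGroup 2)
    (hno : ∀ M : Subgroup G, M.Normal → M.index ≠ 2) :
    ∀ s ∈ (S : Subgroup G), orderOf s = 4 →
      IsConj (((e.symm (QuaternionGroup.a 1) : (S : Subgroup G)) : G)) s := by
  intro s hs hs4
  by_contra hcon
  set ψ := qpsi (S : Subgroup G) e with hψ
  have hinj := qpsi_injective (S : Subgroup G) e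
  have ha1 : ((e.symm (QuaternionGroup.a 1) : (S : Subgroup G)) : G) = ψ (a 1) := rfl
  rw [ha1] at hcon
  obtain ⟨qs, rfl⟩ := exists_qpsi_eq (S : Subgroup G) e hs
  have hqs4 : IsO4 qs := by
    apply isO4_of_orderOf
    rw [← orderOf_qpsi (S : Subgroup G) e]; exact hs4
  -- T q : ψ q is conjugate to ψ (a 1)
  have T2 : ∀ q, IsO4 q → IsConj (ψ (a 1)) (ψ q) → IsConj (ψ (a 1)) (ψ q⁻¹) := by
    intro q hq h
    obtain ⟨r, hr⟩ := q8_inv_conj q hq
    refine h.trans ?_
    rw [isConj_iff]
    refine ⟨ψ r, ?_⟩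
    rw [← hr, map_mul, map_mul, map_inv]
  have T3 : ∀ (u : G) (q q' : QuaternionGroup 2), u * ψ q * u⁻¹ = ψ q' →
      IsConj (ψ (a 1)) (ψ q) → IsConj (ψ (a 1)) (ψ q') := by
    intro u q q' h hT
    refine hT.trans ?_
    rw [isConj_iff]
    exact ⟨u, h⟩
  have T3' : ∀ (u : G) (q q' : QuaternionGroup 2), u * ψ q * u⁻¹ = ψ q' →
      IsConj (ψ (a 1)) (ψ q') → IsConj (ψ (a 1)) (ψ q) := by
    intro u q q' h hT
    apply T3 u⁻¹ q' q _ hT
    rw [← h]; group
  by_cases hiso1 : ∀ (u : G) (q q' : QuaternionGroup 2), (q = a 1 ∨ q = (a 1)⁻¹) →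
      u * ψ q * u⁻¹ = ψ q' → (q' = a 1 ∨ q' = (a 1)⁻¹)
  · obtain ⟨M, hMn, hMi⟩ := exists_index_two_of_isolated S e (a 1) q8_a1 hiso1
    exact hno M hMn hMi
  · push Not at hiso1
    obtain ⟨u, q, y, hq, hconj, hy1, hy2⟩ := hiso1
    have hq4 : IsO4 q := by
      rcases hq with rfl | rfl
      · exact q8_a1
      · exact q8_inv_o4 _ q8_a1
    have hy4 : IsO4 y := isO4_of_conj _ e u hconj hq4
    have hTq : IsConj (ψ (a 1)) (ψ q) := by
      rcases hq with rfl | rfl
      · exact IsConj.refl _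
      · exact T2 _ q8_a1 (IsConj.refl _)
    have hTy : IsConj (ψ (a 1)) (ψ y) := T3 u q y hconj hTq
    have hTy' : IsConj (ψ (a 1)) (ψ y⁻¹) := T2 y hy4 hTy
    have hTa' : IsConj (ψ (a 1)) (ψ (a 1)⁻¹) := T2 _ q8_a1 (IsConj.refl _)
    -- qs is isolated
    have hqs' : ¬ IsConj (ψ (a 1)) (ψ qs⁻¹) := by
      intro h
      apply hcon
      have := T2 _ (q8_inv_o4 qs hqs4) h
      rwa [inv_inv] at this
    have hisos : ∀ (u : G) (q q' : QuaternionGroup 2), (q = qs ∨ q = qs⁻¹) →
        u * ψ q * u⁻¹ = ψ q' → (q' = qs ∨ q' = qs⁻¹) := by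
      intro v q w hq hvw
      have hq4 : IsO4 q := by
        rcases hq with rfl | rfl
        · exact hqs4
        · exact q8_inv_o4 _ hqs4
      have hw4 : IsO4 w := isO4_of_conj _ e v hvw hq4
      have hnTq : ¬ IsConj (ψ (a 1)) (ψ q) := by
        rcases hq with rfl | rfl
        · exact hcon
        · exact hqs'
      have hnTw : ¬ IsConj (ψ (a 1)) (ψ w) := fun h => hnTq (T3' v q w hvw h)
      apply q8_third y qs w hy4 hqs4 hw4 hy1 hy2
      · rintro rfl; exact hcon (IsConj.refl _)
      · rintro rfl; exact hcon hTa'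
      · rintro rfl; exact hcon hTy
      · rintro rfl; exact hcon hTy'
      · rintro rfl; exact hnTw (IsConj.refl _)
      · rintro rfl; exact hnTw hTa'
      · rintro rfl; exact hnTw hTy
      · rintro rfl; exact hnTw hTy'
    obtain ⟨M, hMn, hMi⟩ := exists_index_two_of_isolated S e qs hqs4 hisos
    exact hno M hMn hMi

end Cfsg.Agent.Lib.Helper46
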