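import Cfsg.Prelude.Def_LocalEven

set_option autoImplicit false

namespace Cfsg.Agent.Lib.Helper46

open Cfsg Matrix

/-- The affine subgroup of `SL₃(R)`: matrices with last row `(0, 0, 1)`. -/
def affSub (R : Type*) [CommRing R] : Subgroup (Matrix.SpecialLinearGroup (Fin 3) R) where
  carrier := {M | (M : Matrix (Fin 3) (Fin 3) R) 2 0 = 0 ∧
    (M : Matrix (Fin 3) (Fin 3) R) 2 1 = 0 ∧ (M : Matrix (Fin 3) (Fin 3) R) 2 2 = 1}
  one_mem' := by simp
  mul_mem' := by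
    rintro M N ⟨hM0, hM1, hM2⟩ ⟨hN0, hN1, hN2⟩
    simp only [Set.mem_ofPred_eq, Matrix.SpecialLinearGroup.coe_mul, Matrix.mul_apply,
      Fin.sum_univ_three, hM0, hM1, hM2, hN0, hN1, hN2]
    simp
  inv_mem' := by
    rintro M ⟨hM0, hM1, hM2⟩
    have h : (M : Matrix (Fin 3) (Fin 3) R) * ((M⁻¹ : Matrix.SpecialLinearGroup (Fin 3) R) :
        Matrix (Fin 3) (Fin 3) R) = 1 := by
      rw [← Matrix.SpecialLinearGroup.coe_mul, mul_inv_cancel, Matrix.SpecialLinearGroup.coe_one]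
    have key : ∀ j, ((M⁻¹ : Matrix.SpecialLinearGroup (Fin 3) R) :
        Matrix (Fin 3) (Fin 3) R) 2 j = (1 : Matrix (Fin 3) (Fin 3) R) 2 j := by
      intro j
      have := congrFun (congrFun h 2) j
      rw [Matrix.mul_apply, Fin.sum_univ_three, hM0, hM1, hM2] at this
      simpa using this
    refine ⟨?_, ?_, ?_⟩
    · rw [key 0]; simp
    · rw [key 1]; simp
    · rw [key 2]; simp

theorem mem_affSub {R : Type*} [CommRing R] (M : Matrix.SpecialLinearGroup (Fin 3) R) :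
    M ∈ affSub R ↔ (M : Matrix (Fin 3) (Fin 3) R) 2 0 = 0 ∧
      (M : Matrix (Fin 3) (Fin 3) R) 2 1 = 0 ∧ (M : Matrix (Fin 3) (Fin 3) R) 2 2 = 1 := Iff.rfl

theorem qd_eq_affSub (p : ℕ) : qd p = affSub (ZMod p) := by
  unfold qd
  apply le_antisymm
  · rw [Subgroup.closure_le]
    intro M hM
    exact hM
  · intro M hM
    exact Subgroup.subset_closure hM

theorem qdOver_eq_affSub (F : Type*) [Field F] : qdOver F = affSub F := by
  unfold qdOver
  apply le_antisymm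
  · rw [Subgroup.closure_le]
    intro M hM
    exact hM
  · intro M hM
    exact Subgroup.subset_closure hM

theorem mem_qd (p : ℕ) (M : Matrix.SpecialLinearGroup (Fin 3) (ZMod p)) :
    M ∈ qd p ↔ (M : Matrix (Fin 3) (Fin 3) (ZMod p)) 2 0 = 0 ∧
      (M : Matrix (Fin 3) (Fin 3) (ZMod p)) 2 1 = 0 ∧
      (M : Matrix (Fin 3) (Fin 3) (ZMod p)) 2 2 = 1 := by
  rw [qd_eq_affSub]; exact Iff.rfl

theorem mem_qdOver (F : Type*) [Field F] (M : Matrix.SpecialLinearGroup (Fin 3) F) :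
    M ∈ qdOver F ↔ (M : Matrix (Fin 3) (Fin 3) F) 2 0 = 0 ∧
      (M : Matrix (Fin 3) (Fin 3) F) 2 1 = 0 ∧ (M : Matrix (Fin 3) (Fin 3) F) 2 2 = 1 := by
  rw [qdOver_eq_affSub]; exact Iff.rfl

end Cfsg.Agent.Lib.Helper46
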