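import Mathlib
import Cfsg.Prelude.Def_LocalEven

/-!
# `SL₂(F)`: the unipotent subgroup, its conjugates, and the natural module

* `uMat t` the matrix `!![1, t; 0, 1]`, `upperU F` the subgroup of these matrices.
* every `p`-subgroup of `SL₂(F)` (`F` finite of characteristic `p`) is conjugate into `upperU F`.
-/

set_option autoImplicit false

namespace Cfsg.Agent.Lib.Helper46

open Cfsg Matrix

section basic

variable {F : Type*} [Field F]

/-- The matrix `!![1, t; 0, 1]` in `SL₂(F)`. -/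
def uMat (t : F) : Matrix.SpecialLinearGroup (Fin 2) F :=
  ⟨!![1, t; 0, 1], by simp [Matrix.det_fin_two_of]⟩

@[simp] theorem uMat_coe (t : F) :
    ((uMat t : Matrix.SpecialLinearGroup (Fin 2) F) : Matrix (Fin 2) (Fin 2) F) = !![1, t; 0, 1] := rfl

theorem uMat_zero : uMat (0 : F) = 1 := by
  apply Matrix.SpecialLinearGroup.ext
  intro i j
  fin_cases i <;> fin_cases j <;> simp [uMat]

theorem uMat_add (s t : F) : uMat (s + t) = uMat s * uMat t := by
  apply Subtype.ext
  show !![1, s + t; 0, 1] = !![1, s; 0, 1] * !![1, t; 0, 1]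
  rw [Matrix.mul_fin_two]
  simp [add_comm]

theorem uMat_injective : Function.Injective (uMat : F → Matrix.SpecialLinearGroup (Fin 2) F) := by
  intro s t h
  have := congrArg (fun A : Matrix.SpecialLinearGroup (Fin 2) F =>
    (A : Matrix (Fin 2) (Fin 2) F) 0 1) h
  simpa [uMat] using this

theorem uMat_neg (t : F) : uMat (-t) = (uMat t)⁻¹ := by
  rw [eq_inv_iff_mul_eq_one, ← uMat_add, neg_add_cancel, uMat_zero]

theorem uMat_nsmul (t : F) (m : ℕ) : (uMat t) ^ m = uMat (m • t) := by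
  induction m with
  | zero => rw [pow_zero, zero_smul, uMat_zero]
  | succ k ih => rw [pow_succ, ih, ← uMat_add, succ_nsmul]

/-- The group of upper unitriangular matrices in `SL₂(F)`. -/
def upperU (F : Type*) [Field F] : Subgroup (Matrix.SpecialLinearGroup (Fin 2) F) where
  carrier := {A | ∃ t : F, A = uMat t}
  one_mem' := ⟨0, uMat_zero.symm⟩
  mul_mem' := by
    rintro _ _ ⟨s, rfl⟩ ⟨t, rfl⟩
    exact ⟨s + t, (uMat_add s t).symm⟩
  inv_mem' := by
    rintro _ ⟨s, rfl⟩
    exact ⟨-s, (uMat_neg s).symm⟩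

theorem mem_upperU_iff_exists (A : Matrix.SpecialLinearGroup (Fin 2) F) :
    A ∈ upperU F ↔ ∃ t : F, A = uMat t := Iff.rfl

theorem uMat_mem (t : F) : uMat t ∈ upperU F := ⟨t, rfl⟩

theorem mem_upperU_iff (A : Matrix.SpecialLinearGroup (Fin 2) F) :
    A ∈ upperU F ↔ (A : Matrix (Fin 2) (Fin 2) F) 0 0 = 1 ∧ (A : Matrix (Fin 2) (Fin 2) F) 1 0 = 0 := by
  constructor
  · rintro ⟨t, rfl⟩
    simp [uMat]
  · rintro ⟨h00, h10⟩
    refine ⟨(A : Matrix (Fin 2) (Fin 2) F) 0 1, ?_⟩
    have hdet := A.2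
    rw [Matrix.det_fin_two, h00, h10, mul_zero, sub_zero, one_mul] at hdet
    apply Matrix.SpecialLinearGroup.ext
    intro i j
    fin_cases i <;> fin_cases j <;> simp [uMat, h00, h10, hdet]

/-- `A ∈ upperU F` iff `A` fixes the first basis vector. -/
theorem mem_upperU_iff_mulVec (A : Matrix.SpecialLinearGroup (Fin 2) F) :
    A ∈ upperU F ↔ (A : Matrix (Fin 2) (Fin 2) F).mulVec ![1, 0] = ![1, 0] := by
  rw [mem_upperU_iff]
  constructor
  · rintro ⟨h00, h10⟩
    ext i
    fin_cases i <;> simp [Matrix.mulVec, dotProduct, Fin.sum_univ_two, h00, h10]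
  · intro h
    have h0 := congrFun h 0
    have h1 := congrFun h 1
    simp [Matrix.mulVec, dotProduct, Fin.sum_univ_two] at h0 h1
    exact ⟨h0, h1⟩

theorem upperU_isPGroup (p : ℕ) [Fact p.Prime] [CharP F p] : IsPGroup p (upperU F) := by
  rintro ⟨A, t, rfl⟩
  refine ⟨1, ?_⟩
  apply Subtype.ext
  rw [pow_one]
  show (uMat t) ^ p = 1
  rw [uMat_nsmul, nsmul_eq_mul, CharP.cast_eq_zero, zero_mul, uMat_zero]

/-- The equivalence `F ≃ upperU F`. -/
noncomputable def upperUEquiv (F : Type*) [Field F] : F ≃ upperU F :=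
  Equiv.ofBijective (fun t => ⟨uMat t, uMat_mem t⟩)
    ⟨fun _ _ h => uMat_injective (congrArg Subtype.val h), fun ⟨_, t, ht⟩ => ⟨t, Subtype.ext ht.symm⟩⟩

theorem card_upperU : Nat.card (upperU F) = Nat.card F :=
  (Nat.card_congr (upperUEquiv F)).symm

/-- For every nonzero vector `v` there is a matrix in `SL₂(F)` with first column `v`. -/
theorem exists_sl2_mulVec_eq (v : Fin 2 → F) (hv : v ≠ 0) :
    ∃ g : Matrix.SpecialLinearGroup (Fin 2) F,
      (g : Matrix (Fin 2) (Fin 2) F).mulVec ![1, 0] = v := by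
  by_cases h0 : v 0 = 0
  · have h1 : v 1 ≠ 0 := by
      intro h1
      apply hv
      ext i
      fin_cases i
      · exact h0
      · exact h1
    refine ⟨⟨!![0, -(v 1)⁻¹; v 1, 0], ?_⟩, ?_⟩
    · rw [Matrix.det_fin_two_of]
      field_simp
      ring
    · ext i
      fin_cases i <;> simp [Matrix.mulVec, dotProduct, Fin.sum_univ_two, h0]
  · refine ⟨⟨!![v 0, 0; v 1, (v 0)⁻¹], ?_⟩, ?_⟩
    · rw [Matrix.det_fin_two_of]
      field_simp
      ring
    · ext i
      fin_cases i <;> simp [Matrix.mulVec, dotProduct, Fin.sum_univ_two]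

end basic

section finite

variable {F : Type*} [Field F] [Finite F] {p : ℕ} [Fact p.Prime] [CharP F p]

/-- The action of a subgroup of `SL₂(F)` on column vectors. -/
@[instance_reducible]
noncomputable def sl2SubAction (P : Subgroup (Matrix.SpecialLinearGroup (Fin 2) F)) :
    MulAction P (Fin 2 → F) :=
  MulAction.compHom (Fin 2 → F) ((Matrix.SpecialLinearGroup.toLin' (n := Fin 2) (R := F)).comp P.subtype)

/-- Every `p`-subgroup of `SL₂(F)` fixes a nonzero vector. -/
theorem exists_fixed_vector (P : Subgroup (Matrix.SpecialLinearGroup (Fin 2) F))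
    (hP : IsPGroup p P) :
    ∃ v : Fin 2 → F, v ≠ 0 ∧ ∀ A ∈ P, (A : Matrix (Fin 2) (Fin 2) F).mulVec v = v := by
  let _ : MulAction P (Fin 2 → F) := sl2SubAction P
  have hsmul : ∀ (A : P) (v : Fin 2 → F),
      A • v = ((A : Matrix.SpecialLinearGroup (Fin 2) F) : Matrix (Fin 2) (Fin 2) F).mulVec v := by
    intro A v
    rfl
  have hcard : p ∣ Nat.card (Fin 2 → F) := by
    have hF : p ∣ Nat.card F := by
      have : Fintype F := Fintype.ofFinite F
      obtain ⟨n, -, hn⟩ := FiniteField.card F p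
      rw [Nat.card_eq_fintype_card, hn]
      exact dvd_pow_self p n.ne_zero
    rw [Nat.card_fun, Nat.card_eq_fintype_card (α := Fin 2), Fintype.card_fin]
    exact dvd_trans hF (dvd_pow_self _ (by norm_num))
  have h0 : (0 : Fin 2 → F) ∈ MulAction.fixedPoints P (Fin 2 → F) := by
    intro A
    exact (hsmul A 0).trans (Matrix.mulVec_zero _)
  obtain ⟨b, hb, hb0⟩ := hP.exists_fixed_point_of_prime_dvd_card_of_fixed_point (Fin 2 → F) hcard h0
  refine ⟨b, fun h => hb0 h.symm, fun A hA => ?_⟩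
  exact (hsmul ⟨A, hA⟩ b).symm.trans (hb ⟨A, hA⟩)

/-- Every `p`-subgroup of `SL₂(F)` is conjugate into `upperU F`. -/
theorem exists_conj_le_upperU (P : Subgroup (Matrix.SpecialLinearGroup (Fin 2) F))
    (hP : IsPGroup p P) :
    ∃ g : Matrix.SpecialLinearGroup (Fin 2) F, ∀ A ∈ P, g⁻¹ * A * g ∈ upperU F := by
  obtain ⟨v, hv0, hv⟩ := exists_fixed_vector P hP
  obtain ⟨g, hg⟩ := exists_sl2_mulVec_eq v hv0
  refine ⟨g, fun A hA => ?_⟩
  rw [mem_upperU_iff_mulVec]
  have hginv : ((g⁻¹ : Matrix.SpecialLinearGroup (Fin 2) F) : Matrix (Fin 2) (Fin 2) F) *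
      (g : Matrix (Fin 2) (Fin 2) F) = 1 := by
    rw [← Matrix.SpecialLinearGroup.coe_mul, inv_mul_cancel, Matrix.SpecialLinearGroup.coe_one]
  rw [Matrix.SpecialLinearGroup.coe_mul, Matrix.SpecialLinearGroup.coe_mul,
    ← Matrix.mulVec_mulVec, ← Matrix.mulVec_mulVec, hg, hv A hA, ← hg, Matrix.mulVec_mulVec, hginv,
    Matrix.one_mulVec]

end finite

end Cfsg.Agent.Lib.Helper46
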