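import Mathlib
import Cfsg.Prelude.Def_LocalEven
import Cfsg.Agent.Lib.Helper46.SL2

/-!
# Natural `SL₂(F)`-modules inside an ambient group: a normal form

Given `IsNaturalSL2Module F V L` with `L` faithful on `V` and a Sylow `p`-subgroup `S` of `L`,
the data `(ρ, ψ)` may be chosen so that `ρ` maps `S` onto the upper unitriangular group.
-/

set_option autoImplicit false

namespace Cfsg.Agent.Lib.Helper46

open Cfsg Matrix

theorem natural_normal_form {G : Type*} [Group G] {p : ℕ} [Fact p.Prime] {F : Type*} [Field F]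
    [Finite F] [CharP F p] (V L : Subgroup G) (hnat : IsNaturalSL2Module F V L)
    (hf : L ⊓ Subgroup.centralizer (V : Set G) = ⊥) (S : Sylow p L) :
    ∃ (ρ : L →* Matrix.SpecialLinearGroup (Fin 2) F) (ψ : Additive V ≃+ (Fin 2 → F)),
      Function.Bijective ρ ∧ (∀ l : L, l ∈ (S : Subgroup L) ↔ ρ l ∈ upperU F) ∧
      ∀ (l : L) (v : V), ∃ w : V, (w : G) = (l : G) * (v : G) * (l : G)⁻¹ ∧
        ψ (Additive.ofMul w) =
          ((ρ l : Matrix.SpecialLinearGroup (Fin 2) F) : Matrix (Fin 2) (Fin 2) F).mulVec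
            (ψ (Additive.ofMul v)) := by
  obtain ⟨hLN, ρ, ψ, hsurj, hker, hconj⟩ := hnat
  have hinj : Function.Injective ρ := by
    rw [← MonoidHom.ker_eq_bot_iff, hker, Subgroup.subgroupOf_eq_bot, disjoint_iff, inf_comm]
    exact hf
  have hP : IsPGroup p ((S : Subgroup L).map ρ) := S.isPGroup'.map ρ
  obtain ⟨g, hg⟩ := exists_conj_le_upperU _ hP
  set ρ' : L →* Matrix.SpecialLinearGroup (Fin 2) F := (MulAut.conj g⁻¹).toMonoidHom.comp ρ with hρ'
  have hρ'app : ∀ l, ρ' l = g⁻¹ * ρ l * g := by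
    intro l
    simp [hρ']
  have hinj' : Function.Injective ρ' := by
    rw [hρ']
    exact (MulAut.conj g⁻¹).injective.comp hinj
  have hsurj' : Function.Surjective ρ' := by
    rw [hρ']
    exact (MulAut.conj g⁻¹).surjective.comp hsurj
  have hQ : IsPGroup p ((upperU F).comap ρ') := (upperU_isPGroup p).comap_of_injective ρ' hinj'
  have hle : (S : Subgroup L) ≤ (upperU F).comap ρ' := by
    intro l hl
    rw [Subgroup.mem_comap, hρ'app]
    exact hg _ ⟨l, hl, rfl⟩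
  have hQS : (upperU F).comap ρ' = (S : Subgroup L) := S.is_maximal' hQ hle
  refine ⟨ρ', ψ.trans (Matrix.SpecialLinearGroup.toLin' g⁻¹).toAddEquiv, ⟨hinj', hsurj'⟩, ?_, ?_⟩
  · intro l
    rw [← hQS, Subgroup.mem_comap]
  · intro l v
    obtain ⟨w, hw, hψ⟩ := hconj l v
    refine ⟨w, hw, ?_⟩
    have hlin : ∀ x : Fin 2 → F, (Matrix.SpecialLinearGroup.toLin' g⁻¹).toAddEquiv x =
        ((g⁻¹ : Matrix.SpecialLinearGroup (Fin 2) F) : Matrix (Fin 2) (Fin 2) F).mulVec x := by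
      intro x
      rfl
    have hgg : ((g : Matrix (Fin 2) (Fin 2) F)) *
        ((g⁻¹ : Matrix.SpecialLinearGroup (Fin 2) F) : Matrix (Fin 2) (Fin 2) F) = 1 := by
      rw [← Matrix.SpecialLinearGroup.coe_mul, mul_inv_cancel, Matrix.SpecialLinearGroup.coe_one]
    rw [AddEquiv.trans_apply, AddEquiv.trans_apply, hlin, hlin, hψ, hρ'app,
      Matrix.SpecialLinearGroup.coe_mul, Matrix.SpecialLinearGroup.coe_mul,
      Matrix.mulVec_mulVec, Matrix.mulVec_mulVec, Matrix.mul_assoc, Matrix.mul_assoc, hgg,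
      Matrix.mul_one]

/-- Coordinates for a faithful natural `SL₂(F)`-module `V` of `L` inside an ambient group. -/
structure NatCoords {G : Type*} [Group G] (F : Type*) [Field F] (V L : Subgroup G) where
  /-- the isomorphism of `L` with `SL₂(F)` -/
  ρ : L →* Matrix.SpecialLinearGroup (Fin 2) F
  /-- the coordinates on `V` -/
  ψ : Additive V ≃+ (Fin 2 → F)
  bij : Function.Bijective ρ
  conj : ∀ (l : L) (v : V), ∃ w : V, (w : G) = (l : G) * (v : G) * (l : G)⁻¹ ∧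
        ψ (Additive.ofMul w) =
          ((ρ l : Matrix.SpecialLinearGroup (Fin 2) F) : Matrix (Fin 2) (Fin 2) F).mulVec
            (ψ (Additive.ofMul v))

theorem exists_natCoords {G : Type*} [Group G] {p : ℕ} [Fact p.Prime] {F : Type*} [Field F]
    [Finite F] [CharP F p] (V L : Subgroup G) (hnat : IsNaturalSL2Module F V L)
    (hf : L ⊓ Subgroup.centralizer (V : Set G) = ⊥) (S : Sylow p L) :
    ∃ D : NatCoords F V L, ∀ l : L, l ∈ (S : Subgroup L) ↔ D.ρ l ∈ upperU F := by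
  obtain ⟨ρ, ψ, hb, hS, hc⟩ := natural_normal_form V L hnat hf S
  exact ⟨⟨ρ, ψ, hb, hc⟩, hS⟩

namespace NatCoords

variable {G : Type*} [Group G] {F : Type*} [Field F] {V L : Subgroup G} (D : NatCoords F V L)

/-- the coordinate vector of an element of `V` -/
def c (v : V) : Fin 2 → F := D.ψ (Additive.ofMul v)

theorem c_mul (v w : V) : D.c (v * w) = D.c v + D.c w := by
  unfold c
  rw [ofMul_mul, map_add]

theorem c_one : D.c 1 = 0 := by
  unfold c
  rw [ofMul_one, map_zero]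

theorem c_inv (v : V) : D.c v⁻¹ = - D.c v := by
  unfold c
  rw [ofMul_inv, map_neg]

theorem c_injective : Function.Injective D.c := by
  intro v w h
  have := D.ψ.injective h
  exact Additive.ofMul.injective this

theorem c_surjective : Function.Surjective D.c := by
  intro x
  obtain ⟨a, ha⟩ := D.ψ.surjective x
  exact ⟨Additive.toMul a, ha⟩

theorem c_eq_zero_iff (v : V) : D.c v = 0 ↔ v = 1 := by
  constructor
  · intro h
    apply D.c_injective
    rw [h, c_one]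
  · rintro rfl
    exact D.c_one

include D in
theorem conj_mem {l v : G} (hl : l ∈ L) (hv : v ∈ V) : l * v * l⁻¹ ∈ V := by
  obtain ⟨w, hw, -⟩ := D.conj ⟨l, hl⟩ ⟨v, hv⟩
  rw [← hw]
  exact w.2

theorem c_conj {l v : G} (hl : l ∈ L) (hv : v ∈ V) :
    D.c ⟨l * v * l⁻¹, D.conj_mem hl hv⟩ =
      ((D.ρ ⟨l, hl⟩ : Matrix.SpecialLinearGroup (Fin 2) F) : Matrix (Fin 2) (Fin 2) F).mulVec
        (D.c ⟨v, hv⟩) := by
  obtain ⟨w, hw, hψ⟩ := D.conj ⟨l, hl⟩ ⟨v, hv⟩
  have : w = ⟨l * v * l⁻¹, D.conj_mem hl hv⟩ := Subtype.ext hw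
  rw [← this]
  exact hψ

theorem commute_iff {l v : G} (hl : l ∈ L) (hv : v ∈ V) :
    l * v = v * l ↔
      ((D.ρ ⟨l, hl⟩ : Matrix.SpecialLinearGroup (Fin 2) F) : Matrix (Fin 2) (Fin 2) F).mulVec
        (D.c ⟨v, hv⟩) = D.c ⟨v, hv⟩ := by
  rw [← D.c_conj hl hv]
  constructor
  · intro h
    congr 1
    apply Subtype.ext
    show l * v * l⁻¹ = v
    rw [h, mul_inv_cancel_right]
  · intro h
    have := congrArg Subtype.val (D.c_injective h)
    simp only at this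
    calc l * v = (l * v * l⁻¹) * l := by group
      _ = v * l := by rw [this]

include D in
theorem comm_mem {l v : G} (hl : l ∈ L) (hv : v ∈ V) : v * l * v⁻¹ * l⁻¹ ∈ V := by
  have h1 := D.conj_mem hl (V.inv_mem hv)
  have : v * l * v⁻¹ * l⁻¹ = v * (l * v⁻¹ * l⁻¹) := by group
  rw [this]
  exact V.mul_mem hv h1

theorem c_comm {l v : G} (hl : l ∈ L) (hv : v ∈ V) :
    D.c ⟨v * l * v⁻¹ * l⁻¹, D.comm_mem hl hv⟩ = D.c ⟨v, hv⟩ -
      ((D.ρ ⟨l, hl⟩ : Matrix.SpecialLinearGroup (Fin 2) F) : Matrix (Fin 2) (Fin 2) F).mulVec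
        (D.c ⟨v, hv⟩) := by
  have h1 : (⟨v * l * v⁻¹ * l⁻¹, D.comm_mem hl hv⟩ : V) =
      ⟨v, hv⟩ * (⟨l * v * l⁻¹, D.conj_mem hl hv⟩ : V)⁻¹ := by
    apply Subtype.ext
    show v * l * v⁻¹ * l⁻¹ = v * (l * v * l⁻¹)⁻¹
    group
  rw [h1, c_mul, c_inv, c_conj, sub_eq_add_neg]

/-- the elements of `V` whose second coordinate vanishes -/
def lineSub : Subgroup G where
  carrier := {g | ∃ hv : g ∈ V, D.c ⟨g, hv⟩ 1 = 0}
  one_mem' := ⟨V.one_mem, by
    have : (⟨1, V.one_mem⟩ : V) = 1 := rfl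
    rw [this, c_one]; rfl⟩
  mul_mem' := by
    rintro a b ⟨ha, ha0⟩ ⟨hb, hb0⟩
    refine ⟨V.mul_mem ha hb, ?_⟩
    have : (⟨a * b, V.mul_mem ha hb⟩ : V) = ⟨a, ha⟩ * ⟨b, hb⟩ := rfl
    rw [this, c_mul, Pi.add_apply, ha0, hb0, add_zero]
  inv_mem' := by
    rintro a ⟨ha, ha0⟩
    refine ⟨V.inv_mem ha, ?_⟩
    have : (⟨a⁻¹, V.inv_mem ha⟩ : V) = (⟨a, ha⟩ : V)⁻¹ := rfl
    rw [this, c_inv, Pi.neg_apply, ha0, neg_zero]

theorem mem_lineSub {g : G} : g ∈ D.lineSub ↔ ∃ hv : g ∈ V, D.c ⟨g, hv⟩ 1 = 0 := Iff.rfl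

theorem lineSub_le : D.lineSub ≤ V := fun _ ⟨hv, _⟩ => hv

end NatCoords

theorem uMat_mulVec {F : Type*} [Field F] (a : F) (x : Fin 2 → F) :
    ((uMat a : Matrix.SpecialLinearGroup (Fin 2) F) : Matrix (Fin 2) (Fin 2) F).mulVec x =
      ![x 0 + a * x 1, x 1] := by
  ext i
  fin_cases i <;> simp [uMat, Matrix.mulVec, dotProduct, Fin.sum_univ_two]

end Cfsg.Agent.Lib.Helper46
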