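import Mathlib
import Cfsg.Prelude.Def_LocalEven
import Cfsg.Agent.Lib.Helper46.SL2Nat

/-!
# More on `SL₂(F)` and its natural module: Borel subgroup, torus, stabilizers of vectors
-/

set_option autoImplicit false

namespace Cfsg.Agent.Lib.Helper46

open Cfsg Matrix

section mat

variable {F : Type*} [Field F]

theorem sl2_inv_coe (M : Matrix.SpecialLinearGroup (Fin 2) F) :
    ((M⁻¹ : Matrix.SpecialLinearGroup (Fin 2) F) : Matrix (Fin 2) (Fin 2) F) =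
      !![(M : Matrix (Fin 2) (Fin 2) F) 1 1, -(M : Matrix (Fin 2) (Fin 2) F) 0 1;
        -(M : Matrix (Fin 2) (Fin 2) F) 1 0, (M : Matrix (Fin 2) (Fin 2) F) 0 0] := by
  rw [Matrix.SpecialLinearGroup.coe_inv, Matrix.adjugate_fin_two]

theorem sl2_det_eq (M : Matrix.SpecialLinearGroup (Fin 2) F) :
    (M : Matrix (Fin 2) (Fin 2) F) 0 0 * (M : Matrix (Fin 2) (Fin 2) F) 1 1 -
      (M : Matrix (Fin 2) (Fin 2) F) 0 1 * (M : Matrix (Fin 2) (Fin 2) F) 1 0 = 1 := by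
  have := M.2
  rwa [Matrix.det_fin_two] at this

/-- Upper triangular matrices normalize the upper unitriangular group. -/
theorem upperU_conj_iff (M : Matrix.SpecialLinearGroup (Fin 2) F)
    (hM : (M : Matrix (Fin 2) (Fin 2) F) 1 0 = 0) (A : Matrix.SpecialLinearGroup (Fin 2) F) :
    M * A * M⁻¹ ∈ upperU F ↔ A ∈ upperU F := by
  have hdet := sl2_det_eq M
  rw [hM, mul_zero, sub_zero] at hdet
  have h11 : (M : Matrix (Fin 2) (Fin 2) F) 1 1 ≠ 0 := by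
    intro h
    rw [h, mul_zero] at hdet
    exact zero_ne_one hdet
  rw [mem_upperU_iff, mem_upperU_iff]
  have e10 : ((M * A * M⁻¹ : Matrix.SpecialLinearGroup (Fin 2) F) : Matrix (Fin 2) (Fin 2) F) 1 0 =
      (M : Matrix (Fin 2) (Fin 2) F) 1 1 ^ 2 * (A : Matrix (Fin 2) (Fin 2) F) 1 0 := by
    rw [Matrix.SpecialLinearGroup.coe_mul, Matrix.SpecialLinearGroup.coe_mul, sl2_inv_coe]
    simp only [Matrix.mul_apply, Fin.sum_univ_two, hM]
    simp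
    ring
  have e00 : ((M * A * M⁻¹ : Matrix.SpecialLinearGroup (Fin 2) F) : Matrix (Fin 2) (Fin 2) F) 0 0 =
      (A : Matrix (Fin 2) (Fin 2) F) 0 0 + (M : Matrix (Fin 2) (Fin 2) F) 0 1 *
        (M : Matrix (Fin 2) (Fin 2) F) 1 1 * (A : Matrix (Fin 2) (Fin 2) F) 1 0 := by
    rw [Matrix.SpecialLinearGroup.coe_mul, Matrix.SpecialLinearGroup.coe_mul, sl2_inv_coe]
    simp only [Matrix.mul_apply, Fin.sum_univ_two, hM]
    simp
    linear_combination ((A : Matrix (Fin 2) (Fin 2) F) 0 0) * hdet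
  rw [e10, e00]
  constructor
  · rintro ⟨h0, h1⟩
    have hA10 : (A : Matrix (Fin 2) (Fin 2) F) 1 0 = 0 :=
      (mul_eq_zero.mp h1).resolve_left (pow_ne_zero 2 h11)
    rw [hA10, mul_zero, add_zero] at h0
    exact ⟨h0, hA10⟩
  · rintro ⟨h0, h1⟩
    rw [h0, h1]
    simp

/-- The diagonal matrix `diag(a, a⁻¹)`. -/
def dMat (a : F) (ha : a ≠ 0) : Matrix.SpecialLinearGroup (Fin 2) F :=
  ⟨!![a, 0; 0, a⁻¹], by rw [Matrix.det_fin_two_of]; field_simp; ring⟩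

theorem dMat_apply_one_zero (a : F) (ha : a ≠ 0) :
    ((dMat a ha : Matrix.SpecialLinearGroup (Fin 2) F) : Matrix (Fin 2) (Fin 2) F) 1 0 = 0 := by
  simp [dMat]

theorem dMat_mulVec (a : F) (ha : a ≠ 0) (x : Fin 2 → F) :
    ((dMat a ha : Matrix.SpecialLinearGroup (Fin 2) F) : Matrix (Fin 2) (Fin 2) F).mulVec x =
      ![a * x 0, a⁻¹ * x 1] := by
  ext i
  fin_cases i <;> simp [dMat, Matrix.mulVec, dotProduct, Fin.sum_univ_two]

/-- An element of `SL₂(F)` fixing a nonzero vector has order dividing the characteristic. -/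
theorem pow_char_eq_one_of_fix {p : ℕ} [Fact p.Prime] [CharP F p]
    (A : Matrix.SpecialLinearGroup (Fin 2) F) (w : Fin 2 → F) (hw : w ≠ 0)
    (hA : (A : Matrix (Fin 2) (Fin 2) F).mulVec w = w) : A ^ p = 1 := by
  obtain ⟨g, hg⟩ := exists_sl2_mulVec_eq w hw
  have hginv : ((g⁻¹ : Matrix.SpecialLinearGroup (Fin 2) F) : Matrix (Fin 2) (Fin 2) F) *
      (g : Matrix (Fin 2) (Fin 2) F) = 1 := by
    rw [← Matrix.SpecialLinearGroup.coe_mul, inv_mul_cancel, Matrix.SpecialLinearGroup.coe_one]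
  have hmem : g⁻¹ * A * g ∈ upperU F := by
    rw [mem_upperU_iff_mulVec, Matrix.SpecialLinearGroup.coe_mul, Matrix.SpecialLinearGroup.coe_mul,
      ← Matrix.mulVec_mulVec, ← Matrix.mulVec_mulVec, hg, hA, ← hg, Matrix.mulVec_mulVec, hginv,
      Matrix.one_mulVec]
  obtain ⟨t, ht⟩ := hmem
  have h1 : (g⁻¹ * A * g) ^ p = 1 := by
    rw [ht, uMat_nsmul, nsmul_eq_mul, CharP.cast_eq_zero, zero_mul, uMat_zero]
  have h2 : (g⁻¹ * A * g) ^ p = g⁻¹ * A ^ p * g := by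
    have := map_pow (MulAut.conj g⁻¹) A p
    simpa [MulAut.conj_apply] using this.symm
  rw [h2] at h1
  calc A ^ p = g * (g⁻¹ * A ^ p * g) * g⁻¹ := by group
    _ = 1 := by rw [h1]; group

end mat

namespace NatCoords

variable {G : Type*} [Group G] {F : Type*} [Field F] {V L : Subgroup G} (D : NatCoords F V L)

include D in
/-- `V` is abelian. -/
theorem comm {a b : G} (ha : a ∈ V) (hb : b ∈ V) : a * b = b * a := by
  have h : D.c (⟨a, ha⟩ * ⟨b, hb⟩) = D.c (⟨b, hb⟩ * ⟨a, ha⟩) := by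
    rw [c_mul, c_mul, add_comm]
  exact congrArg Subtype.val (D.c_injective h)

theorem exists_c_eq (x : Fin 2 → F) : ∃ v : G, ∃ hv : v ∈ V, D.c ⟨v, hv⟩ = x := by
  obtain ⟨v, hv⟩ := D.c_surjective x
  exact ⟨v, v.2, hv⟩

theorem exists_ρ_eq (A : Matrix.SpecialLinearGroup (Fin 2) F) :
    ∃ l : G, ∃ hl : l ∈ L, D.ρ ⟨l, hl⟩ = A := by
  obtain ⟨l, hl⟩ := D.bij.2 A
  exact ⟨l, l.2, hl⟩

theorem eq_of_c_eq {v w : G} (hv : v ∈ V) (hw : w ∈ V) (h : D.c ⟨v, hv⟩ = D.c ⟨w, hw⟩) : v = w :=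
  congrArg Subtype.val (D.c_injective h)

theorem c_mul' {v w : G} (hv : v ∈ V) (hw : w ∈ V) :
    D.c ⟨v * w, V.mul_mem hv hw⟩ = D.c ⟨v, hv⟩ + D.c ⟨w, hw⟩ :=
  D.c_mul ⟨v, hv⟩ ⟨w, hw⟩

theorem ρ_mul' {a b : G} (ha : a ∈ L) (hb : b ∈ L) :
    D.ρ ⟨a * b, L.mul_mem ha hb⟩ = D.ρ ⟨a, ha⟩ * D.ρ ⟨b, hb⟩ :=
  map_mul D.ρ ⟨a, ha⟩ ⟨b, hb⟩

theorem ρ_inv' {a : G} (ha : a ∈ L) :
    D.ρ ⟨a⁻¹, L.inv_mem ha⟩ = (D.ρ ⟨a, ha⟩)⁻¹ :=
  map_inv D.ρ ⟨a, ha⟩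

end NatCoords

end Cfsg.Agent.Lib.Helper46
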