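import Mathlib
import Cfsg.Prelude.Def_LocalEven
import Cfsg.Agent.Lib.Helper46.Qd
import Cfsg.Agent.Lib.Helper46.SL2Nat2
import Cfsg.Agent.Lib.Helper46.Ambient

/-!
# Structure of the affine group `Qd = R² ⋊ SL₂(R)` inside `SL₃(R)`

We work with any subgroup `Q` of `SL₃(R)` whose elements are exactly the matrices with last row
`(0, 0, 1)` (`IsAff Q`); this covers `Cfsg.qd p`, `Cfsg.qdOver F` and `affSub R`.
-/

set_option autoImplicit false

namespace Cfsg.Agent.Lib.Helper46

open Cfsg Matrix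

section ring

variable {R : Type*} [CommRing R]

/-- `Q` is the affine subgroup of `SL₃(R)`. -/
def IsAff (Q : Subgroup (Matrix.SpecialLinearGroup (Fin 3) R)) : Prop :=
  ∀ M : Matrix.SpecialLinearGroup (Fin 3) R, M ∈ Q ↔
    (M : Matrix (Fin 3) (Fin 3) R) 2 0 = 0 ∧ (M : Matrix (Fin 3) (Fin 3) R) 2 1 = 0 ∧
      (M : Matrix (Fin 3) (Fin 3) R) 2 2 = 1

theorem isAff_affSub : IsAff (affSub R) := fun _ => Iff.rfl

theorem isAff_qd (p : ℕ) : IsAff (qd p) := fun M => mem_qd p M

theorem isAff_qdOver (F : Type*) [Field F] : IsAff (qdOver F) := fun M => mem_qdOver F M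

variable {Q : Subgroup (Matrix.SpecialLinearGroup (Fin 3) R)} (hQ : IsAff Q)

include hQ in
theorem IsAff.row (M : Q) :
    ((M : Matrix.SpecialLinearGroup (Fin 3) R) : Matrix (Fin 3) (Fin 3) R) 2 0 = 0 ∧
    ((M : Matrix.SpecialLinearGroup (Fin 3) R) : Matrix (Fin 3) (Fin 3) R) 2 1 = 0 ∧
    ((M : Matrix.SpecialLinearGroup (Fin 3) R) : Matrix (Fin 3) (Fin 3) R) 2 2 = 1 :=
  (hQ M.1).mp M.2

include hQ in
theorem IsAff.det_block (M : Q) :
    ((M : Matrix.SpecialLinearGroup (Fin 3) R) : Matrix (Fin 3) (Fin 3) R) 0 0 *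
      ((M : Matrix.SpecialLinearGroup (Fin 3) R) : Matrix (Fin 3) (Fin 3) R) 1 1 -
    ((M : Matrix.SpecialLinearGroup (Fin 3) R) : Matrix (Fin 3) (Fin 3) R) 0 1 *
      ((M : Matrix.SpecialLinearGroup (Fin 3) R) : Matrix (Fin 3) (Fin 3) R) 1 0 = 1 := by
  obtain ⟨h0, h1, h2⟩ := hQ.row M
  have hdet := M.1.2
  rw [Matrix.det_fin_three, h0, h1, h2] at hdet
  linear_combination hdet

/-- entries of a product, using that the last row of the right factor is `(0,0,1)` -/
theorem IsAff.mul_apply (M N : Q) (i j : Fin 3) :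
    (((M * N : Q) : Matrix.SpecialLinearGroup (Fin 3) R) : Matrix (Fin 3) (Fin 3) R) i j =
      ((M : Matrix.SpecialLinearGroup (Fin 3) R) : Matrix (Fin 3) (Fin 3) R) i 0 *
        ((N : Matrix.SpecialLinearGroup (Fin 3) R) : Matrix (Fin 3) (Fin 3) R) 0 j +
      ((M : Matrix.SpecialLinearGroup (Fin 3) R) : Matrix (Fin 3) (Fin 3) R) i 1 *
        ((N : Matrix.SpecialLinearGroup (Fin 3) R) : Matrix (Fin 3) (Fin 3) R) 1 j +
      ((M : Matrix.SpecialLinearGroup (Fin 3) R) : Matrix (Fin 3) (Fin 3) R) i 2 *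
        ((N : Matrix.SpecialLinearGroup (Fin 3) R) : Matrix (Fin 3) (Fin 3) R) 2 j := by
  rw [Subgroup.coe_mul, Matrix.SpecialLinearGroup.coe_mul, Matrix.mul_apply, Fin.sum_univ_three]


/-- The linear part of an affine matrix. -/
def affLin : Q →* Matrix.SpecialLinearGroup (Fin 2) R where
  toFun M := ⟨!![((M : Matrix.SpecialLinearGroup (Fin 3) R) : Matrix (Fin 3) (Fin 3) R) 0 0,
      ((M : Matrix.SpecialLinearGroup (Fin 3) R) : Matrix (Fin 3) (Fin 3) R) 0 1;
      ((M : Matrix.SpecialLinearGroup (Fin 3) R) : Matrix (Fin 3) (Fin 3) R) 1 0,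
      ((M : Matrix.SpecialLinearGroup (Fin 3) R) : Matrix (Fin 3) (Fin 3) R) 1 1], by
    rw [Matrix.det_fin_two_of]; exact hQ.det_block M⟩
  map_one' := by
    apply Matrix.SpecialLinearGroup.ext
    intro i j
    fin_cases i <;> fin_cases j <;> simp
  map_mul' M N := by
    obtain ⟨h0, h1, h2⟩ := hQ.row N
    apply Subtype.ext
    show !![(((M * N : Q) : Matrix.SpecialLinearGroup (Fin 3) R) : Matrix (Fin 3) (Fin 3) R) 0 0,
      (((M * N : Q) : Matrix.SpecialLinearGroup (Fin 3) R) : Matrix (Fin 3) (Fin 3) R) 0 1;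
      (((M * N : Q) : Matrix.SpecialLinearGroup (Fin 3) R) : Matrix (Fin 3) (Fin 3) R) 1 0,
      (((M * N : Q) : Matrix.SpecialLinearGroup (Fin 3) R) : Matrix (Fin 3) (Fin 3) R) 1 1] =
      !![((M : Matrix.SpecialLinearGroup (Fin 3) R) : Matrix (Fin 3) (Fin 3) R) 0 0,
      ((M : Matrix.SpecialLinearGroup (Fin 3) R) : Matrix (Fin 3) (Fin 3) R) 0 1;
      ((M : Matrix.SpecialLinearGroup (Fin 3) R) : Matrix (Fin 3) (Fin 3) R) 1 0,
      ((M : Matrix.SpecialLinearGroup (Fin 3) R) : Matrix (Fin 3) (Fin 3) R) 1 1] *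
      !![((N : Matrix.SpecialLinearGroup (Fin 3) R) : Matrix (Fin 3) (Fin 3) R) 0 0,
      ((N : Matrix.SpecialLinearGroup (Fin 3) R) : Matrix (Fin 3) (Fin 3) R) 0 1;
      ((N : Matrix.SpecialLinearGroup (Fin 3) R) : Matrix (Fin 3) (Fin 3) R) 1 0,
      ((N : Matrix.SpecialLinearGroup (Fin 3) R) : Matrix (Fin 3) (Fin 3) R) 1 1]
    rw [Matrix.mul_fin_two, IsAff.mul_apply, IsAff.mul_apply, IsAff.mul_apply, IsAff.mul_apply,
      h0, h1]
    simp only [mul_zero, add_zero]

theorem affLin_coe (M : Q) :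
    ((affLin hQ M : Matrix.SpecialLinearGroup (Fin 2) R) : Matrix (Fin 2) (Fin 2) R) =
      !![((M : Matrix.SpecialLinearGroup (Fin 3) R) : Matrix (Fin 3) (Fin 3) R) 0 0,
      ((M : Matrix.SpecialLinearGroup (Fin 3) R) : Matrix (Fin 3) (Fin 3) R) 0 1;
      ((M : Matrix.SpecialLinearGroup (Fin 3) R) : Matrix (Fin 3) (Fin 3) R) 1 0,
      ((M : Matrix.SpecialLinearGroup (Fin 3) R) : Matrix (Fin 3) (Fin 3) R) 1 1] := rfl

/-- The translation part (last column) of an affine matrix. -/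
def affCol (M : Q) : Fin 2 → R :=
  ![((M : Matrix.SpecialLinearGroup (Fin 3) R) : Matrix (Fin 3) (Fin 3) R) 0 2,
    ((M : Matrix.SpecialLinearGroup (Fin 3) R) : Matrix (Fin 3) (Fin 3) R) 1 2]

include hQ in
/-- An affine matrix is determined by its linear part and its translation part. -/
theorem IsAff.ext {M N : Q} (h1 : affLin hQ M = affLin hQ N) (h2 : affCol M = affCol N) :
    M = N := by
  obtain ⟨m0, m1, m2⟩ := hQ.row M
  obtain ⟨n0, n1, n2⟩ := hQ.row N
  apply Subtype.ext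
  apply Matrix.SpecialLinearGroup.ext
  intro i j
  have e : ∀ i j : Fin 2, ((affLin hQ M : Matrix.SpecialLinearGroup (Fin 2) R) :
      Matrix (Fin 2) (Fin 2) R) i j = ((affLin hQ N : Matrix.SpecialLinearGroup (Fin 2) R) :
      Matrix (Fin 2) (Fin 2) R) i j := by
    intro i j
    rw [h1]
  have c0 := congrFun h2 0
  have c1 := congrFun h2 1
  fin_cases i <;> fin_cases j
  · exact e 0 0
  · exact e 0 1
  · exact c0
  · exact e 1 0
  · exact e 1 1
  · exact c1
  · show ((M : Matrix.SpecialLinearGroup (Fin 3) R) : Matrix (Fin 3) (Fin 3) R) 2 0 = _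
    rw [m0]; exact n0.symm
  · show ((M : Matrix.SpecialLinearGroup (Fin 3) R) : Matrix (Fin 3) (Fin 3) R) 2 1 = _
    rw [m1]; exact n1.symm
  · show ((M : Matrix.SpecialLinearGroup (Fin 3) R) : Matrix (Fin 3) (Fin 3) R) 2 2 = _
    rw [m2]; exact n2.symm

/-- The affine matrix with linear part `A` and translation part `v`. -/
def affMk (A : Matrix.SpecialLinearGroup (Fin 2) R) (v : Fin 2 → R) : Q :=
  ⟨⟨!![(A : Matrix (Fin 2) (Fin 2) R) 0 0, (A : Matrix (Fin 2) (Fin 2) R) 0 1, v 0;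
       (A : Matrix (Fin 2) (Fin 2) R) 1 0, (A : Matrix (Fin 2) (Fin 2) R) 1 1, v 1;
       0, 0, 1], by
    have := A.2
    rw [Matrix.det_fin_two] at this
    rw [Matrix.det_fin_three]
    simp
    linear_combination this⟩, (hQ _).mpr ⟨rfl, rfl, rfl⟩⟩

@[simp] theorem affLin_affMk (A : Matrix.SpecialLinearGroup (Fin 2) R) (v : Fin 2 → R) :
    affLin hQ (affMk hQ A v) = A := by
  apply Matrix.SpecialLinearGroup.ext
  intro i j
  fin_cases i <;> fin_cases j <;> rfl

@[simp] theorem affCol_affMk (A : Matrix.SpecialLinearGroup (Fin 2) R) (v : Fin 2 → R) :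
    affCol (affMk hQ A v) = v := by
  funext i
  fin_cases i <;> rfl

theorem affMk_eta (M : Q) : affMk hQ (affLin hQ M) (affCol M) = M :=
  hQ.ext (affLin_affMk hQ _ _) (affCol_affMk hQ _ _)

theorem affCol_zero_apply (M : Q) : affCol M 0 =
    ((M : Matrix.SpecialLinearGroup (Fin 3) R) : Matrix (Fin 3) (Fin 3) R) 0 2 := rfl

theorem affCol_one_apply (M : Q) : affCol M 1 =
    ((M : Matrix.SpecialLinearGroup (Fin 3) R) : Matrix (Fin 3) (Fin 3) R) 1 2 := rfl

theorem mulVec_two (A : Matrix (Fin 2) (Fin 2) R) (x : Fin 2 → R) :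
    A.mulVec x = ![A 0 0 * x 0 + A 0 1 * x 1, A 1 0 * x 0 + A 1 1 * x 1] := by
  funext i
  fin_cases i <;> simp [Matrix.mulVec, dotProduct, Fin.sum_univ_two]

theorem affCol_mul (M N : Q) :
    affCol (M * N) = ((affLin hQ M : Matrix.SpecialLinearGroup (Fin 2) R) :
      Matrix (Fin 2) (Fin 2) R).mulVec (affCol N) + affCol M := by
  obtain ⟨h0, h1, h2⟩ := hQ.row N
  rw [mulVec_two, affLin_coe]
  funext i
  fin_cases i
  · show (((M * N : Q) : Matrix.SpecialLinearGroup (Fin 3) R) : Matrix (Fin 3) (Fin 3) R) 0 2 = _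
    rw [IsAff.mul_apply, h2, mul_one]
    rfl
  · show (((M * N : Q) : Matrix.SpecialLinearGroup (Fin 3) R) : Matrix (Fin 3) (Fin 3) R) 1 2 = _
    rw [IsAff.mul_apply, h2, mul_one]
    rfl

theorem affCol_one : affCol (1 : Q) = 0 := by
  funext i
  fin_cases i
  · show (((1 : Q) : Matrix.SpecialLinearGroup (Fin 3) R) : Matrix (Fin 3) (Fin 3) R) 0 2 = 0
    simp
  · show (((1 : Q) : Matrix.SpecialLinearGroup (Fin 3) R) : Matrix (Fin 3) (Fin 3) R) 1 2 = 0
    simp

theorem affMk_mul (A B : Matrix.SpecialLinearGroup (Fin 2) R) (v w : Fin 2 → R) :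
    affMk hQ A v * affMk hQ B w =
      affMk hQ (A * B) ((A : Matrix (Fin 2) (Fin 2) R).mulVec w + v) := by
  apply hQ.ext
  · rw [map_mul, affLin_affMk, affLin_affMk, affLin_affMk]
  · rw [affCol_mul hQ, affLin_affMk, affCol_affMk, affCol_affMk, affCol_affMk]

theorem affMk_one_zero : affMk hQ 1 0 = 1 := by
  apply hQ.ext
  · rw [affLin_affMk, map_one]
  · rw [affCol_affMk, affCol_one]

theorem affMk_inv (A : Matrix.SpecialLinearGroup (Fin 2) R) (v : Fin 2 → R) :
    (affMk hQ A v)⁻¹ = affMk hQ A⁻¹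
      (-((A⁻¹ : Matrix.SpecialLinearGroup (Fin 2) R) : Matrix (Fin 2) (Fin 2) R).mulVec v) := by
  rw [inv_eq_iff_eq_inv, eq_comm, inv_eq_iff_mul_eq_one, affMk_mul, inv_mul_cancel]
  have : ((A⁻¹ : Matrix.SpecialLinearGroup (Fin 2) R) : Matrix (Fin 2) (Fin 2) R).mulVec v +
      -((A⁻¹ : Matrix.SpecialLinearGroup (Fin 2) R) : Matrix (Fin 2) (Fin 2) R).mulVec v = 0 :=
    add_neg_cancel _
  rw [this, affMk_one_zero]

/-- conjugation of a translation by an affine matrix -/
theorem affMk_conj (A : Matrix.SpecialLinearGroup (Fin 2) R) (v w : Fin 2 → R) :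
    affMk hQ A v * affMk hQ 1 w * (affMk hQ A v)⁻¹ =
      affMk hQ 1 ((A : Matrix (Fin 2) (Fin 2) R).mulVec w) := by
  rw [affMk_inv, affMk_mul, affMk_mul]
  apply hQ.ext
  · rw [affLin_affMk, affLin_affMk, mul_one, mul_inv_cancel]
  · rw [affCol_affMk, affCol_affMk, mul_one]
    rw [Matrix.mulVec_neg, Matrix.mulVec_mulVec, ← Matrix.SpecialLinearGroup.coe_mul,
      mul_inv_cancel, Matrix.SpecialLinearGroup.coe_one, Matrix.one_mulVec]
    abel

/-- The translation subgroup: the kernel of the linear part. -/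
def affTransl : Subgroup Q := (affLin hQ).ker

instance affTransl_normal : (affTransl hQ).Normal := by
  unfold affTransl; infer_instance

theorem mem_affTransl_iff (M : Q) : M ∈ affTransl hQ ↔ affLin hQ M = 1 := MonoidHom.mem_ker

theorem mem_affTransl_iff_entries (M : Q) : M ∈ affTransl hQ ↔
    ((M : Matrix.SpecialLinearGroup (Fin 3) R) : Matrix (Fin 3) (Fin 3) R) 0 0 = 1 ∧
    ((M : Matrix.SpecialLinearGroup (Fin 3) R) : Matrix (Fin 3) (Fin 3) R) 0 1 = 0 ∧
    ((M : Matrix.SpecialLinearGroup (Fin 3) R) : Matrix (Fin 3) (Fin 3) R) 1 0 = 0 ∧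
    ((M : Matrix.SpecialLinearGroup (Fin 3) R) : Matrix (Fin 3) (Fin 3) R) 1 1 = 1 := by
  rw [mem_affTransl_iff]
  constructor
  · intro h
    have e : ∀ i j : Fin 2, ((affLin hQ M : Matrix.SpecialLinearGroup (Fin 2) R) :
        Matrix (Fin 2) (Fin 2) R) i j = (1 : Matrix (Fin 2) (Fin 2) R) i j := by
      intro i j
      rw [h]; rfl
    rw [affLin_coe] at e
    refine ⟨?_, ?_, ?_, ?_⟩
    · simpa using e 0 0
    · simpa using e 0 1
    · simpa using e 1 0
    · simpa using e 1 1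
  · rintro ⟨h00, h01, h10, h11⟩
    apply Subtype.ext
    rw [affLin_coe, h00, h01, h10, h11, Matrix.SpecialLinearGroup.coe_one, Matrix.one_fin_two]

theorem mem_affTransl_iff_exists (M : Q) : M ∈ affTransl hQ ↔ ∃ v, M = affMk hQ 1 v := by
  rw [mem_affTransl_iff]
  constructor
  · intro h
    refine ⟨affCol M, ?_⟩
    rw [← h, affMk_eta]
  · rintro ⟨v, rfl⟩
    exact affLin_affMk hQ 1 v

theorem affMk_one_mem (v : Fin 2 → R) : affMk hQ 1 v ∈ affTransl hQ :=
  (mem_affTransl_iff_exists hQ _).mpr ⟨v, rfl⟩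

/-- The block-diagonal subgroup: affine matrices with zero translation part. -/
def affBlockSub : Subgroup Q where
  carrier := {M | affCol M = 0}
  one_mem' := affCol_one
  mul_mem' := by
    intro M N hM hN
    show affCol (M * N) = 0
    rw [affCol_mul hQ, show affCol N = 0 from hN, show affCol M = 0 from hM, Matrix.mulVec_zero,
      add_zero]
  inv_mem' := by
    intro M hM
    show affCol M⁻¹ = 0
    have h1 : affCol M = 0 := hM
    rw [← affMk_eta hQ M, affMk_inv, affCol_affMk, h1, Matrix.mulVec_zero, neg_zero]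

theorem mem_affBlockSub_iff (M : Q) : M ∈ affBlockSub hQ ↔ affCol M = 0 := Iff.rfl

theorem mem_affBlockSub_iff_entries (M : Q) : M ∈ affBlockSub hQ ↔
    ((M : Matrix.SpecialLinearGroup (Fin 3) R) : Matrix (Fin 3) (Fin 3) R) 0 2 = 0 ∧
    ((M : Matrix.SpecialLinearGroup (Fin 3) R) : Matrix (Fin 3) (Fin 3) R) 1 2 = 0 := by
  rw [mem_affBlockSub_iff]
  constructor
  · intro h
    exact ⟨congrFun h 0, congrFun h 1⟩
  · rintro ⟨h0, h1⟩
    funext i
    fin_cases i
    · exact h0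
    · exact h1

theorem mem_affBlockSub_iff_exists (M : Q) : M ∈ affBlockSub hQ ↔ ∃ A, M = affMk hQ A 0 := by
  rw [mem_affBlockSub_iff]
  constructor
  · intro h
    refine ⟨affLin hQ M, ?_⟩
    rw [← h, affMk_eta]
  · rintro ⟨A, rfl⟩
    exact affCol_affMk hQ A 0

theorem affMk_zero_mem (A : Matrix.SpecialLinearGroup (Fin 2) R) : affMk hQ A 0 ∈ affBlockSub hQ :=
  (mem_affBlockSub_iff_exists hQ _).mpr ⟨A, rfl⟩

theorem affBlockSub_inf_affTransl : affBlockSub hQ ⊓ affTransl hQ = ⊥ := by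
  rw [eq_bot_iff]
  intro M hM
  obtain ⟨h1, h2⟩ := hM
  rw [Subgroup.mem_bot]
  apply hQ.ext
  · rw [(mem_affTransl_iff hQ M).mp h2, map_one]
  · rw [(mem_affBlockSub_iff hQ M).mp h1, affCol_one]

theorem affMk_eq_mul (A : Matrix.SpecialLinearGroup (Fin 2) R) (v : Fin 2 → R) :
    affMk hQ A v = affMk hQ 1 v * affMk hQ A 0 := by
  rw [affMk_mul, one_mul, Matrix.SpecialLinearGroup.coe_one, Matrix.one_mulVec, zero_add]

theorem affBlockSub_sup_affTransl : affBlockSub hQ ⊔ affTransl hQ = ⊤ := by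
  rw [eq_top_iff]
  intro M _
  rw [← affMk_eta hQ M, affMk_eq_mul, sup_comm]
  apply Subgroup.mul_mem_sup
  · exact affMk_one_mem hQ _
  · exact affMk_zero_mem hQ _

/-- The block subgroup is isomorphic to `SL₂(R)`. -/
noncomputable def affBlockEquiv : affBlockSub hQ ≃* Matrix.SpecialLinearGroup (Fin 2) R :=
  MulEquiv.ofBijective ((affLin hQ).comp (affBlockSub hQ).subtype) (by
    constructor
    · intro M N h
      apply Subtype.ext
      apply hQ.ext h
      exact ((mem_affBlockSub_iff hQ _).mp M.2).trans ((mem_affBlockSub_iff hQ _).mp N.2).symm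
    · intro A
      exact ⟨⟨affMk hQ A 0, affMk_zero_mem hQ A⟩, affLin_affMk hQ A 0⟩)

theorem affBlockEquiv_apply (M : affBlockSub hQ) : affBlockEquiv hQ M = affLin hQ M := rfl

/-- The translation subgroup is isomorphic to `R²`. -/
noncomputable def affTranslEquiv : Additive (affTransl hQ) ≃+ (Fin 2 → R) :=
  AddEquiv.mk' (Equiv.ofBijective (fun M => affCol (Additive.toMul M : affTransl hQ).1) (by
    constructor
    · intro M N h
      apply Additive.toMul.injective
      apply Subtype.ext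
      apply hQ.ext _ h
      rw [(mem_affTransl_iff hQ _).mp (Additive.toMul M).2,
        (mem_affTransl_iff hQ _).mp (Additive.toMul N).2]
    · intro v
      exact ⟨Additive.ofMul ⟨affMk hQ 1 v, affMk_one_mem hQ v⟩, affCol_affMk hQ 1 v⟩)) (by
    intro M N
    show affCol ((Additive.toMul M : affTransl hQ).1 * (Additive.toMul N : affTransl hQ).1) = _
    rw [affCol_mul hQ, (mem_affTransl_iff hQ _).mp (Additive.toMul M).2,
      Matrix.SpecialLinearGroup.coe_one, Matrix.one_mulVec, add_comm]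
    rfl)

theorem affTranslEquiv_apply (M : affTransl hQ) :
    affTranslEquiv hQ (Additive.ofMul M) = affCol M.1 := rfl

end ring

section field

variable {F : Type*} [Field F] {Q : Subgroup (Matrix.SpecialLinearGroup (Fin 3) F)} (hQ : IsAff Q)

theorem affMk_one_pow (v : Fin 2 → F) (m : ℕ) : (affMk hQ 1 v) ^ m = affMk hQ 1 (m • v) := by
  induction m with
  | zero => rw [pow_zero, zero_smul, affMk_one_zero]
  | succ k ih =>
    rw [pow_succ, ih, affMk_mul, one_mul, Matrix.SpecialLinearGroup.coe_one, Matrix.one_mulVec,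
      succ_nsmul, add_comm]

theorem affTransl_isPGroup (p : ℕ) [Fact p.Prime] [CharP F p] : IsPGroup p (affTransl hQ) := by
  rintro ⟨M, hM⟩
  obtain ⟨v, rfl⟩ := (mem_affTransl_iff_exists hQ M).mp hM
  refine ⟨1, ?_⟩
  apply Subtype.ext
  rw [pow_one]
  show (affMk hQ 1 v) ^ p = 1
  rw [affMk_one_pow]
  have : (p • v : Fin 2 → F) = 0 := by
    funext i
    rw [Pi.smul_apply, nsmul_eq_mul, CharP.cast_eq_zero, zero_mul]
    rfl
  rw [this, affMk_one_zero]

/-- A normal `p`-subgroup of `SL₂(F)` is trivial. -/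
theorem sl2_normal_pGroup_eq_bot {p : ℕ} [Fact p.Prime] [Finite F] [CharP F p]
    (P : Subgroup (Matrix.SpecialLinearGroup (Fin 2) F)) [hn : P.Normal] (hP : IsPGroup p P) :
    P = ⊥ := by
  obtain ⟨g, hg⟩ := exists_conj_le_upperU P hP
  have hPU : ∀ A ∈ P, A ∈ upperU F := by
    intro A hA
    have h1 : g * A * g⁻¹ ∈ P := hn.conj_mem A hA g
    have h2 := hg _ h1
    have h3 : g⁻¹ * (g * A * g⁻¹) * g = A := by group
    rwa [h3] at h2
  rw [eq_bot_iff]
  intro A hA
  rw [Subgroup.mem_bot]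
  obtain ⟨t, rfl⟩ := hPU A hA
  set w : Matrix.SpecialLinearGroup (Fin 2) F := ⟨!![0, -1; 1, 0], by simp [Matrix.det_fin_two_of]⟩
    with hw
  have h1 : w * uMat t * w⁻¹ ∈ upperU F := hPU _ (hn.conj_mem _ hA w)
  rw [mem_upperU_iff] at h1
  have h10 := h1.2
  rw [Matrix.SpecialLinearGroup.coe_mul, Matrix.SpecialLinearGroup.coe_mul, sl2_inv_coe] at h10
  simp [hw, uMat, Matrix.mul_apply, Fin.sum_univ_two] at h10
  rw [h10, uMat_zero]

theorem affLin_surjective : Function.Surjective (affLin hQ) :=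
  fun A => ⟨affMk hQ A 0, affLin_affMk hQ A 0⟩

/-- `O_p` of the affine group is the translation subgroup. -/
theorem pCore_eq_affTransl (p : ℕ) [Fact p.Prime] [Finite F] [CharP F p] :
    pCore p Q = affTransl hQ := by
  apply le_antisymm
  · have hn : (pCore p Q).Normal := pCore_normal
    have hmapn : ((pCore p Q).map (affLin hQ)).Normal := hn.map _ (affLin_surjective hQ)
    have hmapp : IsPGroup p ((pCore p Q).map (affLin hQ)) := pCore_isPGroup.map _
    have hbot := sl2_normal_pGroup_eq_bot _ hmapp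
    intro M hM
    rw [mem_affTransl_iff]
    have : affLin hQ M ∈ (pCore p Q).map (affLin hQ) := ⟨M, hM, rfl⟩
    rw [hbot, Subgroup.mem_bot] at this
    exact this
  · exact le_pCore (affTransl_normal hQ) (affTransl_isPGroup hQ p)

/-- The translation subgroup is a natural module for the block subgroup. -/
theorem affTransl_natural : IsNaturalSL2Module F (affTransl hQ) (affBlockSub hQ) := by
  refine ⟨?_, (affBlockEquiv hQ).toMonoidHom, affTranslEquiv hQ, (affBlockEquiv hQ).surjective, ?_, ?_⟩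
  · rw [Subgroup.normalizer_eq_top]
    exact le_top
  · have hker : (affBlockEquiv hQ).toMonoidHom.ker = ⊥ := by
      rw [MonoidHom.ker_eq_bot_iff]
      exact (affBlockEquiv hQ).injective
    rw [hker, eq_comm, eq_bot_iff]
    intro k hk
    rw [Subgroup.mem_subgroupOf, Subgroup.mem_centralizer_iff] at hk
    rw [Subgroup.mem_bot]
    obtain ⟨A, hA⟩ := (mem_affBlockSub_iff_exists hQ k.1).mp k.2
    have hfix : ∀ x : Fin 2 → F, (A : Matrix (Fin 2) (Fin 2) F).mulVec x = x := by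
      intro x
      have h1 := hk (affMk hQ 1 x) (affMk_one_mem hQ x)
      have h2 : (k : Q) * affMk hQ 1 x * (k : Q)⁻¹ = affMk hQ 1 x := by
        rw [← h1]; group
      rw [hA, affMk_conj] at h2
      have := congrArg affCol h2
      rwa [affCol_affMk, affCol_affMk] at this
    have hA1 : A = 1 := by
      apply Subtype.ext
      rw [Matrix.SpecialLinearGroup.coe_one]
      apply Matrix.toLin'.injective
      apply LinearMap.ext
      intro x
      rw [Matrix.toLin'_apply, hfix, Matrix.toLin'_one, LinearMap.id_apply]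
    apply Subtype.ext
    rw [hA, hA1, affMk_one_zero]
    rfl
  · intro l v
    obtain ⟨A, hA⟩ := (mem_affBlockSub_iff_exists hQ l.1).mp l.2
    obtain ⟨x, hx⟩ := (mem_affTransl_iff_exists hQ v.1).mp v.2
    refine ⟨⟨affMk hQ 1 ((A : Matrix (Fin 2) (Fin 2) F).mulVec x), affMk_one_mem hQ _⟩, ?_, ?_⟩
    · show affMk hQ 1 _ = (l : Q) * (v : Q) * (l : Q)⁻¹
      rw [hA, hx, affMk_conj]
    · rw [affTranslEquiv_apply, affTranslEquiv_apply]
      show affCol (affMk hQ 1 _) = ((affLin hQ l.1 : Matrix.SpecialLinearGroup (Fin 2) F) :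
        Matrix (Fin 2) (Fin 2) F).mulVec (affCol v.1)
      rw [affCol_affMk, hA, hx, affLin_affMk, affCol_affMk]

end field

end Cfsg.Agent.Lib.Helper46
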