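/-
helper46: project STEINBERG (helper35), module ST-[INJ]: the projection `π` of a Steinberg model is injective on
`Ū` and on `V̄`, given that their elements are ordered products (`Collect`) and that the coefficients of ordered
products of root matrices are unique (Helper18 `prodL_injective` on the positive side, `GUniq` on the negative side).
-/
import Cfsg.Agent.Lib.Helper35.StDefs
import Cfsg.Agent.Lib.Helper18.UFactTabs

set_option autoImplicit false

namespace Cfsg.Agent.Lib.Helper46.St

open Cfsg.Lie Cfsg.Agent.Lib.Helper35.St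

universe u v

variable {D : ChevalleyDatum} {K : Type u} [Field K] {Γ : Type v} [Group Γ] (M : Model D K Γ)

/-- The matrix of the image of an ordered product. -/
theorem coe_pi_prodL (l : List ℕ) (hl : ∀ r ∈ l, r < D.nroots) (t : ℕ → K) :
    ((M.π (M.prodL l t) : GL D.Idx K) : Matrix D.Idx D.Idx K) = D.wordMat K (l.map fun r => (r, t r)) := by
  induction l with
  | nil =>
    unfold Model.prodL ChevalleyDatum.wordMat
    simp
  | cons a l ih =>
    have ha : a < D.nroots := hl a List.mem_cons_self
    have hl' : ∀ r ∈ l, r < D.nroots := fun r hr => hl r (List.mem_cons_of_mem _ hr)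
    have e1 : M.prodL (a :: l) t = M.X a (t a) * M.prodL l t := by
      unfold Model.prodL
      rw [List.map_cons, List.prod_cons]
    have e2 : D.wordMat K ((a :: l).map fun r => (r, t r)) =
        D.x K a (t a) * D.wordMat K (l.map fun r => (r, t r)) := by
      unfold ChevalleyDatum.wordMat
      rw [List.map_cons, List.map_cons, List.prod_cons]
    rw [e1, map_mul, Units.val_mul, M.hπ a ha, ih hl', e2]

/-- Ordered products with the same coefficients on the list are equal. -/
theorem prodL_congr (l : List ℕ) (t t' : ℕ → K) (h : ∀ r ∈ l, t r = t' r) :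
    M.prodL l t = M.prodL l t' := by
  unfold Model.prodL
  congr 1
  apply List.map_congr_left
  intro r hr
  rw [h r hr]

theorem mem_posRoots (D : ChevalleyDatum) (r : ℕ) : r ∈ D.posRoots ↔ D.IsPosRoot r := by
  unfold ChevalleyDatum.posRoots
  rw [List.mem_filter, List.mem_range, decide_eq_true_eq]
  exact ⟨fun h => h.2, fun h => ⟨h.1, h⟩⟩

theorem posRoots_sorted (D : ChevalleyDatum) : D.posRoots.Pairwise (· < ·) := by
  unfold ChevalleyDatum.posRoots
  exact List.Pairwise.filter _ List.pairwise_lt_range

/-- ST-[INJ], positive side: `π` is injective on `Ū`. -/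
theorem injPos_of_collect (hD : D ∈ [chevG2, chevB2, chevD4, chevF4, chevE6, chevE7, chevE8])
    (hcol : M.Collect D.IsPosRoot D.posRoots) : M.InjPos := by
  intro g hg g' hg' h
  obtain ⟨t, rfl⟩ := hcol g hg
  obtain ⟨t', rfl⟩ := hcol g' hg'
  have hlt : ∀ r ∈ D.posRoots, r < D.nroots := fun r hr => ((mem_posRoots D r).mp hr).1
  have h1 : Cfsg.Agent.Lib.Helper18.prodL hD D.posRoots t = Cfsg.Agent.Lib.Helper18.prodL hD D.posRoots t' := by
    apply Units.ext
    rw [Cfsg.Agent.Lib.Helper18.coe_prodL, Cfsg.Agent.Lib.Helper18.coe_prodL,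
      ← coe_pi_prodL M D.posRoots hlt t, ← coe_pi_prodL M D.posRoots hlt t', h]
  have h2 := Cfsg.Agent.Lib.Helper18.prodL_injective hD (Cfsg.Agent.Lib.Helper18.lexOK_of_mem D hD)
    (Cfsg.Agent.Lib.Helper18.bezOK_of_mem D hD) D.posRoots (fun r hr => (mem_posRoots D r).mp hr)
    (posRoots_sorted D) t t' h1
  exact prodL_congr M D.posRoots t t' h2

/-- ST-[INJ], negative side: `π` is injective on `V̄`. -/
theorem injNeg_of_collect (_hD : D ∈ [chevG2, chevB2, chevD4, chevF4, chevE6, chevE7, chevE8]) (l : List ℕ)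
    (hl : ∀ r ∈ l, D.IsNegRoot r) (hu : GUniq D K l) (hcol : M.Collect D.IsNegRoot l) : M.InjNeg := by
  intro g hg g' hg' h
  obtain ⟨t, rfl⟩ := hcol g hg
  obtain ⟨t', rfl⟩ := hcol g' hg'
  have hlt : ∀ r ∈ l, r < D.nroots := fun r hr => (hl r hr).1
  have h1 : D.wordMat K (l.map fun r => (r, t r)) = D.wordMat K (l.map fun r => (r, t' r)) := by
    rw [← coe_pi_prodL M l hlt t, ← coe_pi_prodL M l hlt t', h]
  exact prodL_congr M l t t' (hu t t' h1)

end Cfsg.Agent.Lib.Helper46.St
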