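import Cfsg.Agent.Lib.Helper46.Amalgam2

set_option autoImplicit false

namespace Cfsg.Agent.Lib.Helper46

open Cfsg
open scoped commutatorElement Pointwise

variable {X : Type*} [Group X] {M₁ M₂ : Subgroup X} {p : ℕ}

/-- Sylow `p`-subgroups of a finite subgroup are conjugate (ambient form). -/
theorem isSylIn_conj [Fact p.Prime] {T T' H : Subgroup X} [Finite H]
    (hT : IsSylIn p T H) (hT' : IsSylIn p T' H) :
    ∃ g ∈ H, T' = T.map (MulAut.conj g).toMonoidHom := by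
  obtain ⟨S, rfl⟩ := hT
  obtain ⟨S', rfl⟩ := hT'
  obtain ⟨g, hg⟩ := MulAction.exists_smul_eq H S S'
  refine ⟨g, g.2, ?_⟩
  rw [← hg]
  ext x
  simp only [Subgroup.mem_map]
  constructor
  · rintro ⟨y, hy, rfl⟩
    rw [Sylow.coe_subgroup_smul] at hy
    obtain ⟨z, hz, rfl⟩ := hy
    exact ⟨z, ⟨z, hz, rfl⟩, by simp⟩
  · rintro ⟨y, ⟨z, hz, rfl⟩, rfl⟩
    refine ⟨g * z * g⁻¹, ?_, by simp⟩
    rw [Sylow.coe_subgroup_smul]
    exact ⟨z, hz, by simp⟩

theorem le_map_conj_of_mem_normalizer {N : Subgroup X} {g : X}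
    (hg : g ∈ Subgroup.normalizer (N : Set X)) : N ≤ N.map (MulAut.conj g).toMonoidHom := by
  intro n hn
  refine ⟨g⁻¹ * n * g, (Subgroup.mem_normalizer_iff''.mp hg n).mp hn, ?_⟩
  simp [mul_assoc]

section charp

variable [Fact p.Prime] (h : IsCharPAmalgamPair p M₁ M₂)
include h

/-- S2748 -/
theorem critical_pair_Z_ne (α α' : CosetVertex M₁ M₂) (hc : IsCriticalPair p α α')
    (T : Subgroup X) (hT : IsSylIn p T (MulAction.stabilizer X α)) :
    vertexZ p α ≠ omegaZ p T := by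
  intro heq
  obtain ⟨β, hβadj, hβd⟩ := exists_adj_closer h hc
  obtain ⟨S₀⟩ := (inferInstance : Nonempty (Sylow p ↥(edgeStabilizer α β)))
  have hT₀ : IsSylIn p ((S₀ : Subgroup ↥(edgeStabilizer α β)).map (edgeStabilizer α β).subtype)
      (edgeStabilizer α β) := ⟨S₀, rfl⟩
  obtain ⟨h1, h2⟩ := edge_syl h hβadj _ hT₀
  set T₀ := (S₀ : Subgroup ↥(edgeStabilizer α β)).map (edgeStabilizer α β).subtype with hT₀def
  have := vertex_finite h α
  obtain ⟨g, hg, hgT⟩ := isSylIn_conj hT h1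
  have hgn : g ∈ Subgroup.normalizer (vertexZ p α : Set X) :=
    le_normalizer_sylowCenterClosure _ hg
  have h3 : vertexZ p α ≤ omegaZ p T₀ := by
    calc vertexZ p α ≤ (vertexZ p α).map (MulAut.conj g).toMonoidHom :=
          le_map_conj_of_mem_normalizer hgn
      _ = (omegaZ p T).map (MulAut.conj g).toMonoidHom := by rw [heq]
      _ ≤ omegaZ p (T.map (MulAut.conj g).toMonoidHom) := omegaZ_map_le _ _
      _ = omegaZ p T₀ := by rw [← hgT]
  have h4 : omegaZ p T₀ ≤ vertexZ p β := omegaZ_le_sylowCenterClosure h2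
  have hlt : (cosetGraph M₁ M₂).dist β α' < criticalDistance p M₁ M₂ := by omega
  exact hc.1 ((h3.trans h4).trans (vertexZ_le_of_dist_lt hlt))

end charp

end Cfsg.Agent.Lib.Helper46
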