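import Mathlib

set_option autoImplicit false

/-!
Module (M8) of PROJECT BC (defect one): for a Sylow `p`-subgroup `P` of order `p`, with
`N = N_G(P)` and `C = C_G(P)`, the number of linear characters `N → Fˣ` (`F` algebraically closed
of characteristic `p`) that are trivial on `C` is `|N : C|`.
-/

namespace Cfsg.Agent.Lib.Helper46.DefOneM8

variable {F : Type*} [Field F] {G : Type*} [Group G] [Fintype G] {p : ℕ} [Fact p.Prime] [CharP F p]

/-- the characters of `N` trivial on `C` are the characters of `N ⧸ ker φ`, `φ : N → Aut P` -/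
noncomputable def charEquiv (H : Subgroup G) :
    {μ : Subgroup.normalizer (H : Set G) →* Fˣ //
        ∀ n : Subgroup.normalizer (H : Set G),
          (n : G) ∈ Subgroup.centralizer (H : Set G) → μ n = 1} ≃
      ((Subgroup.normalizer (H : Set G) ⧸ H.normalizerMonoidHom.ker) →* Fˣ) where
  toFun μ := QuotientGroup.lift H.normalizerMonoidHom.ker μ.1 (by
    intro n hn
    rw [Subgroup.normalizerMonoidHom_ker, Subgroup.mem_subgroupOf] at hn
    exact μ.2 n hn)
  invFun ψ := ⟨ψ.comp (QuotientGroup.mk' H.normalizerMonoidHom.ker), by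
    intro n hn
    have hn' : n ∈ H.normalizerMonoidHom.ker := by
      rw [Subgroup.normalizerMonoidHom_ker, Subgroup.mem_subgroupOf]
      exact hn
    rw [MonoidHom.comp_apply, QuotientGroup.mk'_apply, (QuotientGroup.eq_one_iff n).mpr hn',
      map_one]⟩
  left_inv μ := by
    apply Subtype.ext
    ext n
    rfl
  right_inv ψ := by
    apply MonoidHom.ext
    intro q
    induction q using QuotientGroup.induction_on with
    | H n => rfl

theorem M8 [IsAlgClosed F] (P : Sylow p G) (hP : Nat.card P = p) :
    Nat.card {μ : Subgroup.normalizer ((P : Subgroup G) : Set G) →* Fˣ // ∀ n : Subgroup.normalizer ((P : Subgroup G) : Set G), (n : G) ∈ Subgroup.centralizer ((P : Subgroup G) : Set G) → μ n = 1} = (Subgroup.centralizer ((P : Subgroup G) : Set G)).relIndex (Subgroup.normalizer ((P : Subgroup G) : Set G)) := by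
  have hp : p.Prime := Fact.out
  have hcyc : IsCyclic (P : Subgroup G) := isCyclic_of_prime_card hP
  let φ := (P : Subgroup G).normalizerMonoidHom
  -- `MulAut P` is commutative of order `p - 1`
  let _ : CommGroup (MulAut (P : Subgroup G)) :=
    (hcyc.mulAutMulEquiv _).toMonoidHom.commGroupOfInjective (hcyc.mulAutMulEquiv _).injective
  have hinj : Function.Injective (QuotientGroup.kerLift φ) := QuotientGroup.kerLift_injective φ
  let _ : CommGroup (Subgroup.normalizer ((P : Subgroup G) : Set G) ⧸ φ.ker) :=
    (QuotientGroup.kerLift φ).commGroupOfInjective hinj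
  have hcardAut : Nat.card (MulAut (P : Subgroup G)) = p - 1 := by
    rw [IsCyclic.card_mulAut, hP, Nat.totient_prime hp]
  have hdvd : Nat.card (Subgroup.normalizer ((P : Subgroup G) : Set G) ⧸ φ.ker) ∣ p - 1 := by
    rw [← hcardAut]
    exact Subgroup.card_dvd_of_injective _ hinj
  have hexp : Monoid.exponent (Subgroup.normalizer ((P : Subgroup G) : Set G) ⧸ φ.ker) ∣ p - 1 :=
    (Group.exponent_dvd_nat_card).trans hdvd
  have hne : NeZero ((Monoid.exponent
      (Subgroup.normalizer ((P : Subgroup G) : Set G) ⧸ φ.ker) : ℕ) : F) := by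
    refine ⟨fun h0 => ?_⟩
    rw [CharP.cast_eq_zero_iff F p] at h0
    have h1 : p ∣ p - 1 := h0.trans hexp
    have h2 : p ≤ p - 1 := Nat.le_of_dvd (by have := hp.two_le; omega) h1
    have := hp.two_le
    omega
  have hcard := CommGroup.card_monoidHom_of_hasEnoughRootsOfUnity
    (Subgroup.normalizer ((P : Subgroup G) : Set G) ⧸ φ.ker) F
  rw [Nat.card_congr (charEquiv (F := F) (P : Subgroup G)), hcard, Subgroup.relIndex,
    ← Subgroup.normalizerMonoidHom_ker, Subgroup.index_eq_card]

end Cfsg.Agent.Lib.Helper46.DefOneM8
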