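import Mathlib
import Cfsg.Prelude.Def_Blocks
import Cfsg.Prelude.Def_Local

/-!
# Brauer's order formula for dihedral Sylow 2-subgroups (S4482): the context (helper46)

`Ctx n P σ τ`: `P = ⟨σ, τ⟩` is a dihedral Sylow `2`-subgroup of order `2 ^ n` (`n ≥ 3`) of `G`
and all involutions of `G` are conjugate (in the form of the frozen statement S4482).
-/

set_option autoImplicit false

namespace Cfsg.Agent.Lib.Helper46.DihOrd

open Cfsg

/-- The group-theoretic hypotheses of S4482. -/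
structure Ctx {G : Type*} [Group G] (n : ℕ) (P : Sylow 2 G) (σ τ : G) : Prop where
  hn : 3 ≤ n
  hσ : σ ∈ (P : Subgroup G)
  hτ : τ ∈ (P : Subgroup G)
  hσo : orderOf σ = 2 ^ (n - 1)
  hτo : orderOf τ = 2
  hrel : τ * σ * τ⁻¹ = σ⁻¹
  hgen : Subgroup.closure ({σ, τ} : Set G) = (P : Subgroup G)
  hconj : IsConj (σ ^ (2 ^ (n - 2))) τ ∧ IsConj (σ ^ (2 ^ (n - 2))) (σ * τ)

/-- The central involution `z = σ ^ (2 ^ (n - 2))` of `P`. -/
def zz {G : Type*} [Group G] (n : ℕ) (σ : G) : G := σ ^ (2 ^ (n - 2))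

/-- The predicate "`uv` is a pair of involutions". -/
def IsInvPair {G : Type*} [Group G] (uv : G × G) : Prop :=
  uv.1 * uv.1 = 1 ∧ uv.1 ≠ 1 ∧ uv.2 * uv.2 = 1 ∧ uv.2 ≠ 1

/-- The local situation inside `C = C_G(z)`, `K = O(C)` (abstract: any `C`, `K` with these
properties). -/
structure LocCtx {G : Type*} [Group G] (n : ℕ) (σ τ : G) (C K : Subgroup G) : Prop where
  hn : 3 ≤ n
  hσo : orderOf σ = 2 ^ (n - 1)
  hτo : orderOf τ = 2
  hrel : τ * σ * τ⁻¹ = σ⁻¹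
  hC : C = Subgroup.centralizer ({zz n σ} : Set G)
  hσC : σ ∈ C
  hτC : τ ∈ C
  hKC : K ≤ C
  hKn : ∀ g ∈ C, ∀ k ∈ K, g * k * g⁻¹ ∈ K
  hKodd : Odd (Nat.card K)
  hcard : Nat.card C = 2 ^ n * Nat.card K
  hprod : ∀ g ∈ C, ∃ k ∈ K, ∃ i : ℕ, g = k * σ ^ i ∨ g = k * (σ ^ i * τ)

end Cfsg.Agent.Lib.Helper46.DihOrd
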