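/-
helper46: Bender–Glauberman section 11, Theorem 11.5 (library form): under the hypotheses of an
"exceptional" maximal subgroup, the Sylow `p`-subgroup `P` of `M` is abelian.

Input (all proved elsewhere / taken as hypotheses):
* `A` elementary abelian of order `p ^ 2`, maximal among elementary abelian subgroups of `G`;
* `A ≤ P ≤ C_G(A)`, `P` a `p`-group which is maximal among the `p`-subgroups of `C_G(A)`;
* the statement of S1412 (structure of Sylow `p`-subgroups of rank at most `2`);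
* S1453 (landed) for Sylow subgroups of rank at least `3`.
-/
import Mathlib
import Cfsg.Prelude.Def_OddOrderLocal
import Cfsg.Agent.S1453
import Cfsg.Agent.Lib.Helper24.ElemAb
import Cfsg.Agent.Lib.Helper54.UqNine4

set_option autoImplicit false

namespace Cfsg.Agent.Lib.Helper46.BGEleven

open Cfsg

/-- In a finite group, a `p`-subgroup of order dividing `p ^ 2` is commutative. -/
theorem comm_of_card_dvd_sq {G : Type*} [Group G] [Finite G] {p : ℕ} [hp : Fact p.Prime]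
    (H : Subgroup G) (hH : Nat.card H ∣ p ^ 2) : ∀ a ∈ H, ∀ b ∈ H, a * b = b * a := by
  obtain ⟨k, hk, hcard⟩ := (Nat.dvd_prime_pow hp.out).mp hH
  have hc : IsMulCommutative H := by
    interval_cases k
    · rw [pow_zero] at hcard
      have : Subsingleton H := (Nat.card_eq_one_iff_unique.mp hcard).1
      exact ⟨⟨fun a b => Subsingleton.elim _ _⟩⟩
    · rw [pow_one] at hcard
      have : IsCyclic H := isCyclic_of_prime_card hcard
      exact IsCyclic.isMulCommutative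
    · exact IsPGroup.isMulCommutative_of_card_eq_prime_sq hcard
  intro a ha b hb
  exact congrArg Subtype.val (hc.is_comm.comm ⟨a, ha⟩ ⟨b, hb⟩)

/-- `R` a `p`-group (`p` odd) of rank at least `3`, `E` an elementary abelian subgroup of order `p ^ 2`
contained in no larger elementary abelian subgroup.  Then `C_R(E)` is abelian
(it is `⟨x⟩ × cyclic`: `R` is narrow). -/
theorem centralizer_comm_of_maximal_elemAb_sq {R : Type*} [Group R] [Finite R] (p : ℕ)
    [hpF : Fact p.Prime] (hp : p ≠ 2) (hR : IsPGroup p R) (hr : ¬ PRankLE p 2 R) (E : Subgroup R)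
    (hE : IsElementaryAbelian p E) (hE2 : Nat.card E = p ^ 2)
    (hEmax : ∀ B : Subgroup R, IsElementaryAbelian p B → E ≤ B → B = E) :
    ∀ c ∈ Subgroup.centralizer (E : Set R), ∀ d ∈ Subgroup.centralizer (E : Set R),
      c * d = d * c := by
  have hpp : p.Prime := hpF.out
  obtain ⟨hET, -, -, hTchar, hTidx⟩ := Cfsg.Agent.S1453.result p hp hR hr E hE hE2 hEmax
  set T : Subgroup R := Subgroup.centralizer ((Subgroup.closure
    {x : R | x ∈ Subgroup.upperCentralSeries R 2 ∧ x ^ p = 1} : Subgroup R) : Set R) with hT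
  have hTn : T.Normal := by
    have := hTchar
    exact inferInstance
  obtain ⟨hEc, hEe⟩ := hE
  have hEcomm : ∀ a ∈ E, ∀ b ∈ E, a * b = b * a := fun a ha b hb =>
    congrArg Subtype.val (hEc.is_comm.comm ⟨a, ha⟩ ⟨b, hb⟩)
  have hEcent : E ≤ Subgroup.centralizer (E : Set R) := by
    intro a ha
    rw [Subgroup.mem_centralizer_iff]
    intro b hb
    exact hEcomm b hb a ha
  -- an element of `E` outside `T`
  obtain ⟨x, hxE, hxT⟩ := SetLike.not_le_iff_exists.mp hET
  -- `|E ∩ T| ≤ p`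
  have hETcard : Nat.card (E ⊓ T : Subgroup R) ≤ p := by
    have h1 : Nat.card (E ⊓ T : Subgroup R) ∣ p ^ 2 := hE2 ▸ Subgroup.card_dvd_of_le inf_le_left
    obtain ⟨k, hk, hcard⟩ := (Nat.dvd_prime_pow hpp).mp h1
    interval_cases k
    · rw [hcard, pow_zero]; exact hpp.one_lt.le
    · rw [hcard, pow_one]
    · exfalso
      have h2 : E ⊓ T = E := Subgroup.eq_of_le_of_card_ge inf_le_left (by rw [hcard, hE2])
      exact hET (h2 ▸ inf_le_right)
  -- `D = C_T(E)` is cyclic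
  set D : Subgroup R := T ⊓ Subgroup.centralizer (E : Set R) with hD
  have hDp : IsPGroup p D := hR.to_subgroup D
  have hDcyc : IsCyclic D := by
    by_contra hnc
    obtain ⟨F, hFD, hFc, hFe, hFcard⟩ :=
      Cfsg.Agent.Lib.Helper54.exists_elemAb_sq_of_not_isCyclic hp D hDp hnc
    have hFcent : F ≤ Subgroup.centralizer (E : Set R) := hFD.trans inf_le_right
    -- `⟨E, F⟩` is elementary abelian
    have hB := Cfsg.Agent.Lib.Helper24.elemAb_closure p ((E : Set R) ∪ (F : Set R))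
      (by
        rintro s (hs | hs) t (ht | ht)
        · exact hEcomm s hs t ht
        · exact ((Subgroup.mem_centralizer_iff.mp (hFcent ht)) s hs)
        · exact ((Subgroup.mem_centralizer_iff.mp (hFcent hs)) t ht).symm
        · exact hFc s hs t ht)
      (by
        rintro s (hs | hs)
        · exact hEe s hs
        · exact hFe s hs)
    have hEB : E ≤ Subgroup.closure ((E : Set R) ∪ (F : Set R)) := fun a ha =>
      Subgroup.subset_closure (Or.inl ha)
    have hFB : F ≤ Subgroup.closure ((E : Set R) ∪ (F : Set R)) := fun a ha =>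
      Subgroup.subset_closure (Or.inr ha)
    have hBE := hEmax _ ⟨hB.1, hB.2⟩ hEB
    have hFE : F ≤ E ⊓ T := le_inf (hBE ▸ hFB) (hFD.trans inf_le_left)
    have h3 := (Subgroup.card_le_of_le hFE).trans hETcard
    have h4 : p < p ^ 2 := by
      have := Nat.pow_lt_pow_right hpp.one_lt (show 1 < 2 by norm_num)
      rwa [pow_one] at this
    omega
  have hDcomm : ∀ a ∈ D, ∀ b ∈ D, a * b = b * a := by
    intro a ha b hb
    have := hDcyc
    exact congrArg Subtype.val ((IsCyclic.isMulCommutative (α := D)).is_comm.comm (⟨a, ha⟩ : D) ⟨b, hb⟩)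
  -- every element of `C_R(E)` is a power of `x` times an element of `D`
  have hdecomp : ∀ c ∈ Subgroup.centralizer (E : Set R), ∃ k : ℤ, (x ^ k)⁻¹ * c ∈ D := by
    intro c hc
    have hcardQ : Nat.card (R ⧸ T) = p := by
      rw [← Subgroup.index_eq_card]; exact hTidx
    have hx1 : (QuotientGroup.mk' T x) ≠ 1 := by
      intro h
      exact hxT ((QuotientGroup.eq_one_iff x).mp h)
    have htop : Subgroup.zpowers (QuotientGroup.mk' T x) = ⊤ :=
      zpowers_eq_top_of_prime_card hcardQ hx1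
    have hmem : QuotientGroup.mk' T c ∈ Subgroup.zpowers (QuotientGroup.mk' T x) := by
      rw [htop]; exact Subgroup.mem_top _
    obtain ⟨k, hk⟩ := Subgroup.mem_zpowers_iff.mp hmem
    refine ⟨k, Subgroup.mem_inf.mpr ⟨?_, ?_⟩⟩
    · rw [← QuotientGroup.eq_one_iff, ← QuotientGroup.mk'_apply, map_mul, map_inv, map_zpow, hk]
      simp
    · exact Subgroup.mul_mem _ (Subgroup.inv_mem _ (hEcent (Subgroup.zpow_mem _ hxE k))) hc
  intro c hc d hd
  obtain ⟨k, hk⟩ := hdecomp c hc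
  obtain ⟨l, hl⟩ := hdecomp d hd
  set c' := (x ^ k)⁻¹ * c with hc'
  set d' := (x ^ l)⁻¹ * d with hd'
  have hcx : ∀ m : ℤ, ∀ y ∈ D, x ^ m * y = y * x ^ m := by
    intro m y hy
    exact ((Subgroup.mem_centralizer_iff.mp (Subgroup.mem_inf.mp hy).2) _
      (Subgroup.zpow_mem _ hxE m))
  have hc2 : c = x ^ k * c' := by rw [hc']; group
  have hd2 : d = x ^ l * d' := by rw [hd']; group
  have hcd := hDcomm c' hk d' hl
  have hxx : x ^ k * x ^ l = x ^ l * x ^ k := by rw [← zpow_add, ← zpow_add, add_comm]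
  calc c * d = x ^ k * c' * (x ^ l * d') := by rw [← hc2, ← hd2]
    _ = x ^ k * (c' * x ^ l) * d' := by group
    _ = x ^ k * (x ^ l * c') * d' := by rw [hcx l c' hk]
    _ = (x ^ k * x ^ l) * (c' * d') := by group
    _ = (x ^ l * x ^ k) * (d' * c') := by rw [hxx, hcd]
    _ = x ^ l * (x ^ k * d') * c' := by group
    _ = x ^ l * (d' * x ^ k) * c' := by rw [hcx k d' hl]
    _ = x ^ l * d' * (x ^ k * c') := by group
    _ = d * c := by rw [← hc2, ← hd2]

/-- Elements of the join of two elementwise commuting subgroups are products. -/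
theorem exists_mul_of_mem_sup_of_commute {G : Type*} [Group G] (P₁ P₂ : Subgroup G)
    (hcomm : ∀ a ∈ P₁, ∀ b ∈ P₂, a * b = b * a) :
    ∀ s ∈ P₁ ⊔ P₂, ∃ a ∈ P₁, ∃ b ∈ P₂, s = a * b := by
  let Q : Subgroup G :=
    { carrier := {s | ∃ a ∈ P₁, ∃ b ∈ P₂, s = a * b}
      one_mem' := ⟨1, P₁.one_mem, 1, P₂.one_mem, by simp⟩
      mul_mem' := by
        rintro _ _ ⟨a, ha, b, hb, rfl⟩ ⟨a', ha', b', hb', rfl⟩
        refine ⟨a * a', P₁.mul_mem ha ha', b * b', P₂.mul_mem hb hb', ?_⟩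
        have h := hcomm a' ha' b hb
        calc a * b * (a' * b') = a * (b * a') * b' := by group
          _ = a * (a' * b) * b' := by rw [h]
          _ = a * a' * (b * b') := by group
      inv_mem' := by
        rintro _ ⟨a, ha, b, hb, rfl⟩
        refine ⟨a⁻¹, P₁.inv_mem ha, b⁻¹, P₂.inv_mem hb, ?_⟩
        have h := hcomm a⁻¹ (P₁.inv_mem ha) b⁻¹ (P₂.inv_mem hb)
        rw [mul_inv_rev, h] }
  have h1 : P₁ ≤ Q := fun a ha => ⟨a, ha, 1, P₂.one_mem, by simp⟩
  have h2 : P₂ ≤ Q := fun b hb => ⟨1, P₁.one_mem, b, hb, by simp⟩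
  intro s hs
  exact (sup_le h1 h2) hs

/-- `S = P₁ * P₂` a central product with `P₁` of order `p ^ 3`, `P₂` cyclic and
`Ω₁(P₂) = Z(P₁)`; `A ≤ S` of exponent `p` and order `p ^ 2`.  Then `C_S(A)` is abelian. -/
theorem centralizer_comm_of_central_product {G : Type*} [Group G] [Finite G] {p : ℕ}
    [hpF : Fact p.Prime] (S P₁ P₂ A : Subgroup G) (hS : P₁ ⊔ P₂ = S)
    (hcomm : ∀ a ∈ P₁, ∀ b ∈ P₂, a * b = b * a)
    (hP₁ : Nat.card P₁ = p ^ 3) (hP₂ : IsCyclic P₂)
    (hΩ : Subgroup.closure {x : G | x ∈ P₂ ∧ x ^ p = 1} =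
      P₁ ⊓ Subgroup.centralizer (P₁ : Set G))
    (hAS : A ≤ S) (hAe : ∀ a ∈ A, a ^ p = 1) (hA2 : Nat.card A = p ^ 2) :
    ∀ c ∈ S ⊓ Subgroup.centralizer (A : Set G), ∀ d ∈ S ⊓ Subgroup.centralizer (A : Set G),
      c * d = d * c := by
  have hpp : p.Prime := hpF.out
  have hdec := exists_mul_of_mem_sup_of_commute P₁ P₂ hcomm
  rw [hS] at hdec
  have hP₂comm : ∀ a ∈ P₂, ∀ b ∈ P₂, a * b = b * a := by
    intro a ha b hb
    have := hP₂
    exact congrArg Subtype.val
      ((IsCyclic.isMulCommutative (α := P₂)).is_comm.comm (⟨a, ha⟩ : P₂) ⟨b, hb⟩)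
  -- `P₂` is central in `S`
  have hcen : ∀ b ∈ P₂, ∀ s ∈ S, b * s = s * b := by
    intro b hb s hs
    obtain ⟨a', ha', b', hb', rfl⟩ := hdec s hs
    have h1 := hcomm a' ha' b hb
    have h2 := hP₂comm b hb b' hb'
    calc b * (a' * b') = (b * a') * b' := by group
      _ = (a' * b) * b' := by rw [h1]
      _ = a' * (b * b') := by group
      _ = a' * (b' * b) := by rw [h2]
      _ = a' * b' * b := by group
  -- an element of `A` outside `P₂`
  have hx : ∃ x ∈ A, x ∉ P₂ := by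
    by_contra hcon
    push Not at hcon
    have hAP₂ : A ≤ P₂ := hcon
    have hAcyc : IsCyclic A := by
      have := hP₂
      have h1 : IsCyclic (A.subgroupOf P₂) := Subgroup.isCyclic _
      exact isCyclic_of_surjective (Subgroup.subgroupOfEquivOfLe hAP₂)
        (Subgroup.subgroupOfEquivOfLe hAP₂).surjective
    obtain ⟨g, hg⟩ := hAcyc.exists_generator
    have htop : Subgroup.zpowers g = ⊤ := (Subgroup.eq_top_iff' _).mpr hg
    have hcard : Nat.card A = orderOf g := by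
      rw [← Nat.card_zpowers, htop, Subgroup.card_top]
    have hgp : g ^ p = 1 := by
      apply Subtype.ext
      simpa using hAe g.1 g.2
    have hle : orderOf g ≤ p := Nat.le_of_dvd hpp.pos (orderOf_dvd_of_pow_eq_one hgp)
    have h4 : p < p ^ 2 := by
      have := Nat.pow_lt_pow_right hpp.one_lt (show 1 < 2 by norm_num)
      rwa [pow_one] at this
    omega
  obtain ⟨x, hxA, hxP₂⟩ := hx
  obtain ⟨s₁, hs₁, s₂, hs₂, rfl⟩ := hdec x (hAS hxA)
  -- `s₁` is not central in `P₁`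
  have hs₁Z : s₁ ∉ Subgroup.centralizer (P₁ : Set G) := by
    intro h
    have h1 : s₁ ∈ P₁ ⊓ Subgroup.centralizer (P₁ : Set G) := ⟨hs₁, h⟩
    rw [← hΩ] at h1
    have hle : Subgroup.closure {x : G | x ∈ P₂ ∧ x ^ p = 1} ≤ P₂ := by
      rw [Subgroup.closure_le]
      intro y hy
      exact hy.1
    exact hxP₂ (P₂.mul_mem (hle h1) hs₂)
  -- `C_{P₁}(s₁)` is abelian
  set C : Subgroup G := P₁ ⊓ Subgroup.centralizer ({s₁} : Set G) with hC
  have hCcomm : ∀ a ∈ C, ∀ b ∈ C, a * b = b * a := by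
    apply comm_of_card_dvd_sq (p := p) C
    have h1 : Nat.card C ∣ p ^ 3 := hP₁ ▸ Subgroup.card_dvd_of_le inf_le_left
    obtain ⟨k, hk, hcard⟩ := (Nat.dvd_prime_pow hpp).mp h1
    have hk3 : k ≠ 3 := by
      rintro rfl
      have h2 : C = P₁ := Subgroup.eq_of_le_of_card_ge inf_le_left (by rw [hcard, hP₁])
      apply hs₁Z
      rw [Subgroup.mem_centralizer_iff]
      intro y hy
      have hyC : y ∈ C := h2 ▸ hy
      exact (Subgroup.mem_centralizer_singleton_iff.mp (Subgroup.mem_inf.mp hyC).2)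
    rw [hcard]
    exact pow_dvd_pow p (by omega)
  -- decomposition of elements of `C_S(A)`
  have hkey : ∀ c ∈ S ⊓ Subgroup.centralizer (A : Set G),
      ∃ c₁ ∈ C, ∃ c₂ ∈ P₂, c = c₁ * c₂ := by
    intro c hc
    obtain ⟨hcS, hcA⟩ := Subgroup.mem_inf.mp hc
    obtain ⟨c₁, hc₁, c₂, hc₂, rfl⟩ := hdec c hcS
    refine ⟨c₁, Subgroup.mem_inf.mpr ⟨hc₁, ?_⟩, c₂, hc₂, rfl⟩
    rw [Subgroup.mem_centralizer_singleton_iff]
    have h1 := (Subgroup.mem_centralizer_iff.mp hcA) _ hxA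
    -- `s₁ * s₂ * (c₁ * c₂) = c₁ * c₂ * (s₁ * s₂)`
    have hS₁ : s₁ ∈ S := hS ▸ (le_sup_left : P₁ ≤ P₁ ⊔ P₂) hs₁
    have hC₁ : c₁ ∈ S := hS ▸ (le_sup_left : P₁ ≤ P₁ ⊔ P₂) hc₁
    have e1 : s₁ * s₂ * (c₁ * c₂) = s₁ * c₁ * (s₂ * c₂) := by
      have := hcen s₂ hs₂ c₁ hC₁
      calc s₁ * s₂ * (c₁ * c₂) = s₁ * (s₂ * c₁) * c₂ := by group
        _ = s₁ * (c₁ * s₂) * c₂ := by rw [this]
        _ = s₁ * c₁ * (s₂ * c₂) := by group
    have e2 : c₁ * c₂ * (s₁ * s₂) = c₁ * s₁ * (s₂ * c₂) := by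
      have h3 := hcen c₂ hc₂ s₁ hS₁
      have h4 := hP₂comm c₂ hc₂ s₂ hs₂
      calc c₁ * c₂ * (s₁ * s₂) = c₁ * (c₂ * s₁) * s₂ := by group
        _ = c₁ * (s₁ * c₂) * s₂ := by rw [h3]
        _ = c₁ * s₁ * (c₂ * s₂) := by group
        _ = c₁ * s₁ * (s₂ * c₂) := by rw [h4]
    rw [e1, e2] at h1
    exact (mul_right_cancel h1).symm
  intro c hc d hd
  obtain ⟨c₁, hc₁, c₂, hc₂, rfl⟩ := hkey c hc
  obtain ⟨d₁, hd₁, d₂, hd₂, rfl⟩ := hkey d hd
  have hD₁ : d₁ ∈ S := hS ▸ (le_sup_left : P₁ ≤ P₁ ⊔ P₂) (Subgroup.mem_inf.mp hd₁).1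
  have hC₁ : c₁ ∈ S := hS ▸ (le_sup_left : P₁ ≤ P₁ ⊔ P₂) (Subgroup.mem_inf.mp hc₁).1
  have h1 := hcen c₂ hc₂ d₁ hD₁
  have h2 := hcen d₂ hd₂ c₁ hC₁
  have h3 := hCcomm c₁ hc₁ d₁ hd₁
  have h4 := hP₂comm c₂ hc₂ d₂ hd₂
  calc c₁ * c₂ * (d₁ * d₂) = c₁ * (c₂ * d₁) * d₂ := by group
    _ = c₁ * (d₁ * c₂) * d₂ := by rw [h1]
    _ = (c₁ * d₁) * (c₂ * d₂) := by group
    _ = (d₁ * c₁) * (d₂ * c₂) := by rw [h3, h4]
    _ = d₁ * (c₁ * d₂) * c₂ := by group
    _ = d₁ * (d₂ * c₁) * c₂ := by rw [h2]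
    _ = d₁ * d₂ * (c₁ * c₂) := by group


/-- **BG Theorem 11.5 (library form).**  `A` elementary abelian of order `p ^ 2`, maximal among the
elementary abelian subgroups of `G`; `P` a `p`-subgroup with `A ≤ P ≤ C_G(A)` which is maximal among
the `p`-subgroups of `C_G(A)` (e.g. a Sylow `p`-subgroup of a subgroup `M ≥ C_G(A)`).  Given the
statement of S1412 for `G`, the group `P` is abelian. -/
theorem exc_sylow_abelian {G : Type*} [Group G] [Finite G] (p : ℕ) [hpF : Fact p.Prime] (hp2 : p ≠ 2)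
    (h1412 : ∀ S : Sylow p G, PRankLE p 2 (S : Subgroup G) →
      IsMulCommutative (S : Subgroup G) ∨ ∃ P₁ P₂ : Subgroup G, P₁ ⊔ P₂ = (S : Subgroup G) ∧
        (∀ a ∈ P₁, ∀ b ∈ P₂, a * b = b * a) ∧ ¬ IsMulCommutative P₁ ∧ Nat.card P₁ = p ^ 3 ∧
        Monoid.exponent P₁ = p ∧ IsCyclic P₂ ∧
        Subgroup.closure {x : G | x ∈ P₂ ∧ x ^ p = 1} = P₁ ⊓ Subgroup.centralizer (P₁ : Set G))
    (A P : Subgroup G) (hAe : IsElementaryAbelian p A) (hA2 : Nat.card A = p ^ 2)
    (hAmax : ∀ B : Subgroup G, IsElementaryAbelian p B → A ≤ B → B = A)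
    (hP : IsPGroup p P) (hAP : A ≤ P) (hPA : P ≤ Subgroup.centralizer (A : Set G))
    (hPmax : ∀ Q : Subgroup G, IsPGroup p Q → P ≤ Q → Q ≤ Subgroup.centralizer (A : Set G) →
      Q = P) :
    ∀ x ∈ P, ∀ y ∈ P, x * y = y * x := by
  obtain ⟨S, hPS⟩ := hP.exists_le_sylow
  have hAS : A ≤ (S : Subgroup G) := hAP.trans hPS
  set C : Subgroup G := (S : Subgroup G) ⊓ Subgroup.centralizer (A : Set G) with hC
  have hCP : C = P := hPmax C (S.isPGroup'.to_le inf_le_left) (le_inf hPS hPA) inf_le_right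
  suffices h : ∀ c ∈ C, ∀ d ∈ C, c * d = d * c by
    intro x hx y hy
    exact h x (hCP ▸ hx) y (hCP ▸ hy)
  by_cases hr : PRankLE p 2 (S : Subgroup G)
  · rcases h1412 S hr with hab | ⟨P₁, P₂, hS, hcomm, -, hP₁, -, hP₂, hΩ⟩
    · intro c hc d hd
      exact congrArg Subtype.val
        (hab.is_comm.comm ⟨c, (Subgroup.mem_inf.mp hc).1⟩ ⟨d, (Subgroup.mem_inf.mp hd).1⟩)
    · exact centralizer_comm_of_central_product (S : Subgroup G) P₁ P₂ A hS hcomm hP₁ hP₂ hΩ hAS
        hAe.2 hA2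
  · -- rank at least 3: work inside the group `↥S`
    set E : Subgroup (S : Subgroup G) := A.subgroupOf (S : Subgroup G) with hE
    have hEe : IsElementaryAbelian p E := by
      refine ⟨⟨⟨?_⟩⟩, ?_⟩
      · rintro ⟨a, ha⟩ ⟨b, hb⟩
        rw [hE, Subgroup.mem_subgroupOf] at ha hb
        apply Subtype.ext
        apply Subtype.ext
        have := congrArg Subtype.val (hAe.1.is_comm.comm ⟨_, ha⟩ ⟨_, hb⟩)
        simpa using this
      · intro a ha
        rw [hE, Subgroup.mem_subgroupOf] at ha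
        apply Subtype.ext
        simpa using hAe.2 _ ha
    have hE2 : Nat.card E = p ^ 2 := by
      rw [hE, Nat.card_congr (Subgroup.subgroupOfEquivOfLe hAS).toEquiv, hA2]
    have hEmax : ∀ B : Subgroup (S : Subgroup G), IsElementaryAbelian p B → E ≤ B → B = E := by
      intro B hB hEB
      have hB' : IsElementaryAbelian p (B.map (S : Subgroup G).subtype) := by
        refine ⟨⟨⟨?_⟩⟩, ?_⟩
        · rintro ⟨_, ⟨a, ha, rfl⟩⟩ ⟨_, ⟨b, hb, rfl⟩⟩
          apply Subtype.ext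
          have := congrArg (fun z : B => ((z : (S : Subgroup G)) : G))
            (hB.1.is_comm.comm ⟨a, ha⟩ ⟨b, hb⟩)
          simpa using this
        · rintro _ ⟨a, ha, rfl⟩
          have := congrArg (fun z : (S : Subgroup G) => (z : G)) (hB.2 a ha)
          simpa using this
      have hAB : A ≤ B.map (S : Subgroup G).subtype := by
        intro a ha
        exact ⟨⟨a, hAS ha⟩, hEB (by rw [hE, Subgroup.mem_subgroupOf]; exact ha), rfl⟩
      have hBA := hAmax _ hB' hAB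
      apply le_antisymm _ hEB
      intro b hb
      rw [hE, Subgroup.mem_subgroupOf, ← hBA]
      exact ⟨b, hb, rfl⟩
    have key := centralizer_comm_of_maximal_elemAb_sq (R := (S : Subgroup G)) p hp2 S.isPGroup' hr E
      hEe hE2 hEmax
    intro c hc d hd
    obtain ⟨hcS, hcA⟩ := Subgroup.mem_inf.mp hc
    obtain ⟨hdS, hdA⟩ := Subgroup.mem_inf.mp hd
    have hmem : ∀ z : G, ∀ hz : z ∈ (S : Subgroup G), z ∈ Subgroup.centralizer (A : Set G) →
        (⟨z, hz⟩ : (S : Subgroup G)) ∈ Subgroup.centralizer (E : Set (S : Subgroup G)) := by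
      intro z hz hzA
      rw [Subgroup.mem_centralizer_iff]
      rintro ⟨e, heS⟩ he
      have heA : e ∈ A := by
        have := he
        rw [SetLike.mem_coe, hE, Subgroup.mem_subgroupOf] at this
        exact this
      apply Subtype.ext
      exact (Subgroup.mem_centralizer_iff.mp hzA) e heA
    have := key ⟨c, hcS⟩ (hmem c hcS hcA) ⟨d, hdS⟩ (hmem d hdS hdA)
    exact congrArg Subtype.val this


end Cfsg.Agent.Lib.Helper46.BGEleven
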