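/-
helper46: Bender–Glauberman section 10, Lemma 10.3 (statement S1406), proved conditionally on the
Uniqueness Theorem (S1403) and on the Hall property of `M_α` (first clause of S1405).
-/
import Mathlib
import Cfsg.Prelude.Def_OddOrderLocal
import Cfsg.Agent.Lib.Helper54.Coprime
import Cfsg.Agent.Lib.Helper24.Thompson
import Cfsg.Agent.Lib.Helper24.Omega
import Cfsg.Agent.Lib.Helper24.ElemAb

set_option autoImplicit false

namespace Cfsg.Agent.Lib.Helper46.BGTen

open Cfsg
open Pointwise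

variable {G : Type*} [Group G]

/-- A witness for `¬ PRankLE p k E`, as a subgroup of the ambient group. -/
theorem exists_elemAb_of_not_pRankLE {p k : ℕ} {E : Subgroup G} (h : ¬ PRankLE p k E) :
    ∃ B : Subgroup G, B ≤ E ∧ (∀ x ∈ B, ∀ y ∈ B, x * y = y * x) ∧ (∀ x ∈ B, x ^ p = 1) ∧
      p ^ k < Nat.card B := by
  unfold PRankLE at h
  push Not at h
  obtain ⟨B₀, hc, he, hcard⟩ := h
  refine ⟨B₀.map E.subtype, Subgroup.map_subtype_le _, ?_, ?_, ?_⟩
  · rintro _ ⟨x, hx, rfl⟩ _ ⟨y, hy, rfl⟩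
    have h1 := hc.is_comm.comm ⟨x, hx⟩ ⟨y, hy⟩
    have h2 := congrArg (fun z : B₀ => ((z : E) : G)) h1
    simpa using h2
  · rintro _ ⟨x, hx, rfl⟩
    have h1 := he x hx
    have h2 := congrArg (fun z : E => (z : G)) h1
    simpa using h2
  · rw [Subgroup.card_map_of_injective (Subgroup.subtype_injective E)]
    exact hcard

/-- An elementary abelian subgroup of `E` of order greater than `p ^ k` witnesses `¬ PRankLE p k E`. -/
theorem not_pRankLE_of_elemAb' {p k : ℕ} {E B : Subgroup G} (hBE : B ≤ E)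
    (hBc : ∀ x ∈ B, ∀ y ∈ B, x * y = y * x) (hBexp : ∀ x ∈ B, x ^ p = 1)
    (hcard : p ^ k < Nat.card B) : ¬ PRankLE p k E := by
  intro h
  have h1 : IsMulCommutative (B.subgroupOf E) := by
    refine ⟨⟨?_⟩⟩
    rintro ⟨a, ha⟩ ⟨b, hb⟩
    rw [Subgroup.mem_subgroupOf] at ha hb
    apply Subtype.ext
    apply Subtype.ext
    exact hBc _ ha _ hb
  have h2 : ∀ a ∈ B.subgroupOf E, a ^ p = 1 := by
    intro a ha
    rw [Subgroup.mem_subgroupOf] at ha
    apply Subtype.ext
    simpa using hBexp _ ha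
  have h3 := h (B.subgroupOf E) h1 h2
  rw [Nat.card_congr (Subgroup.subgroupOfEquivOfLe hBE).toEquiv] at h3
  omega

theorem pRankLE_of_le' {p k : ℕ} {E E' : Subgroup G} (hEE' : E ≤ E') (h : PRankLE p k E') :
    PRankLE p k E := by
  by_contra hE
  obtain ⟨B, hBE, hBc, hBe, hBcard⟩ := exists_elemAb_of_not_pRankLE hE
  exact not_pRankLE_of_elemAb' (hBE.trans hEE') hBc hBe hBcard h

theorem isPGroup_of_exp {p : ℕ} {B : Subgroup G} (hBexp : ∀ x ∈ B, x ^ p = 1) : IsPGroup p B := by
  intro b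
  refine ⟨1, ?_⟩
  apply Subtype.ext
  simpa using hBexp b.1 b.2

theorem inUniqueMaximal_mono' [Finite G] {X Y : Subgroup G} (h : InUniqueMaximal X) (hXY : X ≤ Y)
    (hY : Y ≠ ⊤) : InUniqueMaximal Y := by
  obtain ⟨M, ⟨hM, hXM⟩, hu⟩ := h
  obtain ⟨L, hL, hYL⟩ := (eq_top_or_exists_le_coatom Y).resolve_left hY
  have hLM : L = M := hu L ⟨hL, hXY.trans hYL⟩
  refine ⟨M, ⟨hM, hLM ▸ hYL⟩, ?_⟩
  rintro L' ⟨hL', hYL'⟩
  exact hu L' ⟨hL', hXY.trans hYL'⟩

/-- The normalizer of a set normalizes its centralizer. -/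
theorem normalizer_le_normalizer_centralizer (s : Set G) :
    Subgroup.normalizer s ≤ Subgroup.normalizer ((Subgroup.centralizer s : Subgroup G) : Set G) := by
  have h := Subgroup.normal_subgroupOf_centralizer_normalizer s
  exact (Subgroup.normal_subgroupOf_iff_le_normalizer (Subgroup.centralizer_le_normalizer s)).mp h

/-- If `P₀` is a Sylow `p`-subgroup of `A ≤ M` and `p` does not divide `|M : A|`, and `M` has
`p`-rank greater than `k`, then so does (the image of) `P₀`. -/
theorem not_pRankLE_sylow_of_hall [Finite G] {p k : ℕ} [Fact p.Prime] {A M : Subgroup G}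
    (hAM : A ≤ M) (hidx : ¬ p ∣ A.relIndex M) (P₀ : Sylow p A) (hM : ¬ PRankLE p k M) :
    ¬ PRankLE p k ↥((P₀ : Subgroup A).map A.subtype) := by
  set P := (P₀ : Subgroup A).map A.subtype with hP
  have hPM : P ≤ M := (Subgroup.map_subtype_le _).trans hAM
  have hcard : Nat.card P = p ^ (Nat.card M).factorization p := by
    rw [Cfsg.Agent.Lib.Helper54.card_map_sylow]
    congr 1
    have h1 := Cfsg.Agent.Lib.Helper54.card_mul_relIndex hAM
    rw [← h1]
    have hA0 : Nat.card A ≠ 0 := Nat.card_pos.ne'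
    have hr0 : A.relIndex M ≠ 0 := by
      intro h0
      rw [h0, mul_zero] at h1
      exact Nat.card_pos.ne' h1.symm
    rw [Nat.factorization_mul hA0 hr0]
    simp [Nat.factorization_eq_zero_of_not_dvd hidx]
  obtain ⟨S₀, hS₀⟩ := Cfsg.Agent.Lib.Helper54.exists_sylow_of_card M P hPM hcard
  intro hle
  apply hM
  -- Sylow's theorem in `M`
  intro E hEc hEe
  have hEp : IsPGroup p E := by
    intro e
    refine ⟨1, ?_⟩
    apply Subtype.ext
    simpa using hEe e.1 e.2
  obtain ⟨Q₀, hQ₀⟩ := hEp.exists_le_sylow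
  obtain ⟨m, hm, -⟩ := Cfsg.Agent.Lib.Helper54.exists_conj_sylow M Q₀ S₀
  -- conjugate `E` into `S₀`
  set E' : Subgroup M := MulAut.conj m • E with hE'
  have hE'S : E' ≤ (S₀ : Subgroup M) := by
    rw [← hm, Sylow.pointwise_smul_def]
    exact Cfsg.Agent.Lib.Helper54.conj_smul_le_conj_smul hQ₀
  have hcardE : Nat.card E' = Nat.card E := Cfsg.Agent.Lib.Helper54.card_conj_smul m E
  -- the image of `E'` in `G` lies in `P`
  set E'' : Subgroup G := E'.map M.subtype with hE''
  have hE''P : E'' ≤ P := by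
    rw [← hS₀]
    exact Subgroup.map_mono hE'S
  have hE''c : ∀ x ∈ E'', ∀ y ∈ E'', x * y = y * x := by
    rintro _ ⟨x, hx, rfl⟩ _ ⟨y, hy, rfl⟩
    rw [SetLike.mem_coe, hE', Cfsg.Agent.Lib.Helper54.mem_conj_smul_iff] at hx hy
    have h1 := hEc.is_comm.comm ⟨_, hx⟩ ⟨_, hy⟩
    have h2 := congrArg (fun z : E => (z : M)) h1
    simp only [MulMemClass.mk_mul_mk] at h2
    have h3 : x * y = y * x := by
      have h4 : m⁻¹ * x * m * (m⁻¹ * y * m) = m⁻¹ * (x * y) * m := by group
      have h5 : m⁻¹ * y * m * (m⁻¹ * x * m) = m⁻¹ * (y * x) * m := by group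
      rw [h4, h5] at h2
      exact mul_left_cancel (mul_right_cancel h2)
    simpa using congrArg (fun z : M => (z : G)) h3
  have hE''e : ∀ x ∈ E'', x ^ p = 1 := by
    rintro _ ⟨x, hx, rfl⟩
    rw [SetLike.mem_coe, hE', Cfsg.Agent.Lib.Helper54.mem_conj_smul_iff] at hx
    have h1 := hEe _ hx
    have h2 : x ^ p = 1 := by
      have h3 : (m⁻¹ * x * m) ^ p = m⁻¹ * x ^ p * m := by
        rw [show m⁻¹ * x * m = m⁻¹ * x * m⁻¹⁻¹ by group, conj_pow]
        group
      rw [h3] at h1
      have h4 : x ^ p = m * (m⁻¹ * x ^ p * m) * m⁻¹ := by group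
      rw [h4, h1]
      group
    simpa using congrArg (fun z : M => (z : G)) h2
  have hcardE'' : Nat.card E'' = Nat.card E := by
    rw [hE'', Subgroup.card_map_of_injective (Subgroup.subtype_injective M), hcardE]
  by_contra hgt
  push Not at hgt
  exact not_pRankLE_of_elemAb' hE''P hE''c hE''e (hcardE'' ▸ hgt) hle

/-- BG Lemma 10.3 (S1406), conditional on the Uniqueness Theorem and the Hall property of `M_α`. -/
theorem s1406_of [Finite G] (hG : Cfsg.IsMinSimpleOddOrder G)
    (h1403 : ∀ K : Subgroup G, K ≠ ⊤ → ¬ Cfsg.RankLE 1 K →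
      (¬ Cfsg.RankLE 2 K ∨ ¬ Cfsg.RankLE 2 (Subgroup.centralizer (K : Set G))) →
      Cfsg.InUniqueMaximal K)
    (M : Subgroup G) (hM : IsCoatom M)
    (h1405 : Cfsg.IsPiHallOf (Cfsg.alpha M) (Cfsg.alphaCore M) M)
    (X : Subgroup G) (hXM : X ≤ M)
    (hXα : ∀ p : ℕ, p.Prime → p ∣ Nat.card X → p ∉ Cfsg.alpha M)
    (hr : ¬ Cfsg.RankLE 1 ↥(Cfsg.alphaCore M ⊓ Subgroup.centralizer (X : Set G))) :
    Cfsg.InUniqueMaximal (M ⊓ Subgroup.centralizer (X : Set G)) := by
  obtain ⟨hodd, hsimple, hna, hsolv⟩ := hG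
  set A := Cfsg.alphaCore M with hA
  obtain ⟨hAM, hApi, hAhall⟩ := h1405
  have hMtop : M ≠ ⊤ := hM.1
  have hMsolv : Group.IsSolvable M := hsolv M hMtop
  have hAsolv : Group.IsSolvable A := Cfsg.Agent.Lib.Helper54.isSolvable_of_le hAM hMsolv
  have hKtop : M ⊓ Subgroup.centralizer (X : Set G) ≠ ⊤ := by
    intro h
    apply hMtop
    rw [eq_top_iff, ← h]
    exact inf_le_left
  -- `M` normalizes `A`
  have hMA : M ≤ Subgroup.normalizer (A : Set G) := by
    have h1 := Subgroup.le_normalizer_map (H := Cfsg.piCore (Cfsg.alpha M) M) M.subtype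
    rw [Subgroup.normalizer_eq_top, ← MonoidHom.range_eq_map, Subgroup.range_subtype] at h1
    exact h1
  -- the prime `p` and the elementary abelian subgroup `B`
  unfold Cfsg.RankLE at hr
  push Not at hr
  obtain ⟨p, hp, hB⟩ := hr
  have hpF : Fact p.Prime := ⟨hp⟩
  obtain ⟨B, hBle, hBc, hBe, hBcard⟩ := exists_elemAb_of_not_pRankLE hB
  rw [pow_one] at hBcard
  have hBA : B ≤ A := hBle.trans inf_le_left
  have hBX : B ≤ Subgroup.centralizer (X : Set G) := hBle.trans inf_le_right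
  have hBM : B ≤ M := hBA.trans hAM
  have hBK : B ≤ M ⊓ Subgroup.centralizer (X : Set G) := le_inf hBM hBX
  have hBp : IsPGroup p B := isPGroup_of_exp hBe
  have hBtop : B ≠ ⊤ := by
    intro h
    apply hMtop
    rw [eq_top_iff, ← h]
    exact hBM
  obtain ⟨j, hj⟩ := hBp.exists_card_eq
  have hj2 : 2 ≤ j := by
    by_contra hlt
    push Not at hlt
    have : p ^ j ≤ p ^ 1 := Nat.pow_le_pow_right hp.pos (by omega)
    rw [pow_one] at this
    omega
  have hp2B : p ^ 2 ≤ Nat.card B := by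
    rw [hj]
    exact Nat.pow_le_pow_right hp.pos hj2
  have hpB : p ∣ Nat.card B := by
    rw [hj]
    exact dvd_pow_self p (by omega)
  have hpα : p ∈ Cfsg.alpha M := hApi p hp (hpB.trans (Subgroup.card_dvd_of_le hBA))
  have hp2 : p ≠ 2 := by
    rintro rfl
    have h2 : 2 ∣ Nat.card G := hpB.trans (Subgroup.card_subgroup_dvd_card B)
    exact (Nat.not_even_iff_odd.mpr hodd) (even_iff_two_dvd.mpr h2)
  have hB1 : ¬ Cfsg.RankLE 1 B := by
    intro h
    exact not_pRankLE_of_elemAb' (le_refl B) hBc hBe (by rw [pow_one]; exact hBcard) (h p hp)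
  by_cases hC : Cfsg.RankLE 2 (Subgroup.centralizer (B : Set G))
  swap
  · exact inUniqueMaximal_mono' (h1403 B hBtop hB1 (Or.inr hC)) hBK hKtop
  -- coprimality
  have hcop : (Nat.card X).Coprime (Nat.card A) := by
    apply Nat.coprime_of_dvd
    intro k hk h1 h2
    exact hXα k hk h1 (hApi k hk h2)
  have hXA : X ≤ Subgroup.normalizer (A : Set G) := hXM.trans hMA
  have hXB : X ≤ Subgroup.normalizer (B : Set G) := by
    have h1 : X ≤ Subgroup.centralizer (B : Set G) := by
      intro x hx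
      rw [Subgroup.mem_centralizer_iff]
      intro b hb
      exact ((Subgroup.mem_centralizer_iff.mp (hBX hb)) x hx).symm
    exact h1.trans (Subgroup.centralizer_le_normalizer _)
  obtain ⟨P₀, hBP, hXP⟩ := Cfsg.Agent.Lib.Helper54.exists_invariant_sylow_ge X A hXA hcop
    (Or.inr hAsolv) p B hBA hBp hXB
  set P := (P₀ : Subgroup A).map A.subtype with hP
  have hPA : P ≤ A := Subgroup.map_subtype_le _
  have hPp : IsPGroup p P := P₀.isPGroup'.map _
  have hPnil : Group.IsNilpotent P := hPp.isNilpotent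
  have hcopP : (Nat.card X).Coprime (Nat.card P) :=
    Nat.Coprime.coprime_dvd_right (Subgroup.card_dvd_of_le hPA) hcop
  -- the subgroups `C = C_P(X)` and `Y = C_P(C)`
  set C := P ⊓ Subgroup.centralizer (X : Set G) with hCdef
  set Y := P ⊓ Subgroup.centralizer (C : Set G) with hYdef
  have hBC : B ≤ C := le_inf hBP hBX
  have hYB : Y ≤ Subgroup.centralizer (B : Set G) :=
    inf_le_right.trans (Subgroup.centralizer_le hBC)
  have hBcomm : IsMulCommutative B := ⟨⟨fun a b => Subtype.ext (hBc a.1 a.2 b.1 b.2)⟩⟩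
  -- every element of order `p` of `Y` lies in `B`
  have hYΩ : ∀ y ∈ Y, y ^ p = 1 → y ∈ B := by
    intro y hy hyp
    by_contra hyB
    have hyC : y ∈ Subgroup.centralizer (B : Set G) := hYB hy
    obtain ⟨hEc, hEe⟩ := Cfsg.Agent.Lib.Helper24.elemAb_adjoin p B hBcomm hBe y hyC hyp
    have hlt := Cfsg.Agent.Lib.Helper24.card_lt_card_adjoin B y hyB
    have hEle : Subgroup.closure ((B : Set G) ∪ {y}) ≤ Subgroup.centralizer (B : Set G) := by
      rw [Subgroup.closure_le]
      rintro z (hz | hz)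
      · rw [SetLike.mem_coe, Subgroup.mem_centralizer_iff]
        intro b hb
        exact hBc b hb z hz
      · rw [Set.mem_singleton_iff] at hz
        rw [hz]
        exact hyC
    refine not_pRankLE_of_elemAb' hEle ?_ hEe (lt_of_le_of_lt hp2B hlt) (hC p hp)
    intro a ha b hb
    have := hEc.is_comm.comm ⟨a, ha⟩ ⟨b, hb⟩
    exact congrArg Subtype.val this
  -- `X` normalizes `Y`
  have hXC : X ≤ Subgroup.normalizer (C : Set G) := by
    apply Cfsg.Agent.Lib.Helper54.le_normalizer_inf hXP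
    exact (Subgroup.le_normalizer).trans (normalizer_le_normalizer_centralizer _)
  have hXY : X ≤ Subgroup.normalizer (Y : Set G) := by
    apply Cfsg.Agent.Lib.Helper54.le_normalizer_inf hXP
    exact hXC.trans (normalizer_le_normalizer_centralizer _)
  have hYp : IsPGroup p Y := hPp.to_le inf_le_left
  -- `X` centralizes `Y`
  have hXcY : ∀ a ∈ X, ∀ y ∈ Y, a * y = y * a := by
    intro a ha
    have hcopa : (orderOf a).Coprime p := by
      have h1 : orderOf a ∣ Nat.card X := by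
        have := orderOf_dvd_natCard (⟨a, ha⟩ : X)
        rwa [Subgroup.orderOf_mk] at this
      apply Nat.Coprime.coprime_dvd_left h1
      rw [Nat.coprime_comm, Nat.Prime.coprime_iff_not_dvd hp]
      intro hpX
      exact hXα p hp hpX hpα
    apply Cfsg.Agent.Lib.Helper24.centralizes_of_centralizes_omega p hp2 a hcopa Y hYp (hXY ha)
    intro y hy hyp
    exact ((Subgroup.mem_centralizer_iff.mp (hBX (hYΩ y hy hyp))) a ha)
  have hYC : Y ≤ C := by
    intro y hy
    refine Subgroup.mem_inf.mpr ⟨(Subgroup.mem_inf.mp hy).1, ?_⟩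
    rw [Subgroup.mem_centralizer_iff]
    intro a ha
    exact hXcY a ha y hy
  -- Thompson: `X` centralizes `P`
  have hXcP : X ≤ Subgroup.centralizer (P : Set G) :=
    Cfsg.Agent.Lib.Helper24.centralizes_of_centralizer_self_centralizing P X hPnil hXP hcopP hYC
  have hPX : P ≤ Subgroup.centralizer (X : Set G) := by
    intro x hx
    rw [Subgroup.mem_centralizer_iff]
    intro a ha
    exact ((Subgroup.mem_centralizer_iff.mp (hXcP ha)) x hx).symm
  have hPK : P ≤ M ⊓ Subgroup.centralizer (X : Set G) := le_inf (hPA.trans hAM) hPX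
  -- `P` has rank at least 3
  have hP3 : ¬ PRankLE p 2 P := not_pRankLE_sylow_of_hall hAM (hAhall p hp hpα) P₀ hpα.2
  have hK3 : ¬ Cfsg.RankLE 2 ↥(M ⊓ Subgroup.centralizer (X : Set G)) := by
    intro h
    exact hP3 (pRankLE_of_le' hPK (h p hp))
  have hK1 : ¬ Cfsg.RankLE 1 ↥(M ⊓ Subgroup.centralizer (X : Set G)) := by
    intro h
    exact not_pRankLE_of_elemAb' hBK hBc hBe (by rw [pow_one]; exact hBcard) (h p hp)
  exact h1403 _ hKtop hK1 (Or.inl hK3)

end Cfsg.Agent.Lib.Helper46.BGTen
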