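/-
helper46: Bender–Glauberman section 10, Lemma 10.4(a) (statement S1407), proved conditionally on the
Uniqueness Theorem (S1403) and on two clauses of S1405 (`M_α` is a Hall subgroup of `M`, `M_α ≤ M_σ`).
-/
import Mathlib
import Cfsg.Prelude.Def_OddOrderLocal
import Cfsg.Agent.Lib.Helper46.BGTenA
import Cfsg.Agent.Lib.Helper54.BGTransitivity
import Cfsg.Agent.Lib.Helper54.UqNine4

set_option autoImplicit false

namespace Cfsg.Agent.Lib.Helper46.BGTen

open Cfsg
open Pointwise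

variable {G : Type*} [Group G]

/-- A maximal subgroup of a simple group is self-normalizing, unless it is trivial. -/
theorem normalizer_eq_self_of_isCoatom (hs : IsSimpleGroup G) {M : Subgroup G} (hM : IsCoatom M)
    (hM1 : M ≠ ⊥) : Subgroup.normalizer (M : Set G) = M := by
  rcases eq_or_lt_of_le (Subgroup.le_normalizer : M ≤ Subgroup.normalizer (M : Set G)) with h | h
  · exact h.symm
  · exfalso
    have h1 := hM.2 _ h
    have hn : M.Normal := Subgroup.normalizer_eq_top_iff.mp h1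
    rcases hs.eq_bot_or_eq_top_of_normal M hn with h2 | h2
    · exact hM1 h2
    · exact hM.1 h2

/-- Membership in the image in `G` of the centre of a subgroup `P` of a subgroup `M`. -/
theorem mem_center_map_map {M : Subgroup G} (P : Subgroup M) (x : G) :
    x ∈ ((Subgroup.center ↥P).map P.subtype).map M.subtype ↔
      x ∈ P.map M.subtype ∧ ∀ y ∈ P.map M.subtype, y * x = x * y := by
  constructor
  · rintro ⟨_, ⟨z, hz, rfl⟩, rfl⟩
    refine ⟨⟨z.1, z.2, rfl⟩, ?_⟩
    rintro _ ⟨y, hy, rfl⟩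
    have h1 := (Subgroup.mem_center_iff.mp hz) ⟨y, hy⟩
    have h2 := congrArg (fun w : P => ((w : M) : G)) h1
    simpa using h2
  · rintro ⟨⟨x', hx', rfl⟩, hc⟩
    refine ⟨x', ⟨⟨x', hx'⟩, ?_, rfl⟩, rfl⟩
    rw [SetLike.mem_coe, Subgroup.mem_center_iff]
    rintro ⟨y, hy⟩
    apply Subtype.ext
    apply Subtype.ext
    exact hc _ ⟨y, hy, rfl⟩

/-- BG Lemma 10.4(a) (S1407), conditional on the Uniqueness Theorem and on S1405. -/
theorem s1407_of [Finite G] (hG : Cfsg.IsMinSimpleOddOrder G)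
    (h1403 : ∀ K : Subgroup G, K ≠ ⊤ → ¬ Cfsg.RankLE 1 K →
      (¬ Cfsg.RankLE 2 K ∨ ¬ Cfsg.RankLE 2 (Subgroup.centralizer (K : Set G))) →
      Cfsg.InUniqueMaximal K)
    (M : Subgroup G) (hM : IsCoatom M)
    (h1405a : Cfsg.IsPiHallOf (Cfsg.alpha M) (Cfsg.alphaCore M) M)
    (h1405c : Cfsg.alphaCore M ≤ Cfsg.sigmaCore M)
    (p : ℕ) [hpF : Fact p.Prime] (hpM : p ∣ Nat.card M) (hp : p ∉ Cfsg.sigma M) (P : Sylow p M) :
    ∃ x : G, x ∈ ((Subgroup.center ↥(P : Subgroup M)).map (P : Subgroup M).subtype).map M.subtype ∧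
        orderOf x = p ∧
        IsZGroup ↥(Cfsg.alphaCore M ⊓ Subgroup.centralizer ({x} : Set G)) ∧
        ¬ (Subgroup.centralizer ({x} : Set G) ≤ M ∧ ∀ L : Subgroup G, IsCoatom L →
          Subgroup.centralizer ({x} : Set G) ≤ L → L = M) := by
  have hG' := hG
  obtain ⟨hodd, hsimple, hna, hsolv⟩ := hG
  have hpp : p.Prime := hpF.out
  have hM1 : M ≠ ⊥ := by
    rintro rfl
    rw [Subgroup.card_bot] at hpM
    exact hpp.one_lt.ne' (Nat.dvd_one.mp hpM)
  have hNM : Subgroup.normalizer (M : Set G) = M := normalizer_eq_self_of_isCoatom hsimple hM hM1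
  -- the centre of `G` is trivial
  have hZG : Subgroup.center G = ⊥ := by
    rcases hsimple.eq_bot_or_eq_top_of_normal (Subgroup.center G) inferInstance with h | h
    · exact h
    · exfalso
      apply hna
      refine ⟨⟨fun a b => ?_⟩⟩
      have hb : b ∈ Subgroup.center G := h ▸ Subgroup.mem_top b
      exact ((Subgroup.mem_center_iff.mp hb) a)
  -- `p ∉ α(M)`
  have hpα : p ∉ Cfsg.alpha M := by
    intro hα
    obtain ⟨hAM, hApi, hAhall⟩ := h1405a
    have h1 := Cfsg.Agent.Lib.Helper54.card_mul_relIndex hAM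
    have h2 : p ∣ Nat.card (Cfsg.alphaCore M) := by
      rw [← h1] at hpM
      rcases (Nat.Prime.dvd_mul hpp).mp hpM with h | h
      · exact h
      · exact absurd h (hAhall p hpp hα)
    have h3 : p ∣ Nat.card (Cfsg.sigmaCore M) := h2.trans (Subgroup.card_dvd_of_le h1405c)
    exact hp (Cfsg.Agent.Lib.Helper54.piCoreOf_isPi (Cfsg.sigma M) M p hpp h3)
  -- an element of `N_G(P)` outside `M`
  set P' : Subgroup G := (P : Subgroup M).map M.subtype with hP'
  have hNP : ¬ Subgroup.normalizer (P' : Set G) ≤ M := by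
    intro h
    exact hp ⟨hpp, hpM, P, h⟩
  obtain ⟨g, hgN, hgM⟩ := SetLike.not_le_iff_exists.mp hNP
  set ZP : Subgroup G :=
    ((Subgroup.center ↥(P : Subgroup M)).map (P : Subgroup M).subtype).map M.subtype with hZP
  have hmemZ : ∀ x : G, x ∈ ZP ↔ x ∈ P' ∧ ∀ y ∈ P', y * x = x * y :=
    fun x => mem_center_map_map (P : Subgroup M) x
  -- an element of order `p` in `Z(P)`
  have hx₀ : ∃ x₀ ∈ ZP, orderOf x₀ = p := by
    have hPnt : Nontrivial (P : Subgroup M) := by
      rw [P.isPGroup'.nontrivial_iff_card]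
      refine ⟨(Nat.card M).factorization p, ?_, P.card_eq_multiplicity⟩
      exact (hpp.factorization_pos_of_dvd Nat.card_pos.ne' hpM)
    have hZnt : Nontrivial (Subgroup.center ↥(P : Subgroup M)) := P.isPGroup'.center_nontrivial
    have hZp : IsPGroup p (Subgroup.center ↥(P : Subgroup M)) := P.isPGroup'.to_subgroup _
    obtain ⟨n, hn0, hn⟩ := hZp.nontrivial_iff_card.mp hZnt
    have hdvd : p ∣ Nat.card (Subgroup.center ↥(P : Subgroup M)) := by
      rw [hn]
      exact dvd_pow_self p hn0.ne'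
    obtain ⟨z, hz⟩ := exists_prime_orderOf_dvd_card' p hdvd
    refine ⟨(((z : (P : Subgroup M)) : M) : G), ⟨_, ⟨z.1, z.2, rfl⟩, rfl⟩, ?_⟩
    rw [Subgroup.orderOf_coe, Subgroup.orderOf_coe, Subgroup.orderOf_coe]
    exact hz
  obtain ⟨x₀, hx₀Z, hx₀p⟩ := hx₀
  -- conjugation by `g` preserves `Z(P)`
  have hconjZ : ∀ x ∈ ZP, g * x * g⁻¹ ∈ ZP := by
    intro x hx
    rw [hmemZ] at hx ⊢
    obtain ⟨hxP, hxc⟩ := hx
    refine ⟨(Subgroup.mem_normalizer_iff.mp hgN x).mp hxP, ?_⟩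
    intro y hy
    have hy' : g⁻¹ * y * g⁻¹⁻¹ ∈ P' := by
      have := (Subgroup.mem_normalizer_iff.mp (Subgroup.inv_mem _ hgN) y).mp hy
      exact this
    have h1 := hxc _ hy'
    have h2 : y * (g * x * g⁻¹) = g * (g⁻¹ * y * g⁻¹⁻¹ * x) * g⁻¹ := by group
    have h3 : g * x * g⁻¹ * y = g * (x * (g⁻¹ * y * g⁻¹⁻¹)) * g⁻¹ := by group
    rw [h2, h3, h1]
  -- Claim A: some element of order `p` of `Z(P)` has `M` not the unique maximal over `C_G(x)`
  have hA : ∃ x ∈ ZP, orderOf x = p ∧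
      ¬ (Subgroup.centralizer ({x} : Set G) ≤ M ∧ ∀ L : Subgroup G, IsCoatom L →
          Subgroup.centralizer ({x} : Set G) ≤ L → L = M) := by
    by_contra hcon
    push Not at hcon
    have hx₁Z : g * x₀ * g⁻¹ ∈ ZP := hconjZ x₀ hx₀Z
    have hx₁p : orderOf (g * x₀ * g⁻¹) = p := by
      have hsc : SemiconjBy g x₀ (g * x₀ * g⁻¹) := by
        unfold SemiconjBy
        group
      rw [← hsc.orderOf_eq]
      exact hx₀p
    obtain ⟨h0M, h0u⟩ := hcon x₀ hx₀Z hx₀p
    obtain ⟨h1M, h1u⟩ := hcon _ hx₁Z hx₁p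
    have hL : IsCoatom (MulAut.conj g⁻¹ • M) := Cfsg.Agent.Lib.Helper54.isCoatom_conj_smul hM g⁻¹
    have hle : Subgroup.centralizer ({x₀} : Set G) ≤ MulAut.conj g⁻¹ • M := by
      intro y hy
      rw [Cfsg.Agent.Lib.Helper54.mem_conj_smul_iff]
      apply h1M
      rw [Subgroup.mem_centralizer_singleton_iff] at hy ⊢
      have h2 : g⁻¹⁻¹ * y * g⁻¹ * (g * x₀ * g⁻¹) = g * (y * x₀) * g⁻¹ := by group
      have h3 : g * x₀ * g⁻¹ * (g⁻¹⁻¹ * y * g⁻¹) = g * (x₀ * y) * g⁻¹ := by group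
      rw [h2, h3, hy]
    have hLM := h0u _ hL hle
    have hgN' : g⁻¹ ∈ Subgroup.normalizer (M : Set G) :=
      Cfsg.Agent.Lib.Helper54.mem_normalizer_iff_conj_smul.mpr hLM
    rw [hNM] at hgN'
    exact hgM (by simpa using M.inv_mem hgN')
  obtain ⟨x, hxZ, hxp, hxu⟩ := hA
  refine ⟨x, hxZ, hxp, ?_, hxu⟩
  -- Claim B: `C_{M_α}(x)` is a Z-group
  by_contra hZ
  apply hxu
  have hxM : x ∈ M := by
    have := ((hmemZ x).mp hxZ).1
    exact (Subgroup.map_subtype_le _) this
  have hcent : Subgroup.centralizer ((Subgroup.zpowers x : Subgroup G) : Set G) =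
      Subgroup.centralizer ({x} : Set G) := by
    rw [Subgroup.zpowers_eq_closure, Subgroup.centralizer_closure]
  -- a noncyclic Sylow subgroup of `C_{M_α}(x)`
  set K : Subgroup G := Cfsg.alphaCore M ⊓ Subgroup.centralizer ({x} : Set G) with hK
  rw [isZGroup_iff] at hZ
  push Not at hZ
  obtain ⟨q, hq, Q, hQ⟩ := hZ
  have hqF : Fact q.Prime := ⟨hq⟩
  set Q' : Subgroup G := (Q : Subgroup K).map K.subtype with hQ'
  have hQ'K : Q' ≤ K := Subgroup.map_subtype_le _
  have hQ'p : IsPGroup q Q' := Q.isPGroup'.map _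
  have hQ'nc : ¬ IsCyclic Q' := by
    intro h
    apply hQ
    have := h
    exact isCyclic_of_surjective
      ((Q : Subgroup K).equivMapOfInjective K.subtype K.subtype_injective).symm
      ((Q : Subgroup K).equivMapOfInjective K.subtype K.subtype_injective).symm.surjective
  have hq2 : q ≠ 2 := by
    rintro rfl
    have h1 : Odd (Nat.card Q') :=
      Odd.of_dvd_nat hodd (Subgroup.card_subgroup_dvd_card Q')
    obtain ⟨n, hn⟩ := hQ'p.exists_card_eq
    rcases Nat.eq_zero_or_pos n with h0 | h0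
    · apply hQ'nc
      have hc1 : Nat.card Q' = 1 := by rw [hn, h0, pow_zero]
      have : Subsingleton Q' := (Nat.card_eq_one_iff_unique.mp hc1).1
      exact isCyclic_of_subsingleton
    · rw [hn] at h1
      have : Even (2 ^ n) := (Nat.even_pow' h0.ne').mpr even_two
      exact (Nat.not_even_iff_odd.mpr h1) this
  obtain ⟨E, hEQ, hEc, hEe, hEcard⟩ :=
    Cfsg.Agent.Lib.Helper54.exists_elemAb_sq_of_not_isCyclic hq2 Q' hQ'p hQ'nc
  have hr : ¬ Cfsg.RankLE 1
      ↥(Cfsg.alphaCore M ⊓ Subgroup.centralizer ((Subgroup.zpowers x : Subgroup G) : Set G)) := by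
    rw [hcent]
    intro h
    refine not_pRankLE_of_elemAb' (hEQ.trans hQ'K) hEc hEe ?_ (h q hq)
    have : q ^ 1 < q ^ 2 := Nat.pow_lt_pow_right hq.one_lt (by norm_num)
    omega
  have hXα : ∀ r : ℕ, r.Prime → r ∣ Nat.card (Subgroup.zpowers x) → r ∉ Cfsg.alpha M := by
    intro r hr hrd
    rw [Nat.card_zpowers, hxp] at hrd
    rw [(Nat.prime_dvd_prime_iff_eq hr hpp).mp hrd]
    exact hpα
  have hXM : Subgroup.zpowers x ≤ M := by
    rw [Subgroup.zpowers_le]
    exact hxM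
  have hU := s1406_of hG' h1403 M hM h1405a (Subgroup.zpowers x) hXM hXα hr
  rw [hcent] at hU
  obtain ⟨M', ⟨hM'c, hM'le⟩, hM'u⟩ := hU
  have hMM' : M = M' := hM'u M ⟨hM, inf_le_left⟩
  have huniq : ∀ L : Subgroup G, IsCoatom L → Subgroup.centralizer ({x} : Set G) ≤ L → L = M := by
    intro L hL hCL
    rw [hMM']
    exact hM'u L ⟨hL, inf_le_right.trans hCL⟩
  refine ⟨?_, huniq⟩
  rcases eq_top_or_exists_le_coatom (Subgroup.centralizer ({x} : Set G)) with h | ⟨L, hL, hCL⟩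
  · exfalso
    have hxc : x ∈ Subgroup.center G := by
      rw [Subgroup.mem_center_iff]
      intro y
      have hy : y ∈ Subgroup.centralizer ({x} : Set G) := h ▸ Subgroup.mem_top y
      rw [Subgroup.mem_centralizer_singleton_iff] at hy
      exact hy
    rw [hZG, Subgroup.mem_bot] at hxc
    rw [hxc, orderOf_one] at hxp
    exact hpp.one_lt.ne' hxp.symm
  · rw [← huniq L hL hCL]
    exact hCL

end Cfsg.Agent.Lib.Helper46.BGTen
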