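import Mathlib
import Cfsg.Agent.Lib.Helper54.Coprime
import Cfsg.Agent.Lib.Helper24.SigmaEmbed
import Cfsg.Agent.Lib.Helper58.Fpf4Aux
import Cfsg.Agent.Lib.Helper76.PCore
import Cfsg.Agent.S3745

/-!
# Step 2 of (AS) (BG 13.8 special case): a Hall `{r, s}`-subgroup with cyclic Sylow subgroups

`C` a solvable subgroup of `G`; `R`, `Q` cyclic Sylow `r`-, `s`-subgroups of `C` (`r ≠ s`), `X ≤ R` of
order `r`, `Y ≤ Q` of order `s`.  Then some `C`-conjugate of `Q` normalizes `X`, or some `C`-conjugate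
of `R` normalizes `Y`.  (Take a Hall `{r,s}`-subgroup `T` of `C`; `O_r(T) ≠ 1` or `O_s(T) ≠ 1`.)
-/

set_option autoImplicit false

namespace Cfsg.Agent.Lib.Helper46.BGAsymHall

open Cfsg
open scoped Pointwise
open Cfsg.Agent.Lib.Helper54 (mem_conj_smul_iff conj_mem_conj_smul mem_normalizer_iff_conj_smul
  card_conj_smul conj_smul_le_conj_smul)

variable {G : Type*} [Group G]

/-- In a cyclic subgroup, a subgroup is determined by its order. -/
theorem eq_of_card_eq_of_le_cyclic [Finite G] (Z X Y : Subgroup G) (hZ : IsCyclic Z) (hX : X ≤ Z)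
    (hY : Y ≤ Z) (h : Nat.card X = Nat.card Y) : X = Y := by
  classical
  have : Fintype Z := Fintype.ofFinite Z
  have key : ∀ W : Subgroup G, W ≤ Z → ∀ a : G, a ∈ Z → a ^ Nat.card W = 1 → a ∈ W := by
    intro W hW a haZ ha
    have hn : 0 < Nat.card W := Nat.card_pos
    have hF := IsCyclic.card_pow_eq_one_le (α := Z) hn
    set F : Set Z := {b : Z | b ^ Nat.card W = 1} with hFdef
    set W' : Set Z := {b : Z | (b : G) ∈ W} with hW'def
    have hsub : W' ⊆ F := by
      intro b hb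
      have h1 : (⟨(b : G), hb⟩ : W) ^ Nat.card W = 1 := pow_card_eq_one'
      have h2 := congrArg (Subtype.val) h1
      rw [Subgroup.coe_pow, Subgroup.coe_one] at h2
      show b ^ Nat.card W = 1
      apply Subtype.ext
      rw [Subgroup.coe_pow, Subgroup.coe_one]
      exact h2
    have hcardF : F.ncard ≤ Nat.card W := by
      rw [Set.ncard_eq_toFinset_card' F]
      convert hF using 2
      ext b
      simp [hFdef]
    have hcardW' : W'.ncard = Nat.card W := by
      rw [← Nat.card_coe_set_eq]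
      apply Nat.card_congr
      exact {
        toFun := fun b => ⟨(b.1 : G), b.2⟩
        invFun := fun w => ⟨⟨(w : G), hW w.2⟩, w.2⟩
        left_inv := fun b => rfl
        right_inv := fun w => rfl }
    have heq : W' = F := Set.eq_of_subset_of_ncard_le hsub (by rw [hcardW']; exact hcardF)
    have haF : (⟨a, haZ⟩ : Z) ∈ F := by
      show (⟨a, haZ⟩ : Z) ^ Nat.card W = 1
      apply Subtype.ext
      rw [Subgroup.coe_pow, Subgroup.coe_one]
      exact ha
    rw [← heq] at haF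
    exact haF
  have hpow : ∀ W : Subgroup G, ∀ a ∈ W, a ^ Nat.card W = 1 := by
    intro W a ha
    have h1 : (⟨a, ha⟩ : W) ^ Nat.card W = 1 := pow_card_eq_one'
    have h2 := congrArg (Subtype.val) h1
    rwa [Subgroup.coe_pow, Subgroup.coe_one] at h2
  apply le_antisymm
  · intro x hx
    exact key Y hY x (hX hx) (h ▸ hpow X x hx)
  · intro y hy
    exact key X hX y (hY hy) (h.symm ▸ hpow Y y hy)

theorem conj_smul_mul (g h : G) (A : Subgroup G) :
    MulAut.conj (g * h) • A = MulAut.conj g • (MulAut.conj h • A) := by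
  rw [map_mul, mul_smul]

/-- One half of Step 2. -/
theorem aux [Finite G] (C : Subgroup G) {r s : ℕ} [Fact r.Prime] [Fact s.Prime]
    (R Q X T O : Subgroup G) (hRr : IsPGroup r R)
    (hRidx : ¬ r ∣ R.relIndex C) (hRcyc : IsCyclic R)
    (hQC : Q ≤ C) (hQs : IsPGroup s Q) (hXR : X ≤ R) (hX : Nat.card X = r)
    (hTC : T ≤ C) (hTs : ¬ s ∣ T.relIndex C) (hOT : O ≤ T) (hO1 : O ≠ ⊥) (hOr : IsPGroup r O)
    (hTO : T ≤ Subgroup.normalizer (O : Set G)) :
    ∃ c ∈ C, Q.map (MulAut.conj c).toMonoidHom ≤ Subgroup.normalizer (X : Set G) := by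
  have hr : r.Prime := Fact.out
  obtain ⟨g, hgC, hg⟩ := Cfsg.Agent.Lib.Helper24.exists_conj_le_of_not_dvd_relIndex r
    (hOT.trans hTC) hOr hRidx
  change MulAut.conj g • O ≤ R at hg
  set O' : Subgroup G := MulAut.conj g • O with hO'
  have hO'card : Nat.card O' = Nat.card O := card_conj_smul g O
  have hO'1 : O' ≠ ⊥ := by
    intro h
    apply hO1
    rw [← Subgroup.card_eq_one, ← hO'card, h, Subgroup.card_bot]
  have hO'r : IsPGroup r O' := hRr.to_le hg
  -- a subgroup of order `r` in `O'`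
  have hdvd : r ∣ Nat.card O' := by
    obtain ⟨k, hk⟩ := IsPGroup.iff_card.mp hO'r
    have hk0 : k ≠ 0 := by
      intro h0
      rw [h0, pow_zero] at hk
      exact hO'1 (Subgroup.card_eq_one.mp hk)
    rw [hk]
    exact dvd_pow_self r hk0
  obtain ⟨x, hx⟩ := exists_prime_orderOf_dvd_card' r hdvd
  have hX0card : Nat.card (Subgroup.zpowers (x : G)) = r := by
    rw [Nat.card_zpowers, Subgroup.orderOf_coe, hx]
  have hX0O : Subgroup.zpowers (x : G) ≤ O' := by
    rw [Subgroup.zpowers_le]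
    exact x.2
  have hXeq : Subgroup.zpowers (x : G) = X :=
    eq_of_card_eq_of_le_cyclic R _ X hRcyc (hX0O.trans hg) hXR (by rw [hX0card, hX])
  have hXO : X ≤ O' := hXeq ▸ hX0O
  -- `g T g⁻¹` normalizes `X`
  have hTX : MulAut.conj g • T ≤ Subgroup.normalizer (X : Set G) := by
    intro y hy
    rw [mem_conj_smul_iff] at hy
    have hyO : MulAut.conj (g⁻¹ * y * g) • O = O := mem_normalizer_iff_conj_smul.mp (hTO hy)
    have hyO' : MulAut.conj y • O' = O' := by
      rw [hO', ← conj_smul_mul]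
      have : y * g = g * (g⁻¹ * y * g) := by group
      rw [this, conj_smul_mul, hyO]
    rw [mem_normalizer_iff_conj_smul]
    apply eq_of_card_eq_of_le_cyclic R _ X hRcyc _ hXR (by rw [card_conj_smul])
    calc MulAut.conj y • X ≤ MulAut.conj y • O' := conj_smul_le_conj_smul hXO
      _ = O' := hyO'
      _ ≤ R := hg
  obtain ⟨h, hhC, hh⟩ := Cfsg.Agent.Lib.Helper24.exists_conj_le_of_not_dvd_relIndex s hQC hQs hTs
  change MulAut.conj h • Q ≤ T at hh
  refine ⟨g * h, C.mul_mem hgC hhC, ?_⟩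
  change MulAut.conj (g * h) • Q ≤ _
  rw [conj_smul_mul]
  exact (conj_smul_le_conj_smul hh).trans hTX

/-- **Step 2 of (AS).** -/
theorem step_two [Finite G] (C : Subgroup G) (hsol : Group.IsSolvable C) {r s : ℕ} [Fact r.Prime]
    [Fact s.Prime] (R Q X Y : Subgroup G)
    (hRC : R ≤ C) (hRr : IsPGroup r R) (hRidx : ¬ r ∣ R.relIndex C) (hRcyc : IsCyclic R)
    (hQC : Q ≤ C) (hQs : IsPGroup s Q) (hQidx : ¬ s ∣ Q.relIndex C) (hQcyc : IsCyclic Q)
    (hXR : X ≤ R) (hX : Nat.card X = r) (hYQ : Y ≤ Q) (hY : Nat.card Y = s) :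
    (∃ c ∈ C, Q.map (MulAut.conj c).toMonoidHom ≤ Subgroup.normalizer (X : Set G)) ∨
      (∃ c ∈ C, R.map (MulAut.conj c).toMonoidHom ≤ Subgroup.normalizer (Y : Set G)) := by
  have hr : r.Prime := Fact.out
  have hs : s.Prime := Fact.out
  -- a Hall `{r, s}`-subgroup `T` of `C`
  obtain ⟨T, ⟨hTC, hTπ, hTidx⟩, -⟩ := (Cfsg.Agent.S3745.result (⊥ : Subgroup G) C bot_le
    (by rw [Subgroup.card_bot]; exact Nat.coprime_one_left _) hsol ({r, s} : Set ℕ)).1
  have hTr : ¬ r ∣ T.relIndex C := hTidx r hr (by simp)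
  have hTs : ¬ s ∣ T.relIndex C := hTidx s hs (by simp)
  -- `T ≠ 1`
  have hrT : r ∣ Nat.card T := by
    have h1 : r ∣ Nat.card C :=
      ((hX ▸ dvd_refl _ : r ∣ Nat.card X).trans (Subgroup.card_dvd_of_le hXR)).trans
        (Subgroup.card_dvd_of_le hRC)
    rw [← Cfsg.Agent.Lib.Helper54.card_mul_relIndex hTC] at h1
    exact (hr.dvd_mul.mp h1).resolve_right hTr
  have hTnt : Nontrivial T := by
    rw [← Finite.one_lt_card_iff_nontrivial]
    exact lt_of_lt_of_le hr.one_lt (Nat.le_of_dvd Nat.card_pos hrT)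
  have hTsol : Group.IsSolvable T := Cfsg.Agent.Lib.Helper54.isSolvable_of_le hTC hsol
  obtain ⟨p, hp, hpc⟩ := Cfsg.Agent.Lib.Helper58.Fpf4.exists_pCore_ne_bot (G := T)
  have : Fact p.Prime := ⟨hp⟩
  set O : Subgroup G := (pCore p ↥T).map T.subtype with hO
  have hOT : O ≤ T := Subgroup.map_subtype_le _
  have hO1 : O ≠ ⊥ := by
    intro h
    apply hpc
    rwa [hO, Subgroup.map_eq_bot_iff_of_injective _ T.subtype_injective] at h
  have hOp : IsPGroup p O := (Cfsg.Agent.Lib.Helper76.pCore_isPGroup p).map _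
  have hTO : T ≤ Subgroup.normalizer (O : Set G) :=
    Cfsg.Agent.Lib.Helper54.le_normalizer_map_subtype T (pCore p ↥T)
  have hpT : p ∣ Nat.card T := by
    obtain ⟨k, hk⟩ := IsPGroup.iff_card.mp hOp
    have hk0 : k ≠ 0 := by
      intro h0
      rw [h0, pow_zero] at hk
      exact hO1 (Subgroup.card_eq_one.mp hk)
    have : p ∣ Nat.card O := by rw [hk]; exact dvd_pow_self p hk0
    exact this.trans (Subgroup.card_dvd_of_le hOT)
  have hpπ := hTπ p hp hpT
  rcases hpπ with hpr | hps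
  · left
    subst hpr
    exact aux C R Q X T O hRr hRidx hRcyc hQC hQs hXR hX hTC hTs hOT hO1 hOp hTO
  · right
    have hps' : p = s := hps
    subst hps'
    exact aux C Q R Y T O hQs hQidx hQcyc hRC hRr hYQ hY hTC hTr hOT hO1 hOp hTO

end Cfsg.Agent.Lib.Helper46.BGAsymHall
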