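import Cfsg.Agent.Lib.Helper54.BGFourteenEmbed
import Cfsg.Agent.Lib.Helper54.BGElevenA
import Cfsg.Agent.Lib.Helper55.FrobFixedPoints
import Cfsg.Agent.Lib.Helper55.BGElevenD
import Cfsg.Agent.Lib.Helper21.BGTwelveK
import Cfsg.Agent.Lib.Helper21.BGFourteenSevenA
import Cfsg.Agent.Lib.Helper21.BGFourteenSevenC
import Cfsg.Agent.Lib.Helper50.Lemma141
import Cfsg.Agent.Lib.Helper97.BGTwelveCor
import Cfsg.Agent.Lib.Helper46.BGAsymHall
import Cfsg.Agent.S1417
import Cfsg.Agent.S1418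

/-!
# Bender–Glauberman Theorem 14.6 (S1435), steps (3), (4), (5), hypotheses-style  (helper46)

`Frame H Mstar K` collects what steps (0)–(2) of the proof of Theorem 14.6 give: `H`, `M*` maximal,
`K ≤ H` of prime order `p ∉ σ(H)`, `K ≤ M*_σ`, `C_G(K) ≤ M*`, `C_{H_σ}(K) = 1`.

* `Frame.not_tau2`: no prime of `τ₂(H)` lies outside `σ(M*) ∪ κ(M*)`.
* `Frame.mem_sigma`: a prime `s ∉ σ(M*) ∪ κ(M*)` for which `H` has a nontrivial `K`-invariant
  `s`-subgroup `Y` with `C_Y(K) = 1` lies in `σ(H)`.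
* `Frame.le_sigmaCore`: `U ≤ H_σ` for an abelian `K`-invariant `U ≤ H` with `C_U(K) = 1` whose primes
  avoid `σ(M*) ∪ κ(M*)`.
* `inf_eq_bot`, `inf_eq_sup`, `not_normalizer_le`: `M_σ ∩ H = 1`, `M ∩ H = U ⊔ K`, `N_H(U) ≰ M`.

Inputs: `Stmt1430 G`, `Stmt1431 G` (Theorem 14.2; through `Helper54.s1432_of`), the landed rows
S1417, S1418 and the Frobenius fixed point lemma `Helper55.FrobFixedPoints`.
-/

set_option autoImplicit false

namespace Cfsg.Agent.Lib.Helper46.BGFourteenSix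

open Cfsg
open Cfsg.Agent.Lib
open Cfsg.Agent.Lib.Helper54 (Stmt1430 Stmt1431)

universe u

variable {G : Type u} [Group G]

/-- The configuration reached after steps (0)–(2) of the proof of B&G Theorem 14.6. -/
structure Frame (H Mstar K : Subgroup G) : Prop where
  coatomH : IsCoatom H
  coatomM : IsCoatom Mstar
  card : (Nat.card K).Prime
  le : K ≤ H
  le_core : K ≤ sigmaCore Mstar
  cent_le : Subgroup.centralizer (K : Set G) ≤ Mstar
  fpf : sigmaCore H ⊓ Subgroup.centralizer (K : Set G) = ⊥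
  not_sigma : Nat.card K ∉ sigma H

namespace Frame

variable {H Mstar K : Subgroup G}

theorem ne_bot (F : Frame H Mstar K) : K ≠ ⊥ := by
  intro h
  have := F.card
  rw [h, Subgroup.card_bot] at this
  exact Nat.not_prime_one this

theorem comm (F : Frame H Mstar K) : ∀ a ∈ K, ∀ b ∈ K, a * b = b * a := by
  have : Fact (Nat.card K).Prime := ⟨F.card⟩
  have hc : IsCyclic K := isCyclic_of_prime_card rfl
  have hcomm : ∀ a b : K, a * b = b * a := isMulCommutative_iff.mp IsCyclic.isMulCommutative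
  intro a ha b hb
  exact congrArg Subtype.val (hcomm ⟨a, ha⟩ ⟨b, hb⟩)

theorem le_centralizer (F : Frame H Mstar K) : K ≤ Subgroup.centralizer (K : Set G) := by
  intro a ha
  rw [Subgroup.mem_centralizer_iff]
  intro b hb
  exact F.comm b hb a ha

theorem inf_core_eq_bot (F : Frame H Mstar K) : K ⊓ sigmaCore H = ⊥ := by
  rw [eq_bot_iff, ← F.fpf]
  exact le_inf inf_le_right (inf_le_left.trans F.le_centralizer)

theorem ne (F : Frame H Mstar K) : H ≠ Mstar := by
  intro h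
  apply F.ne_bot
  rw [eq_bot_iff, ← F.inf_core_eq_bot]
  exact le_inf le_rfl (h ▸ F.le_core)

theorem mem_sigma_star [Finite G] (F : Frame H Mstar K) : Nat.card K ∈ sigma Mstar :=
  Helper54.sigmaCore_isPi Mstar _ F.card (Subgroup.card_dvd_of_le F.le_core)

theorem exists_ne_one (F : Frame H Mstar K) : ∃ k ∈ K, k ≠ 1 := by
  by_contra h
  push Not at h
  apply F.ne_bot
  rw [eq_bot_iff]
  intro k hk
  rw [Subgroup.mem_bot]
  exact h k hk

/-- Frobenius lemma in the frame: a `K`-invariant `s`-subgroup `Y ≤ H` (`s ∉ σ(H)`, `s ≠ p`) on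
which `K` acts fixed-point-freely centralizes `H_σ`. -/
theorem core_le_centralizer [Finite G] (hG : IsMinSimpleOddOrder G) (F : Frame H Mstar K)
    {s : ℕ} [Fact s.Prime] (hsH : s ∉ sigma H) (hsK : Nat.card K ≠ s) (Y : Subgroup G)
    (hY : IsPGroup s Y) (hYH : Y ≤ H) (hKY : K ≤ Subgroup.normalizer (Y : Set G))
    (hfix : Y ⊓ Subgroup.centralizer (K : Set G) = ⊥) :
    sigmaCore H ≤ Subgroup.centralizer (Y : Set G) := by
  have : Fact (Nat.card K).Prime := ⟨F.card⟩
  have hs : s.Prime := Fact.out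
  have hsolv : Group.IsSolvable (sigmaCore H) :=
    Helper54.isSolvable_of_le (Helper54.sigmaCore_le H) (hG.2.2.2 H F.coatomH.1)
  have hcop : ∀ q : ℕ, q.Prime → q ∉ sigma H → (Nat.card (sigmaCore H)).Coprime q := by
    intro q hq hqσ
    rw [Nat.coprime_comm, Nat.Prime.coprime_iff_not_dvd hq]
    intro hd
    exact hqσ (Helper54.sigmaCore_isPi H q hq hd)
  apply Helper55.FrobFixedPoints.le_centralizer_of_fixed_points hG.1 hsK Y K (sigmaCore H) hY rfl hKY
    (hYH.trans (Helper54.le_normalizer_sigmaCore H)) (F.le.trans (Helper54.le_normalizer_sigmaCore H))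
    hsolv (hcop s hs hsH) (hcop _ F.card F.not_sigma) hfix
  rw [F.fpf]
  exact bot_le

/-- **Step T2**: no prime of `τ₂(H)` lies outside `σ(M*) ∪ κ(M*)`. -/
theorem not_tau2 [Finite G] (hG : IsMinSimpleOddOrder G) (h30 : Stmt1430 G) (h31 : Stmt1431 G)
    (F : Frame H Mstar K) {s : ℕ} [Fact s.Prime] (hτ : s ∈ tau2 H)
    (hsσ : s ∉ sigma Mstar) (hsκ : s ∉ kappa Mstar) : False := by
  have hs : s.Prime := Fact.out
  have hU := Helper21.uniquenessThm_of hG
  have hHall := (Helper54.sigmaCore_hall_of hG hU H F.coatomH).1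
  have hHs : Group.IsSolvable H := hG.2.2.2 H F.coatomH.1
  -- a complement `E ≥ K` of `H_σ`
  obtain ⟨E, hE, hKE⟩ := Helper97.BGTwelve.exists_complIn_ge hHs hHall F.le (by
    intro q hq hqd
    rw [(Nat.prime_dvd_prime_iff_eq hq F.card).mp hqd]
    exact F.not_sigma)
  -- `A ≤ E` elementary abelian of order `s ^ 2`
  have h1 : ¬ PRankLE s 1 ↥E :=
    Helper97.BGTwelve.not_pRankLE_complement hE hHall.2.1 hτ.2.1 hτ.2.2.2
  obtain ⟨A, hAE, hAe, hAc⟩ := Helper97.BGTwelve.exists_elemAb_sq_of_not_pRankLE_one E h1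
  have hAH : A ≤ H := hAE.trans hE.1
  have h18 := Cfsg.Agent.S1418.result hG H F.coatomH E hE s hτ A ⟨hAE, hAe, hAc⟩
  have hEN : E ≤ Subgroup.normalizer (A : Set G) := h18.1.1
  have h17 := Cfsg.Agent.S1417.result hG H F.coatomH s hτ A ⟨hAH, hAe, hAc⟩
  have hCA : sigmaCore H ⊓ Subgroup.centralizer (A : Set G) = ⊥ := h17.2.2.2.1
  have hAp : IsPGroup s A := IsPGroup.of_card hAc
  have hsK : Nat.card K ≠ s := by
    intro h
    exact hsσ (h ▸ F.mem_sigma_star)
  -- `C_A(K) ≠ 1`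
  have hfix : A ⊓ Subgroup.centralizer (K : Set G) ≠ ⊥ := by
    intro hfix
    have := F.core_le_centralizer hG hτ.2.1 hsK A hAp hAH (hKE.trans hEN) hfix
    apply Helper55.BGEleven.sigmaCore_ne_bot hG hU H F.coatomH
    rw [eq_bot_iff, ← hCA]
    exact le_inf le_rfl this
  obtain ⟨x', hx', hx'1⟩ : ∃ x' ∈ A ⊓ Subgroup.centralizer (K : Set G), x' ≠ 1 := by
    by_contra h
    push Not at h
    apply hfix
    rw [eq_bot_iff]
    intro x hx
    rw [Subgroup.mem_bot]
    exact h x hx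
  obtain ⟨k, hk, hk1⟩ := F.exists_ne_one
  have hx'A : x' ∈ A := hx'.1
  have hx'C : x' ∈ Subgroup.centralizer (K : Set G) := hx'.2
  have hord : orderOf x' = s := orderOf_eq_prime (hAe.2 x' hx'A) hx'1
  have hx'k : x' ∈ Subgroup.centralizer ({k} : Set G) := by
    rw [Subgroup.mem_centralizer_iff]
    intro h hh
    rw [Set.mem_singleton_iff] at hh
    rw [hh]
    exact (Subgroup.mem_centralizer_iff.mp hx'C) k hk
  have hσ' : ∀ p : ℕ, p.Prime → p ∣ orderOf x' → p ∉ sigma Mstar := by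
    intro p hp hpd
    rw [hord] at hpd
    rw [(Nat.prime_dvd_prime_iff_eq hp hs).mp hpd]
    exact hsσ
  have hdvd : s ∣ orderOf x' := by rw [hord]
  rcases Helper54.s1432_of hG h30 h31 Mstar F.coatomM k (F.le_core hk) hk1 x'
    ⟨F.cent_le hx'C, hx'k⟩ hx'1 hσ' with h | h
  · exact hsκ (h.1 s hs hdvd)
  · obtain ⟨hτ2, -, hC, -⟩ := h
    have hτs : s ∈ tau2 Mstar := hτ2 s hs hdvd
    have hAC : A ≤ Subgroup.centralizer ({x'} : Set G) := by
      intro a ha
      rw [Subgroup.mem_centralizer_iff]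
      intro h hh
      rw [Set.mem_singleton_iff] at hh
      rw [hh]
      exact Helper45.IsElementaryAbelian_comm hAe hx'A ha
    have hAM : A ≤ Mstar := hAC.trans hC
    have h17' := Cfsg.Agent.S1417.result hG Mstar F.coatomM s hτs A ⟨hAM, hAe, hAc⟩
    have h0 := h17'.2.2.2.2.1 H F.coatomH F.ne hAH
    apply F.ne_bot
    rw [eq_bot_iff, ← h0]
    exact le_inf F.le_core F.le

/-- **Step T**: a prime `s ∉ σ(M*) ∪ κ(M*)` for which `H` contains a nontrivial `K`-invariant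
`s`-subgroup `Y` with `C_Y(K) = 1` lies in `σ(H)`. -/
theorem mem_sigma [Finite G] (hG : IsMinSimpleOddOrder G) (h30 : Stmt1430 G) (h31 : Stmt1431 G)
    (F : Frame H Mstar K) {s : ℕ} [Fact s.Prime] (hsσ : s ∉ sigma Mstar) (hsκ : s ∉ kappa Mstar)
    (Y : Subgroup G) (hY : IsPGroup s Y) (hY1 : Y ≠ ⊥) (hYH : Y ≤ H)
    (hKY : K ≤ Subgroup.normalizer (Y : Set G))
    (hfix : Y ⊓ Subgroup.centralizer (K : Set G) = ⊥) : s ∈ sigma H := by
  by_contra hsH
  have hs : s.Prime := Fact.out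
  have hU := Helper21.uniquenessThm_of hG
  have hsK : Nat.card K ≠ s := by
    intro h
    exact hsσ (h ▸ F.mem_sigma_star)
  have hcent := F.core_le_centralizer hG hsH hsK Y hY hYH hKY hfix
  -- `x ∈ H_σ`, `x ≠ 1`
  obtain ⟨x, hx, hx1⟩ : ∃ x ∈ sigmaCore H, x ≠ 1 := by
    by_contra h
    push Not at h
    apply Helper55.BGEleven.sigmaCore_ne_bot hG hU H F.coatomH
    rw [eq_bot_iff]
    intro x hx
    rw [Subgroup.mem_bot]
    exact h x hx
  -- `x' ∈ Y` of order `s`
  obtain ⟨x', hx'Y, hord⟩ : ∃ x' ∈ Y, orderOf x' = s := by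
    have hd : s ∣ Nat.card Y := by
      obtain ⟨n, hn⟩ := IsPGroup.iff_card.mp hY
      rw [hn]
      apply dvd_pow_self
      rintro rfl
      rw [pow_zero] at hn
      exact hY1 (Subgroup.card_eq_one.mp hn)
    obtain ⟨y, hy⟩ := exists_prime_orderOf_dvd_card' s hd
    exact ⟨y, y.2, by rw [← hy, Subgroup.orderOf_coe]⟩
  have hx'1 : x' ≠ 1 := by
    rintro rfl
    rw [orderOf_one] at hord
    exact hs.one_lt.ne hord
  have hx'x : x' ∈ H ⊓ Subgroup.centralizer ({x} : Set G) := by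
    refine ⟨hYH hx'Y, ?_⟩
    show x' ∈ Subgroup.centralizer ({x} : Set G)
    rw [Subgroup.mem_centralizer_iff]
    intro h hh
    rw [Set.mem_singleton_iff] at hh
    rw [hh]
    exact ((Subgroup.mem_centralizer_iff.mp (hcent hx)) x' hx'Y).symm
  have hσ' : ∀ p : ℕ, p.Prime → p ∣ orderOf x' → p ∉ sigma H := by
    intro p hp hpd
    rw [hord] at hpd
    rw [(Nat.prime_dvd_prime_iff_eq hp hs).mp hpd]
    exact hsH
  have hdvd : s ∣ orderOf x' := by rw [hord]
  rcases Helper54.s1432_of hG h30 h31 H F.coatomH x hx hx1 x' hx'x hx'1 hσ' with h | h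
  · -- `s ∈ κ(H)`
    have hsκH : s ∈ kappa H := h.1 s hs hdvd
    -- `Y` is cyclic
    have hYc : IsCyclic Y := by
      have hQ : IsPGroup s (Y.subgroupOf H) := hY.comap_of_injective H.subtype H.subtype_injective
      obtain ⟨P, hP⟩ := hQ.exists_le_sylow
      have hPc : IsCyclic (P : Subgroup H) := (hsκH.2.2.2 P).1
      let f : Y →* (P : Subgroup H) :=
        (Subgroup.inclusion hP).comp (Subgroup.subgroupOfEquivOfLe hYH).symm.toMonoidHom
      have hf : Function.Injective f :=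
        (Subgroup.inclusion_injective hP).comp (Subgroup.subgroupOfEquivOfLe hYH).symm.injective
      exact isCyclic_of_injective f hf
    set X : Subgroup G := Subgroup.zpowers x' with hX
    have hXY : X ≤ Y := Subgroup.zpowers_le.mpr hx'Y
    have hXc : Nat.card X = s := by rw [hX, Nat.card_zpowers, hord]
    have hKX : K ≤ Subgroup.normalizer (X : Set G) := by
      intro k hk
      have hkx'Y : k * x' * k⁻¹ ∈ Y := (Subgroup.mem_normalizer_iff.mp (hKY hk) x').mp hx'Y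
      have hordk : orderOf (k * x' * k⁻¹) = s := by
        have := orderOf_injective (MulAut.conj k).toMonoidHom (MulAut.conj k).injective x'
        rw [← hord, ← this]
        rfl
      have heq : Subgroup.zpowers (k * x' * k⁻¹) = X :=
        Helper46.BGAsymHall.eq_of_card_eq_of_le_cyclic Y _ X hYc (Subgroup.zpowers_le.mpr hkx'Y) hXY
          (by rw [Nat.card_zpowers, hordk, hXc])
      apply Subgroup.mem_normalizer_fintype
      intro n hn
      obtain ⟨i, rfl⟩ := Subgroup.mem_zpowers_iff.mp hn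
      have : k * x' ^ i * k⁻¹ = (k * x' * k⁻¹) ^ i := by
        rw [conj_zpow]
      rw [this]
      show (k * x' * k⁻¹) ^ i ∈ X
      rw [← heq]
      exact Subgroup.zpow_mem _ (Subgroup.mem_zpowers _) i
    obtain ⟨KH, hKH, hx'KH, hKH1⟩ :=
      Helper54.exists_kappaHall_mem hG H F.coatomH (hYH hx'Y) hsκH hord
    obtain ⟨-, -, h30c⟩ := h30 H F.coatomH KH hKH hKH1
    obtain ⟨hN, -, -⟩ := h30c X (Subgroup.zpowers_le.mpr hx'KH) (hXc ▸ hs)
    have hKsup : K ≤ KH ⊔ (sigmaCore H ⊓ Subgroup.centralizer (KH : Set G)) :=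
      hN ▸ le_inf F.le hKX
    have hcop := Helper54.coprime_card_kstar hG F.coatomH hKH
    have hcard := Helper54.card_sup_kstar hG F.coatomH hKH
    -- `p ∣ |K_H|`
    have hpKH : Nat.card K ∣ Nat.card KH := by
      have h1 : Nat.card K ∣ Nat.card KH *
          Nat.card ↥(sigmaCore H ⊓ Subgroup.centralizer (KH : Set G)) :=
        hcard ▸ Subgroup.card_dvd_of_le hKsup
      rcases (Nat.Prime.dvd_mul F.card).mp h1 with h2 | h2
      · exact h2
      · exfalso
        exact F.not_sigma (Helper54.sigmaCore_isPi H _ F.card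
          (h2.trans (Subgroup.card_dvd_of_le inf_le_left)))
    have hKKH : K ≤ KH := by
      intro k hk
      apply Helper54.mem_left_of_pow_card_eq_one
        (fun a ha b hb => Helper54.commute_kstar ha hb) hcop (hKsup hk)
      obtain ⟨c, hc⟩ := hpKH
      have hkp : k ^ Nat.card K = 1 := by
        have := pow_card_eq_one' (G := K) (x := ⟨k, hk⟩)
        exact congrArg Subtype.val this
      rw [hc, pow_mul, hkp, one_pow]
    apply Helper21.kstar_ne_bot hG h30 F.coatomH hKH hKH1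
    rw [eq_bot_iff, ← F.fpf]
    exact inf_le_inf_left _ (Subgroup.centralizer_le hKKH)
  · exact F.not_tau2 hG h30 h31 (h.1 s hs hdvd) hsσ hsκ

/-- **Step (4)**: `U ≤ H_σ` for an abelian `K`-invariant subgroup `U ≤ H` with `C_U(K) = 1` whose
primes avoid `σ(M*) ∪ κ(M*)`. -/
theorem le_sigmaCore [Finite G] (hG : IsMinSimpleOddOrder G) (h30 : Stmt1430 G) (h31 : Stmt1431 G)
    (F : Frame H Mstar K) (U : Subgroup G) (hUc : ∀ a ∈ U, ∀ b ∈ U, a * b = b * a) (hUH : U ≤ H)
    (hKU : K ≤ Subgroup.normalizer (U : Set G))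
    (hfix : U ⊓ Subgroup.centralizer (K : Set G) = ⊥)
    (hπ : ∀ s : ℕ, s.Prime → s ∣ Nat.card U → s ∉ sigma Mstar ∧ s ∉ kappa Mstar) :
    U ≤ sigmaCore H := by
  have hU := Helper21.uniquenessThm_of hG
  apply Helper54.le_sigmaCore_of_isPi hG hU H F.coatomH hUH
  intro s hs hsd
  have : Fact s.Prime := ⟨hs⟩
  obtain ⟨hsσ, hsκ⟩ := hπ s hs hsd
  set Y := Helper21.omegaSub U s hUc with hYdef
  have hYU : Y ≤ U := Helper21.omegaSub_le U s hUc
  have hYp : IsPGroup s Y := by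
    intro y
    refine ⟨1, ?_⟩
    apply Subtype.ext
    rw [pow_one]
    exact y.2.2
  refine F.mem_sigma hG h30 h31 hsσ hsκ Y hYp (Helper21.omegaSub_ne_bot U s hUc hsd)
    (hYU.trans hUH) (Helper21.le_normalizer_omegaSub U s hUc hKU) ?_
  rw [eq_bot_iff, ← hfix]
  exact inf_le_inf_right _ hYU

/-- `H_σ` is nilpotent (Thompson: `K` of prime order acts on it without fixed points). -/
theorem isNilpotent_core [Finite G] (F : Frame H Mstar K) : Group.IsNilpotent (sigmaCore H) := by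
  have : Fact (Nat.card K).Prime := ⟨F.card⟩
  obtain ⟨k, hk, hk1⟩ := F.exists_ne_one
  have hkp : k ^ Nat.card K = 1 := by
    have := pow_card_eq_one' (G := K) (x := ⟨k, hk⟩)
    exact congrArg Subtype.val this
  have htop : Subgroup.zpowers (⟨k, hk⟩ : K) = ⊤ :=
    zpowers_eq_top_of_prime_card rfl (fun h => hk1 (congrArg Subtype.val h))
  apply Helper50.isNilpotent_of_fpf_conj F.card (sigmaCore H) k hkp
  · intro y hy
    exact (Subgroup.mem_normalizer_iff.mp (Helper54.le_normalizer_sigmaCore H (F.le hk)) y).mp hy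
  · intro y hy hc
    have : y ∈ sigmaCore H ⊓ Subgroup.centralizer (K : Set G) := by
      refine ⟨hy, ?_⟩
      show y ∈ Subgroup.centralizer (K : Set G)
      rw [Subgroup.mem_centralizer_iff]
      intro b hb
      have hb' : (⟨b, hb⟩ : K) ∈ Subgroup.zpowers (⟨k, hk⟩ : K) := htop ▸ Subgroup.mem_top _
      obtain ⟨i, hi⟩ := Subgroup.mem_zpowers_iff.mp hb'
      have hbi : b = k ^ i := by
        have := congrArg Subtype.val hi
        simpa using this.symm
      rw [hbi]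
      exact ((show Commute k y from hc).zpow_left i).eq
    rw [F.fpf, Subgroup.mem_bot] at this
    exact this

end Frame

/-! ### Step (5) -/

/-- `M_σ ∩ H = 1`. -/
theorem inf_eq_bot {M H U : Subgroup G} (hUM : U ≤ M) (hUH : U ≤ sigmaCore H)
    (hdisj : sigmaCore M ⊓ sigmaCore H = ⊥)
    (hCU : sigmaCore M ⊓ Subgroup.centralizer (U : Set G) = ⊥) : sigmaCore M ⊓ H = ⊥ := by
  rw [eq_bot_iff, ← hCU]
  intro d hd
  obtain ⟨hdM, hdH⟩ := Subgroup.mem_inf.mp hd
  refine Subgroup.mem_inf.mpr ⟨hdM, ?_⟩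
  rw [Subgroup.mem_centralizer_iff]
  intro u hu
  have h1 : d * (u * d⁻¹ * u⁻¹) ∈ sigmaCore M :=
    (sigmaCore M).mul_mem hdM
      (Helper50.conj_mem_sigmaCore' (hUM hu) ((sigmaCore M).inv_mem hdM))
  have h2 : d * u * d⁻¹ * u⁻¹ ∈ sigmaCore H :=
    (sigmaCore H).mul_mem (Helper50.conj_mem_sigmaCore' hdH (hUH hu))
      ((sigmaCore H).inv_mem (hUH hu))
  have h3 : d * u * d⁻¹ * u⁻¹ ∈ sigmaCore M ⊓ sigmaCore H := by
    refine ⟨?_, h2⟩
    have : d * u * d⁻¹ * u⁻¹ = d * (u * d⁻¹ * u⁻¹) := by group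
    rw [this]
    exact h1
  rw [hdisj, Subgroup.mem_bot] at h3
  calc u * d = (d * u * d⁻¹ * u⁻¹)⁻¹ * (d * u) := by group
    _ = d * u := by rw [h3, inv_one, one_mul]

/-- `M ∩ H = U ⊔ K`. -/
theorem inf_eq_sup {M H K U : Subgroup G} (hKU : IsSigmaDecomposition M K U) (hUH : U ≤ H)
    (hKH : K ≤ H) (h0 : sigmaCore M ⊓ H = ⊥) : M ⊓ H = U ⊔ K := by
  apply le_antisymm
  · intro m hm
    obtain ⟨hmM, hmH⟩ := Subgroup.mem_inf.mp hm
    obtain ⟨a, ha, b, hb, rfl⟩ := hKU.compl.2.2.2 m hmM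
    have hKn : K ≤ Subgroup.normalizer (sigmaCore M : Set G) :=
      hKU.hall.1.trans (Helper54.le_normalizer_sigmaCore M)
    have hb' : b ∈ ((K ⊔ sigmaCore M : Subgroup G) : Set G) := hb
    rw [Subgroup.coe_mul_of_left_le_normalizer_right K (sigmaCore M) hKn] at hb'
    obtain ⟨k, hk, n, hn, rfl⟩ := Set.mem_mul.mp hb'
    have hnH : n ∈ H := by
      have : n = k⁻¹ * (a⁻¹ * (a * (k * n))) := by group
      rw [this]
      exact H.mul_mem (H.inv_mem (hKH hk)) (H.mul_mem (H.inv_mem (hUH ha)) hmH)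
    have hn1 : n = 1 := by
      have : n ∈ sigmaCore M ⊓ H := ⟨hn, hnH⟩
      rwa [h0, Subgroup.mem_bot] at this
    rw [hn1, mul_one]
    exact (U ⊔ K).mul_mem (le_sup_left (a := U) (b := K) ha) (le_sup_right (a := U) (b := K) hk)
  · exact sup_le (le_inf hKU.compl.1 hUH) (le_inf hKU.hall.1 hKH)

/-- Normalizers grow in nilpotent groups (relative form). -/
theorem eq_of_inf_normalizer_le_of_isNilpotent {S V : Subgroup G} (hS : Group.IsNilpotent S)
    (hVS : V ≤ S) (h : S ⊓ Subgroup.normalizer (V : Set G) ≤ V) : V = S := by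
  by_contra hne
  have hlt : V.subgroupOf S < ⊤ := by
    rw [lt_top_iff_ne_top, Ne, Subgroup.subgroupOf_eq_top]
    intro hSV
    exact hne (le_antisymm hVS hSV)
  have h1 := Group.normalizerCondition_of_isNilpotent (G := S) (V.subgroupOf S) hlt
  obtain ⟨x, hxN, hxV⟩ := SetLike.exists_of_lt h1
  apply hxV
  rw [Subgroup.mem_subgroupOf]
  apply h
  refine ⟨x.2, ?_⟩
  change (x : G) ∈ Subgroup.normalizer (V : Set G)
  rw [Subgroup.mem_normalizer_iff] at hxN ⊢
  intro g
  constructor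
  · intro hg
    have := (hxN ⟨g, hVS hg⟩).mp (by rw [Subgroup.mem_subgroupOf]; exact hg)
    rw [Subgroup.mem_subgroupOf] at this
    simpa using this
  · intro hg
    have hgS : g ∈ S := by
      have h2 : g = (x : G)⁻¹ * ((x : G) * g * (x : G)⁻¹) * x := by group
      rw [h2]
      exact S.mul_mem (S.mul_mem (S.inv_mem x.2) (hVS hg)) x.2
    have := (hxN ⟨g, hgS⟩).mpr (by rw [Subgroup.mem_subgroupOf]; simpa using hg)
    rw [Subgroup.mem_subgroupOf] at this
    exact this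

/-- `N_H(U) ≰ M`. -/
theorem not_normalizer_le {M H K U : Subgroup G} (hH : IsCoatom H) (hM : IsCoatom M)
    (hnil : Group.IsNilpotent (sigmaCore H)) (hUσ : U ≤ sigmaCore H) (hU1 : U ≠ ⊥)
    (hMH : M ⊓ H = U ⊔ K) (hKU : K ≤ Subgroup.normalizer (U : Set G))
    (hKσ : K ⊓ sigmaCore H = ⊥) (hdisj : sigmaCore M ⊓ sigmaCore H = ⊥) :
    ¬ H ⊓ Subgroup.normalizer (U : Set G) ≤ M := by
  intro hle
  have hσH : sigmaCore H ≤ H := Helper54.sigmaCore_le H
  -- `N_{H_σ}(U) ≤ U`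
  have h1 : sigmaCore H ⊓ Subgroup.normalizer (U : Set G) ≤ U := by
    intro x hx
    obtain ⟨hxσ, hxN⟩ := Subgroup.mem_inf.mp hx
    have hxMH : x ∈ M ⊓ H := ⟨hle ⟨hσH hxσ, hxN⟩, hσH hxσ⟩
    rw [hMH] at hxMH
    have hx' : x ∈ ((U ⊔ K : Subgroup G) : Set G) := hxMH
    rw [Subgroup.coe_mul_of_right_le_normalizer_left U K hKU] at hx'
    obtain ⟨u, hu, k, hk, rfl⟩ := Set.mem_mul.mp hx'
    have hkσ : k ∈ sigmaCore H := by
      have : k = u⁻¹ * (u * k) := by group
      rw [this]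
      exact (sigmaCore H).mul_mem ((sigmaCore H).inv_mem (hUσ hu)) hxσ
    have hk1 : k = 1 := by
      have : k ∈ K ⊓ sigmaCore H := ⟨hk, hkσ⟩
      rwa [hKσ, Subgroup.mem_bot] at this
    rw [hk1, mul_one]
    exact hu
  have hUeq : U = sigmaCore H := eq_of_inf_normalizer_le_of_isNilpotent hnil hUσ h1
  have hHM : H ≤ M := by
    intro h hh
    apply hle
    refine ⟨hh, ?_⟩
    rw [hUeq]
    exact Helper54.le_normalizer_sigmaCore H hh
  have hMeq : M = H := by
    rcases hH.le_iff.mp hHM with h | h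
    · exact absurd h hM.1
    · exact h
  apply hU1
  rw [eq_bot_iff, ← hdisj, hMeq]
  exact le_inf hUσ hUσ

/-- **Steps (3), (4), (5) of B&G Theorem 14.6** in one statement. -/
theorem steps [Finite G] (hG : IsMinSimpleOddOrder G) (h30 : Stmt1430 G) (h31 : Stmt1431 G)
    {H Mstar K M U : Subgroup G} (F : Frame H Mstar K) (hM : IsCoatom M)
    (hKU : IsSigmaDecomposition M K U) (hU1 : U ≠ ⊥)
    (hUc : ∀ a ∈ U, ∀ b ∈ U, a * b = b * a) (hUH : U ≤ H)
    (hfix : U ⊓ Subgroup.centralizer (K : Set G) = ⊥)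
    (hπ : ∀ s : ℕ, s.Prime → s ∣ Nat.card U → s ∉ sigma Mstar ∧ s ∉ kappa Mstar)
    (hdisj : sigmaCore M ⊓ sigmaCore H = ⊥)
    (hCU : sigmaCore M ⊓ Subgroup.centralizer (U : Set G) = ⊥) :
    U ≤ sigmaCore H ∧ sigmaCore M ⊓ H = ⊥ ∧ M ⊓ H = U ⊔ K ∧
      ¬ H ⊓ Subgroup.normalizer (U : Set G) ≤ M := by
  have h4 := F.le_sigmaCore hG h30 h31 U hUc hUH hKU.normal hfix hπ
  have h5a := inf_eq_bot hKU.compl.1 h4 hdisj hCU
  have h5b := inf_eq_sup hKU hUH F.le h5a
  exact ⟨h4, h5a, h5b, not_normalizer_le F.coatomH hM F.isNilpotent_core h4 hU1 h5b hKU.normal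
    F.inf_core_eq_bot hdisj⟩

end Cfsg.Agent.Lib.Helper46.BGFourteenSix
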