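import Mathlib
import Cfsg.Agent.S1354
import Cfsg.Agent.S1418
import Cfsg.Agent.S1419
import Cfsg.Agent.S1431
import Cfsg.Agent.Lib.Helper22.BGFifteenNineA
import Cfsg.Agent.Lib.Helper97.BGTwelveCor
import Cfsg.Agent.Lib.Helper23.TypeP

/-!
# B&G Corollary 15.9 (S1376), module [T]: `t = |K|` is not in `τ₂(M)` (helper46 for helper22)

Also exports the general first step `exists_elemAb_sq_le_compl`: if `E` is a complement of `M_σ`
in `M` and `s ∈ τ₂(M)`, then `E` contains an elementary abelian subgroup of order `s ^ 2`.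
-/

set_option autoImplicit false
set_option linter.unusedVariables false
set_option linter.unusedSectionVars false

namespace Cfsg.Agent.Lib.Helper46.BGFifteenNineT

open scoped Pointwise
open Cfsg
open Cfsg.Agent.Lib.Helper54
open Cfsg.Agent.Lib.Helper22.BGFourteenFour
open Cfsg.Agent.Lib.Helper22.BGFifteenNine

universe u

variable {G : Type u} [Group G] [Finite G]

theorem isPGroup_of_isElementaryAbelian {s : ℕ} {A : Subgroup G} (h : IsElementaryAbelian s A) :
    IsPGroup s A := by
  intro a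
  refine ⟨1, ?_⟩
  rw [pow_one]
  apply Subtype.ext
  simpa using h.2 a a.2

/-- If `E` is a complement of `M_σ` in `M` and `s ∈ τ₂(M)`, then `E` contains an elementary
abelian subgroup of order `s ^ 2`. -/
theorem exists_elemAb_sq_le_compl {M E : Subgroup G} (hE : IsComplIn E (sigmaCore M) M) {s : ℕ}
    [Fact s.Prime] (hs : s ∈ tau2 M) :
    ∃ B : Subgroup G, B ≤ E ∧ IsElementaryAbelian s B ∧ Nat.card B = s ^ 2 := by
  have hsp : s.Prime := Fact.out
  obtain ⟨A, hAM, hAel, hAcard⟩ :=
    Cfsg.Agent.Lib.Helper97.BGTwelve.exists_elemAb_sq_of_not_pRankLE_one M hs.2.2.2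
  obtain ⟨P⟩ : Nonempty (Sylow s E) := inferInstance
  have hP'E : (P : Subgroup E).map E.subtype ≤ E := Subgroup.map_subtype_le _
  have hP'p : IsPGroup s ((P : Subgroup E).map E.subtype) := P.isPGroup'.map _
  have hcardM : Nat.card M = Nat.card E * Nat.card (sigmaCore M) :=
    Cfsg.Agent.Lib.Helper23.card_of_isComplIn hE
  have hnσ : ¬ s ∣ Nat.card (sigmaCore M) := fun hd => hs.2.1 (sigmaCore_isPi M s hsp hd)
  have h1 : Nat.card ((P : Subgroup E).map E.subtype) * ((P : Subgroup E).map E.subtype).relIndex M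
      = Nat.card M := card_mul_relIndex (hP'E.trans hE.1)
  have h2 : Nat.card ((P : Subgroup E).map E.subtype) * ((P : Subgroup E).map E.subtype).relIndex E
      = Nat.card E := card_mul_relIndex hP'E
  have h3 : ¬ s ∣ ((P : Subgroup E).map E.subtype).relIndex E := by
    have : ((P : Subgroup E).map E.subtype).relIndex E = (P : Subgroup E).index := by
      rw [Subgroup.relIndex, Subgroup.subgroupOf,
        Subgroup.comap_map_eq_self_of_injective E.subtype_injective]
    rw [this]
    exact P.not_dvd_index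
  have h4 : ((P : Subgroup E).map E.subtype).relIndex M
      = ((P : Subgroup E).map E.subtype).relIndex E * Nat.card (sigmaCore M) := by
    have hpos : 0 < Nat.card ((P : Subgroup E).map E.subtype) := Nat.card_pos
    apply Nat.eq_of_mul_eq_mul_left hpos
    rw [h1, hcardM, ← h2]
    ring
  have hidx : ¬ s ∣ ((P : Subgroup E).map E.subtype).relIndex M := by
    rw [h4]
    intro hd
    rcases (Nat.Prime.dvd_mul hsp).mp hd with h | h
    · exact h3 h
    · exact hnσ h
  have hAp : IsPGroup s A := isPGroup_of_isElementaryAbelian hAel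
  obtain ⟨n, hn, hle⟩ :=
    exists_conj_le_of_not_dvd_relIndex (hP'E.trans hE.1) hP'p hidx hAM hAp
  refine ⟨MulAut.conj n • A, hle.trans hP'E, isElementaryAbelian_conj_smul n hAel, ?_⟩
  rw [← hAcard]
  exact Nat.card_congr (Subgroup.equivSMul (MulAut.conj n) A).toEquiv.symm

/-- **Module [T]** of B&G 15.9: `t = |K| ∉ τ₂(M)`. -/
theorem not_mem_tau2_card (hG : IsMinSimpleOddOrder G) {M N Nstar K U : Subgroup G} {x : G}
    {p t : ℕ} (h : Ctx M N Nstar K U x p t) : t ∉ tau2 M := by
  intro ht2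
  have htp : t.Prime := h.tp
  have : Fact t.Prime := ⟨htp⟩
  have hU := uniq hG
  obtain ⟨B, hBE, hBel, hBcard⟩ := exists_elemAb_sq_le_compl h.hE ht2
  obtain ⟨⟨hEN, hXB⟩, ⟨hCB, hMNB, _⟩, _⟩ :=
    Cfsg.Agent.S1418.result hG M h.hM (M ⊓ Nstar) h.hE t ht2 B ⟨hBE, hBel, hBcard⟩
  have hKB : K ≤ B := hXB K h.K_le h.hKt
  have hCBE : Subgroup.centralizer (B : Set G) ≤ M ⊓ Nstar := by
    rw [← hMNB]
    exact hCB
  -- (3) `B ≤ (Nstar)_σ`
  have hKσ : K ≤ sigmaCore Nstar := by
    intro k hk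
    have := h.hKst
    rw [this] at hk
    exact hk.1
  have htσ : t ∈ sigma Nstar := by
    apply sigmaCore_isPi Nstar t htp
    rw [← h.hKt]
    exact Subgroup.card_dvd_of_le hKσ
  have hBNs : B ≤ Nstar := hBE.trans inf_le_right
  have hBσ : B ≤ sigmaCore Nstar := by
    apply le_sigmaCore_of_isPi hG hU Nstar h.hNs hBNs
    intro r hr hrd
    rw [hBcard] at hrd
    have := (Nat.prime_dvd_prime_iff_eq hr htp).mp (hr.dvd_of_dvd_pow hrd)
    rw [this]
    exact htσ
  -- (4) some Sylow `t`-subgroup of `G` is abelian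
  have hab : ∃ S : Sylow t G, IsMulCommutative (S : Subgroup G) := by
    by_contra hno
    push Not at hno
    obtain ⟨_, ⟨hA0card, _⟩, _⟩ :=
      Cfsg.Agent.S1419.result hG M h.hM (M ⊓ Nstar) h.hE t ht2 hno B ⟨hBE, hBel, hBcard⟩
    have hA0 : B ⊓ Subgroup.centralizer (sigmaCore M : Set G) = ⊥ := by
      rw [eq_bot_iff]
      intro a ha
      rw [Subgroup.mem_bot]
      have hac : ∀ y ∈ sigmaCore M, y * a = a * y := Subgroup.mem_centralizer_iff.mp ha.2
      have hax : a ∈ Subgroup.centralizer ({x} : Set G) := by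
        rw [Subgroup.mem_centralizer_singleton_iff]
        exact (hac x h.hxσ).symm
      have haN : a ∈ N := h.hCxN hax
      have haM : a ∈ M := (hBE ha.1).1
      have haUK : a ∈ U ⊔ K := by
        rw [← h.hNM]
        exact ⟨haN, haM⟩
      rw [sup_comm] at haUK
      obtain ⟨k, hk, u, hu, hku⟩ :=
        Cfsg.Agent.Lib.Helper23.exists_mul_of_mem_sup_h23 h.hKU.normal haUK
      have hk1 : k = 1 := by
        by_contra hk1
        have hfpf := h.hUfpf k hk hk1
        have hxk : x ∈ U ⊓ Subgroup.centralizer ({k} : Set G) := by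
          refine ⟨h.hxU, ?_⟩
          change x ∈ Subgroup.centralizer ({k} : Set G)
          rw [Subgroup.mem_centralizer_singleton_iff]
          have e1 : x * (k * u) = (k * u) * x := by
            have := hac x h.hxσ
            rwa [hku] at this
          have e2 : u * x = x * u := h.hUab u hu x h.hxU
          have e3 : x * k * u = k * x * u := by
            calc x * k * u = x * (k * u) := by group
              _ = k * u * x := e1
              _ = k * (u * x) := by group
              _ = k * (x * u) := by rw [e2]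
              _ = k * x * u := by group
          exact mul_right_cancel e3
        rw [hfpf, Subgroup.mem_bot] at hxk
        exact h.hx1 hxk
      have hau : a ∈ U := by
        rw [hku, hk1, one_mul]
        exact hu
      have : a ∈ (M ⊓ Nstar) ⊓ sigmaCore M := ⟨hBE ha.1, h.hUσ hau⟩
      rw [h.inf_sigmaCore, Subgroup.mem_bot] at this
      exact this
    rw [hA0, Subgroup.card_bot] at hA0card
    exact htp.one_lt.ne hA0card
  obtain ⟨S₀, hS₀⟩ := hab
  -- (5) a Sylow `t`-subgroup `T` of `(Nstar)_σ` containing `B`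
  have hBp : IsPGroup t B := isPGroup_of_isElementaryAbelian hBel
  obtain ⟨T, hT⟩ := (hBp.comap_subtype (K := sigmaCore Nstar)).exists_le_sylow
  have hBT : B ≤ (T : Subgroup (sigmaCore Nstar)).map (sigmaCore Nstar).subtype := by
    intro b hb
    exact ⟨⟨b, hBσ hb⟩, hT (Subgroup.mem_subgroupOf.mpr hb), rfl⟩
  have hT'p : IsPGroup t ((T : Subgroup (sigmaCore Nstar)).map (sigmaCore Nstar).subtype) :=
    T.isPGroup'.map _
  obtain ⟨S₁, hS₁⟩ := hT'p.exists_le_sylow
  obtain ⟨g, hg⟩ := MulAction.exists_smul_eq G S₀ S₁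
  have hT'comm : ∀ a ∈ (T : Subgroup (sigmaCore Nstar)).map (sigmaCore Nstar).subtype,
      ∀ b ∈ (T : Subgroup (sigmaCore Nstar)).map (sigmaCore Nstar).subtype, a * b = b * a := by
    intro a ha b hb
    have ha1 : a ∈ (S₁ : Subgroup G) := hS₁ ha
    have hb1 : b ∈ (S₁ : Subgroup G) := hS₁ hb
    rw [← hg, Sylow.smul_def, Sylow.pointwise_smul_def, mem_conj_smul_iff] at ha1 hb1
    have h1 := hS₀.is_comm.comm ⟨_, ha1⟩ ⟨_, hb1⟩
    have h2 : (g⁻¹ * a * g) * (g⁻¹ * b * g) = (g⁻¹ * b * g) * (g⁻¹ * a * g) :=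
      congrArg Subtype.val h1
    calc a * b = g * ((g⁻¹ * a * g) * (g⁻¹ * b * g)) * g⁻¹ := by group
      _ = g * ((g⁻¹ * b * g) * (g⁻¹ * a * g)) * g⁻¹ := by rw [h2]
      _ = b * a := by group
  have hT'CB : (T : Subgroup (sigmaCore Nstar)).map (sigmaCore Nstar).subtype
      ≤ Subgroup.centralizer (B : Set G) := by
    intro a ha
    rw [Subgroup.mem_centralizer_iff]
    intro b hb
    exact hT'comm b (hBT hb) a ha
  have hT'M : (T : Subgroup (sigmaCore Nstar)).map (sigmaCore Nstar).subtype ≤ M :=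
    fun a ha => (hCBE (hT'CB ha)).1
  have hKstar1 : sigmaCore N ⊓ Subgroup.centralizer (K : Set G) ≠ ⊥ :=
    (Cfsg.Agent.S1354.result hG N h.hN K h.hKU.cyclic h.hKU.hall).1
  obtain ⟨_, _, h3, _⟩ := Cfsg.Agent.S1431.result hG Nstar h.hNs _ h.hKstH hKstar1
  have hdvd : t ∣ Nat.card ↥(sigmaCore Nstar ⊓ Subgroup.centralizer
      ((sigmaCore N ⊓ Subgroup.centralizer (K : Set G) : Subgroup G) : Set G)) := by
    rw [← h.hKst, h.hKt]
  obtain ⟨⟨L, ⟨hL, hTL⟩, hLuniq⟩, hT'Ns, _⟩ := h3 t htp hdvd T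
  have hMN : M = Nstar :=
    (hLuniq M ⟨h.hM, hT'M⟩).trans (hLuniq Nstar ⟨h.hNs, hT'Ns⟩).symm
  apply h.K_ne_bot
  rw [eq_bot_iff, ← h.K_inf_sigmaCore]
  refine le_inf le_rfl ?_
  rw [hMN]
  exact hKσ

end Cfsg.Agent.Lib.Helper46.BGFifteenNineT
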