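import Mathlib
import Cfsg.Agent.Lib.Helper2.FWDefs

/-!
# Project FW (S3211, helper2), module [FW-M5a] (hedge by helper46): the normal form of a square root
of `-1` in `SL₂(F)`, `F` a finite field of odd order.
-/

set_option autoImplicit false

namespace Cfsg.Agent.Lib.Helper46.FW

open Cfsg.Agent.Lib.Helper2.FW

/-- Every element of a finite field of odd order is a sum of two squares. -/
theorem h46_two_squares {F : Type*} [Field F] [Fintype F] (hF : Odd (Fintype.card F)) (x : F) :
    ∃ a b : F, a ^ 2 + b ^ 2 = x := by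
  classical
  let f : Polynomial F := Polynomial.X ^ 2
  let g : Polynomial F := Polynomial.X ^ 2 - Polynomial.C x
  obtain ⟨a, b, hab⟩ : ∃ a b, f.eval a + g.eval b = 0 :=
    @FiniteField.exists_root_sum_quadratic _ _ _ _ f g (Polynomial.degree_X_pow 2)
      (Polynomial.degree_X_pow_sub_C (by decide) _) (Nat.odd_iff.mp hF)
  refine ⟨a, b, ?_⟩
  rw [← sub_eq_zero]
  simpa only [f, g, Polynomial.eval_C, Polynomial.eval_X, Polynomial.eval_pow, Polynomial.eval_sub,
    ← add_sub_assoc] using hab

/-- The binary quadratic form `-q x² + 2 p x y + r y²` with `p² + q r = -1` represents `1`. -/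
theorem h46_form_one {F : Type*} [Field F] [Fintype F] (hF : Odd (Fintype.card F)) (p q r : F)
    (h : p ^ 2 + q * r = -1) : ∃ x y : F, -q * x ^ 2 + 2 * p * x * y + r * y ^ 2 = 1 := by
  have h2 : (2 : F) ≠ 0 := by
    intro h2
    have hc : ringChar F = 2 := by
      have : ringChar F ∣ 2 := by
        have h3 : ((2 : ℕ) : F) = 0 := by exact_mod_cast h2
        exact (ringChar.spec F 2).mp h3
      rcases (Nat.dvd_prime Nat.prime_two).mp this with h1 | h1
      · exact absurd h1 (CharP.ringChar_ne_one)
      · exact h1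
    have h4 := FiniteField.even_card_iff_char_two.mp hc
    have h5 := Nat.odd_iff.mp hF
    omega
  by_cases hq : q = 0
  · subst hq
    have hp : p ≠ 0 := by
      intro hp
      rw [hp] at h
      norm_num at h
    refine ⟨(1 - r) / (2 * p), 1, ?_⟩
    field_simp
    ring
  · obtain ⟨X, Y, hXY⟩ := h46_two_squares hF (-q)
    refine ⟨X / q + p / q * Y, Y, ?_⟩
    have hr : r = (-1 - p ^ 2) / q := by
      field_simp
      linear_combination h
    rw [hr]
    field_simp
    linear_combination (-1) * hXY

/-- [FW-M5a] normal form of a square root of `-1` in `SL₂(F)`, `F` a finite field of odd order. -/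
theorem sl2_normal_form {F : Type*} [Field F] [Fintype F] (hF : Odd (Fintype.card F))
    (a : Matrix.SpecialLinearGroup (Fin 2) F) (ha : a * a = -1) :
    ∃ g : Matrix.SpecialLinearGroup (Fin 2) F,
      (g : Matrix (Fin 2) (Fin 2) F) * (a : Matrix (Fin 2) (Fin 2) F) =
        !![0, -1; 1, 0] * (g : Matrix (Fin 2) (Fin 2) F) := by
  have hdet : (a : Matrix (Fin 2) (Fin 2) F) 0 0 * (a : Matrix (Fin 2) (Fin 2) F) 1 1
      - (a : Matrix (Fin 2) (Fin 2) F) 0 1 * (a : Matrix (Fin 2) (Fin 2) F) 1 0 = 1 := by
    have := a.det_coe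
    rwa [Matrix.det_fin_two] at this
  have hm : (a : Matrix (Fin 2) (Fin 2) F) * (a : Matrix (Fin 2) (Fin 2) F) = -1 := by
    have := congrArg (fun x : Matrix.SpecialLinearGroup (Fin 2) F => (x : Matrix (Fin 2) (Fin 2) F)) ha
    simpa using this
  have e00 := congrFun (congrFun hm 0) 0
  have e01 := congrFun (congrFun hm 0) 1
  have e10 := congrFun (congrFun hm 1) 0
  have e11 := congrFun (congrFun hm 1) 1
  simp only [Matrix.mul_apply, Fin.sum_univ_two, Matrix.neg_apply, Matrix.one_apply_eq,
    Matrix.one_apply_ne, ne_eq, zero_ne_one, one_ne_zero, not_false_eq_true, neg_zero] at e00 e01 e10 e11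
  generalize hp' : (a : Matrix (Fin 2) (Fin 2) F) 0 0 = p at *
  generalize hq' : (a : Matrix (Fin 2) (Fin 2) F) 0 1 = q at *
  generalize hr' : (a : Matrix (Fin 2) (Fin 2) F) 1 0 = r at *
  generalize hs' : (a : Matrix (Fin 2) (Fin 2) F) 1 1 = s at *
  have hps : s = -p := by
    have h0 : (p + s) ^ 2 = 0 := by
      linear_combination e00 + e11 + 2 * hdet
    have h1 : p + s = 0 := by
      rcases pow_eq_zero_iff (n := 2) (by norm_num) |>.mp h0 with h
      exact h
    linear_combination h1
  subst hps
  obtain ⟨x, y, hxy⟩ := h46_form_one hF p q r (by linear_combination e00)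
  refine ⟨⟨!![x, y; -(x * p + y * r), -x * q + y * p], ?_⟩, ?_⟩
  · rw [Matrix.det_fin_two_of]
    linear_combination hxy
  · ext i j
    fin_cases i <;> fin_cases j
    · simp [Matrix.mul_apply, Fin.sum_univ_two, hp', hr']
    · simp [Matrix.mul_apply, Fin.sum_univ_two, hq', hs']
      ring
    · simp [Matrix.mul_apply, Fin.sum_univ_two, hp', hr']
      linear_combination (-x) * e00
    · simp [Matrix.mul_apply, Fin.sum_univ_two, hq', hs']
      linear_combination (-y) * e00

end Cfsg.Agent.Lib.Helper46.FW
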