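import Mathlib
import Cfsg.Agent.Lib.Helper24.PFCycCtx
import Cfsg.Agent.Lib.Helper4.PFTypes

/-!
# PROJECT PF, Peterfalvi (10.9)/(10.10): "no maximal subgroup of Type V" -- definitions (helper46)

`M` is a maximal subgroup of Type V with type-P data `(W₁, ⊥, W₂)`: `H = M_F = M'`, `M = H ⋊ W₁`,
`q = |W₁|`, `p = |W₂|` prime.

* `TypeVFacts M W₁ W₂` : the output of (10.9) = the contrapositive of S1521 = Peterfalvi (6.7), given
  (10.8) (`calS M` is not coherent), written with subgroups of `G`.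
* `NoResidualTI`, `NoResidualCube` : the two residual cases of (10.10) as `Prop` parameters
  (Sibley's theorem (6.8), second case; the case `|H| = p³`, `q = (p+1)/2`).
-/

set_option autoImplicit false

namespace Cfsg.Agent.Lib.Helper46.PF10V

open Cfsg Cfsg.Agent.Lib.Helper4.PF Cfsg.Agent.Lib.Helper24.PFCyc

universe u

variable {G : Type u} [Group G]

/-- The output of Peterfalvi (10.9) for a maximal subgroup `M` of Type V with data `(W₁, ⊥, W₂)`,
`H = fittingHallOf M`: `H = M'` is a non-abelian `p`-group (`p = |W₂|`), `H/H'` is a chief factor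
of `M` of order at most `4q² + 1`, and `q = |W₁|` does not divide `p - 1`. -/
structure TypeVFacts (M W₁ W₂ : Subgroup G) : Prop where
  hP : IsTypePWith M W₁ ⊥ W₂
  hHK : fittingHallOf M = ⁅M, M⁆
  hp : (Nat.card W₂).Prime
  hpow : ∃ m : ℕ, Nat.card (fittingHallOf M) = Nat.card W₂ ^ m
  hndvd : ¬ Nat.card W₁ ∣ Nat.card W₂ - 1
  hidx : (⁅fittingHallOf M, fittingHallOf M⁆).relIndex (fittingHallOf M) ≤
    4 * Nat.card W₁ ^ 2 + 1
  hchief : ∀ N : Subgroup G, ⁅fittingHallOf M, fittingHallOf M⁆ ≤ N → N ≤ fittingHallOf M →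
    M ≤ Subgroup.normalizer (N : Set G) →
    N = ⁅fittingHallOf M, fittingHallOf M⁆ ∨ N = fittingHallOf M
  hnab : ⁅fittingHallOf M, fittingHallOf M⁆ ≠ ⊥

/-- Residual case (a*) of (10.10) is impossible: `H` a TI-subset (= Sibley's theorem (6.8), second
case, together with (10.8)). -/
def NoResidualTI (G : Type u) [Group G] : Prop :=
  ∀ M W₁ W₂ : Subgroup G, IsCoatom M → TypeVFacts M W₁ W₂ →
    IsTISubset (fittingHallOf M : Set G) → False

/-- Residual case (c*) of (10.10) is impossible: `|H| = p³` and `q = (p + 1)/2`. -/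
def NoResidualCube (G : Type u) [Group G] : Prop :=
  ∀ M W₁ W₂ : Subgroup G, IsCoatom M → TypeVFacts M W₁ W₂ →
    Nat.card (fittingHallOf M) = Nat.card W₂ ^ 3 → 2 * Nat.card W₁ = Nat.card W₂ + 1 → False

end Cfsg.Agent.Lib.Helper46.PF10V
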