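import Mathlib
import Cfsg.Agent.Lib.Helper46.PFTenVDefs
import Cfsg.Agent.Lib.Helper22.SibCDefs
import Cfsg.Agent.Lib.Helper24.PFCycDadeInd
import Cfsg.Agent.Lib.Helper54.PFCycLitA
import Cfsg.Agent.Lib.Helper74.PFTwelveD
import Cfsg.Agent.Lib.Helper51.PFCycIndGen
import Cfsg.Agent.Lib.Helper4.PFNineA

/-!
# PROJECT PF (10.10), residual (a*): bridge to Sibley's theorem, second alternative (helper46)

Module SIBC-[TYPEV].  For `M` maximal of Type V with `H = M_F = M'` a TI-subset of `G`: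

* the Dade map `tauM M` agrees with ordinary induction `Ind_M^G` on `ℤ[calS M]°`;
* hence a coherence system for `tauM M` is one for `Ind_M^G`, and coherence for `Ind_M^G` gives
  coherence for `tauM M`;
* the group-theoretic hypotheses of `Helper22.SibC.sibley_typeP` hold for `(H, L) = (M', M)`.
-/

set_option autoImplicit false

namespace Cfsg.Agent.Lib.Helper46.PF10V

open Cfsg Cfsg.Agent.Lib.Helper4.PF Cfsg.Agent.Lib.Helper24.PFCyc

universe u v

section Congr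

variable {L : Type u} [Group L] [Fintype L] {G : Type v} [Group G] [Fintype G]

theorem zspanOn_add_mem {S : Set (L → ℂ)} {A : Set L} {α β : L → ℂ} (hα : α ∈ zspanOn S A)
    (hβ : β ∈ zspanOn S A) : α + β ∈ zspanOn S A := by
  refine ⟨Submodule.add_mem _ hα.1 hβ.1, fun x hx => ?_⟩
  rw [Pi.add_apply, hα.2 x hx, hβ.2 x hx, add_zero]

theorem zspanOn_zsmul_mem {S : Set (L → ℂ)} {A : Set L} {α : L → ℂ} (hα : α ∈ zspanOn S A)
    (n : ℤ) : n • α ∈ zspanOn S A := by
  refine ⟨Submodule.smul_mem _ n hα.1, fun x hx => ?_⟩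
  rw [Pi.smul_apply, hα.2 x hx, smul_zero]

/-- `IsLinearIsometryOn` on `zspanOn S A` only depends on the values there. -/
theorem isLinearIsometryOn_congr {S : Set (L → ℂ)} {A : Set L} {τ τ' : (L → ℂ) → (G → ℂ)}
    (h : IsLinearIsometryOn (zspanOn S A) τ) (heq : ∀ α ∈ zspanOn S A, τ' α = τ α) :
    IsLinearIsometryOn (zspanOn S A) τ' := by
  obtain ⟨h1, h2, h3, h4⟩ := h
  refine ⟨?_, ?_, ?_, ?_⟩
  · intro α hα β hβ
    rw [heq _ (zspanOn_add_mem hα hβ), heq α hα, heq β hβ]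
    exact h1 α hα β hβ
  · intro α hα n
    rw [heq _ (zspanOn_zsmul_mem hα n), heq α hα]
    exact h2 α hα n
  · intro α hα β hβ
    rw [heq α hα, heq β hβ]
    exact h3 α hα β hβ
  · intro α hα
    rw [heq α hα]
    exact h4 α hα

/-- A coherence system only depends on the values of `τ` on `ℤ[S]°`. -/
theorem isCoherenceSystem_congr {S : Set (L → ℂ)} {τ τ' : (L → ℂ) → (G → ℂ)}
    {R : (L → ℂ) → Finset (G → ℂ)} (h : IsCoherenceSystem S τ R)
    (heq : ∀ α ∈ zspanOn S ({1}ᶜ : Set L), τ' α = τ α) : IsCoherenceSystem S τ' R where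
  nonempty := h.nonempty
  isCharacter := h.isCharacter
  conj_mem := h.conj_mem
  conj_ne := h.conj_ne
  isometry := isLinearIsometryOn_congr h.isometry heq
  map_one := fun α hα => by rw [heq α hα]; exact h.map_one α hα
  orthogonal := h.orthogonal
  orthonormal := h.orthonormal
  virtual := h.virtual
  sum_eq := fun χ hχ => by
    have hmem : χ - conjFun χ ∈ zspanOn S ({1}ᶜ : Set L) := by
      refine ⟨Submodule.sub_mem _ (Submodule.subset_span hχ)
        (Submodule.subset_span (h.conj_mem χ hχ)), fun x hx => ?_⟩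
      have hx1 : x = 1 := by
        by_contra hne
        exact hx hne
      subst hx1
      obtain ⟨n, ρ, hρ⟩ := h.isCharacter χ hχ
      have h1 : χ 1 = (n : ℂ) := by
        rw [← hρ]
        simp [Representation.character]
      rw [Pi.sub_apply]
      unfold conjFun
      rw [h1]
      simp
    rw [heq _ hmem]
    exact h.sum_eq χ hχ
  disjoint := h.disjoint

/-- Coherence only depends on the values of `τ` on `ℤ[S]` vanishing off `A`. -/
theorem isCoherent_congr {S : Set (L → ℂ)} {A : Set L} {τ τ' : (L → ℂ) → (G → ℂ)}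
    (h : IsCoherent S A τ) (heq : ∀ α ∈ zspanOn S A, τ' α = τ α) : IsCoherent S A τ' := by
  obtain ⟨h1, τ₁, h2, h3⟩ := h
  exact ⟨h1, τ₁, h2, fun α hα => by rw [heq α hα]; exact h3 α hα⟩

end Congr

section TI

variable {G : Type u} [Group G] [Fintype G] {M W₁ W₂ : Subgroup G} [Fintype M]

/-- members of `ℤ[calS M]` are class functions vanishing off `M'` -/
theorem zspan_calS_facts {α : ↥M → ℂ} (hα : α ∈ zspan (calS M)) :
    IsClassFunction ↥M α ∧ ∀ x : ↥M, (x : G) ∉ ⁅M, M⁆ → α x = 0 := by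
  have hn : (KM M).Normal :=
    (Subgroup.normal_subgroupOf_iff_le_normalizer (Subgroup.commutator_le_self M)).2
      (Subgroup.normalizer_commutator_ge_left M M)
  unfold zspan at hα
  induction hα using Submodule.span_induction with
  | mem χ hχ =>
    obtain ⟨θ, -, -, -, rfl⟩ := hχ
    refine ⟨Cfsg.Agent.Lib.Helper75.isClassFunction_indFun _ θ, fun x hx => ?_⟩
    apply Cfsg.Agent.Lib.Helper51.PFCyc.indFun_vanish_off_normal (KM M) θ
    rw [Subgroup.mem_subgroupOf]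
    exact hx
  | zero => exact ⟨fun g h => rfl, fun x _ => rfl⟩
  | add a b _ _ ha hb =>
    refine ⟨Cfsg.Agent.Lib.Helper78.isClassFunction_add ha.1 hb.1, fun x hx => ?_⟩
    rw [Pi.add_apply, ha.2 x hx, hb.2 x hx, add_zero]
  | smul n a _ ha =>
    refine ⟨fun g h => ?_, fun x hx => ?_⟩
    · rw [Pi.smul_apply, Pi.smul_apply, ha.1 g h]
    · rw [Pi.smul_apply, ha.2 x hx, smul_zero]

/-- For `M` maximal of Type V with `M_F` a TI-subset: centralizers of the elements of `M_F ∖ 1` lie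
in `M`. -/
theorem centralizer_le_of_TI (hG : IsMinSimpleOddOrder G) (hM : IsCoatom M)
    (hP : IsTypePWith M W₁ ⊥ W₂) (hTI : IsTISubset (fittingHallOf M : Set G))
    {x : G} (hx : x ∈ fittingHallOf M) (hx1 : x ≠ 1) :
    Subgroup.centralizer ({x} : Set G) ≤ M := by
  have hK1 : fittingHall ↥M ≠ ⊥ := by
    intro h
    apply hP.H_not_cyclic
    unfold fittingHallOf
    rw [h, Subgroup.map_bot]
    infer_instance
  have hN := Cfsg.Agent.Lib.Helper74.PF12.normalizer_fittingHallOf M hG.2.1 hM hK1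
  intro c hc
  by_contra hcM
  apply hx1
  apply hTI c (by rw [hN]; exact hcM) x hx
  have : c * x * c⁻¹ = x := by
    have := Subgroup.mem_centralizer_iff.1 hc x rfl
    rw [← this]; group
  rw [this]; exact hx

/-- On `ℤ[calS M]°` the Dade map of `M` is ordinary induction, when `M_F` is TI (Type V). -/
theorem tauM_eq_indFun_of_TI (hG : IsMinSimpleOddOrder G) (pf8 : BookPF8Data G)
    (hM : IsCoatom M) (hP : IsTypePWith M W₁ ⊥ W₂) (hV : IsOfTypeV M)
    (hTI : IsTISubset (fittingHallOf M : Set G)) :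
    ∀ α ∈ zspanOn (calS M) ({1}ᶜ : Set ↥M), tauM M α = indFun M α := by
  intro α hα
  obtain ⟨hcf, hoff⟩ := zspan_calS_facts hα.1
  have hD := (pf8.dade M hM (litA0 M) (Or.inr (Or.inr rfl))).2
  have hHK : fittingHallOf M = ⁅M, M⁆ := by
    apply le_antisymm hP.U_compl.1
    intro m hm
    obtain ⟨a, ha, b, hb, rfl⟩ := hP.U_compl.2.2.2 m hm
    rw [Subgroup.mem_bot] at hb
    subst hb
    simpa using ha
  have hne : ∀ x : ↥M, α x ≠ 0 → (x : G) ∈ ⁅M, M⁆ ∧ (x : G) ≠ 1 := by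
    intro x hx
    refine ⟨?_, ?_⟩
    · by_contra h
      exact hx (hoff x h)
    · intro h1
      apply hx
      apply hα.2
      intro hmem
      apply hmem
      rw [Set.mem_singleton_iff]
      exact Subtype.ext h1
  apply dade_eq_indFun_of_support hD α hcf
  · intro x hx
    by_contra h0
    obtain ⟨h1, h2⟩ := hne x h0
    apply hx
    left
    rw [litA_eq_of_typeIIItoV hP (Or.inr (Or.inr hV))]
    exact ⟨h1, h2⟩
  · intro x h0
    obtain ⟨h1, h2⟩ := hne x h0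
    apply Cfsg.Agent.Lib.Helper74.PF12.supportR_eq_bot M
    exact centralizer_le_of_TI hG hM hP hTI (by rw [hHK]; exact h1) h2

/-- The group-theoretic hypotheses of `Helper22.SibC.sibley_typeP` for `(H, L) = (M', M)`. -/
theorem sibley_hyps (hG : IsMinSimpleOddOrder G) (hM : IsCoatom M) (hF : TypeVFacts M W₁ W₂)
    (hTI : IsTISubset (fittingHallOf M : Set G)) :
    Odd (Nat.card ↥M) ∧ ⁅M, M⁆ ≤ M ∧ W₁ ≤ M ∧ ⁅M, M⁆ ≠ ⊥ ∧ W₁ ≠ ⊥ ∧
      Group.IsNilpotent ↥(⁅M, M⁆ : Subgroup G) ∧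
      (∀ x ∈ M, ∀ h ∈ ⁅M, M⁆, x * h * x⁻¹ ∈ ⁅M, M⁆) ∧ ⁅M, M⁆ ⊓ W₁ = ⊥ ∧ ⁅M, M⁆ ⊔ W₁ = M ∧
      (∀ w ∈ W₁, w ≠ 1 → ⁅M, M⁆ ⊓ Subgroup.centralizer ({w} : Set G) = W₂) ∧
      (Nat.card W₂).Prime ∧ W₂ ≤ ⁅⁅M, M⁆, ⁅M, M⁆⁆ ∧
      IsTISubset ((⁅M, M⁆ : Subgroup G) : Set G) ∧
      Subgroup.normalizer ((⁅M, M⁆ : Subgroup G) : Set G) = M := by
  have hP := hF.hP
  have hHK := hF.hHK
  have hK1 : fittingHall ↥M ≠ ⊥ := by
    intro h
    apply hP.H_not_cyclic
    unfold fittingHallOf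
    rw [h, Subgroup.map_bot]
    infer_instance
  have hN := Cfsg.Agent.Lib.Helper74.PF12.normalizer_fittingHallOf M hG.2.1 hM hK1
  have hKM : ⁅M, M⁆ ≤ M := Subgroup.commutator_le_self M
  refine ⟨hG.1.of_dvd_nat (Subgroup.card_subgroup_dvd_card M), hKM, hP.W₁_compl.2.1, ?_, hP.W₁_ne,
    ?_, ?_, hP.W₁_compl.2.2.1, ?_, hP.W₂_centralizer, hF.hp, hP.W₂_le.trans inf_le_right, ?_, ?_⟩
  · rw [← hHK]
    intro h
    apply hP.H_not_cyclic
    rw [h]
    infer_instance
  · rw [← hHK]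
    exact Cfsg.Agent.Lib.Helper4.PF9.H_isNilpotent M
  · intro x hx h hh
    rw [← hHK] at hh ⊢
    exact Cfsg.Agent.Lib.Helper4.PF9.conj_mem_fittingHallOf M hx hh
  · apply le_antisymm (sup_le hKM hP.W₁_compl.2.1)
    intro m hm
    obtain ⟨a, ha, b, hb, rfl⟩ := hP.W₁_compl.2.2.2 m hm
    exact Subgroup.mul_mem _ (Subgroup.mem_sup_left ha) (Subgroup.mem_sup_right hb)
  · rw [← hHK]; exact hTI
  · rw [← hHK]; exact hN

/-- A coherence system for the Dade map of `M` is a coherence system for `Ind_M^G` (`M_F` TI). -/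
theorem isCoherenceSystem_indFun_of_TI (hG : IsMinSimpleOddOrder G) (pf8 : BookPF8Data G)
    (hM : IsCoatom M) (hF : TypeVFacts M W₁ W₂) (hTI : IsTISubset (fittingHallOf M : Set G))
    {R : (↥M → ℂ) → Finset (G → ℂ)} (hS : IsCoherenceSystem (calS M) (tauM M) R) :
    IsCoherenceSystem (Cfsg.Agent.Lib.Helper22.SibC.SS ⁅M, M⁆ M)
      (Cfsg.Agent.Lib.Helper22.SibC.indL M) R := by
  have hV : IsOfTypeV M := ⟨W₁, ⊥, W₂, hF.hP, rfl, Or.inl hTI⟩
  exact isCoherenceSystem_congr hS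
    (fun α hα => (tauM_eq_indFun_of_TI hG pf8 hM hF.hP hV hTI α hα).symm)

/-- Residual case (a*) of (10.10) follows from (10.8) and the coherence of `calS M` for `Ind_M^G`
(the conclusion of Sibley's theorem (6.8), second alternative). -/
theorem noResidualTI_of_coherent (hG : IsMinSimpleOddOrder G) (pf8 : BookPF8Data G)
    (h108 : ∀ (M : Subgroup G) [Fintype M], IsCoatom M →
      (IsOfTypeIII M ∨ IsOfTypeIV M ∨ IsOfTypeV M) → ¬ IsCoherent (calS M) {1}ᶜ (tauM M))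
    (hcoh : ∀ (M W₁ W₂ : Subgroup G) [Fintype M], IsCoatom M → TypeVFacts M W₁ W₂ →
      IsTISubset (fittingHallOf M : Set G) →
      IsCoherent (Cfsg.Agent.Lib.Helper22.SibC.SS ⁅M, M⁆ M) ({1}ᶜ : Set ↥M)
        (Cfsg.Agent.Lib.Helper22.SibC.indL M)) :
    NoResidualTI G := by
  intro M W₁ W₂ hM hF hTI
  have : Fintype ↥M := Fintype.ofFinite ↥M
  have hV : IsOfTypeV M := ⟨W₁, ⊥, W₂, hF.hP, rfl, Or.inl hTI⟩
  apply h108 M hM (Or.inr (Or.inr hV))
  exact isCoherent_congr (hcoh M W₁ W₂ hM hF hTI)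
    (fun α hα => tauM_eq_indFun_of_TI hG pf8 hM hF.hP hV hTI α hα)

end TI

end Cfsg.Agent.Lib.Helper46.PF10V
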