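import Mathlib
import Cfsg.Agent.Lib.Helper46.PFTenVSib
import Cfsg.Agent.Lib.Helper24.PFCycRed

/-!
# PROJECT PF (10.10), residual (a*): final wiring (helper46)

`NoResidualTI G` from (10.8), the coherence system of (10.2) and Sibley's theorem (6.8), second
alternative (`Helper22.SibC.sibley_typeP`, taken here as a hypothesis `hSib` of exactly that
shape for `(H, L) = (M', M)`): `SFacts.cs` from `isCoherenceSystem_indFun_of_TI`, `SFacts.red` from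
`Helper24.PFCyc.calS_red`.
-/

set_option autoImplicit false

namespace Cfsg.Agent.Lib.Helper46.PF10V

open Cfsg Cfsg.Agent.Lib.Helper4.PF Cfsg.Agent.Lib.Helper24.PFCyc

universe u

variable {G : Type u} [Group G] [Fintype G]

/-- `SFacts` of Sibley's theorem for `(H, L) = (M', M)`, `M` of Type V with `M_F` TI. -/
theorem sFacts_of_TI (hG : IsMinSimpleOddOrder G) (pf8 : BookPF8Data G)
    {M W₁ W₂ : Subgroup G} [Fintype M] (hM : IsCoatom M) (hF : TypeVFacts M W₁ W₂)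
    (hTI : IsTISubset (fittingHallOf M : Set G))
    {R : (↥M → ℂ) → Finset (G → ℂ)} (hS : IsCoherenceSystem (calS M) (tauM M) R) :
    Cfsg.Agent.Lib.Helper22.SibC.SFacts ⁅M, M⁆ M R := by
  have hV : IsOfTypeV M := ⟨W₁, ⊥, W₂, hF.hP, rfl, Or.inl hTI⟩
  have hodd : Odd (Nat.card ↥M) := hG.1.of_dvd_nat (Subgroup.card_subgroup_dvd_card M)
  have hsol : Group.IsSolvable ↥M := hG.2.2.2 M hM.1
  have hA := litA_eq_of_typeIIItoV hF.hP (Or.inr (Or.inr hV))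
  have hD := (pf8.dade M hM (litA0 M) (Or.inr (Or.inr rfl))).2
  obtain ⟨mu, dl, η, ζ, hc, hf⟩ := exists_mctx0 hF.hP hodd hsol hF.hp hA hD
  exact ⟨isCoherenceSystem_indFun_of_TI hG pf8 hM hF hTI hS, calS_red hc hf⟩

/-- Residual case (a*) of (10.10) from (10.8), (10.2) and Sibley's theorem (6.8), second
alternative (hypothesis `hSib`, the statement of `Helper22.SibC.sibley_typeP`). -/
theorem noResidualTI_of_sibley (hG : IsMinSimpleOddOrder G) (pf8 : BookPF8Data G)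
    (h108 : ∀ (M : Subgroup G) [Fintype M], IsCoatom M →
      (IsOfTypeIII M ∨ IsOfTypeIV M ∨ IsOfTypeV M) → ¬ IsCoherent (calS M) {1}ᶜ (tauM M))
    (hCS : ∀ (M : Subgroup G) [Fintype M], IsCoatom M → IsOfTypeV M →
      ∃ R : (↥M → ℂ) → Finset (G → ℂ), IsCoherenceSystem (calS M) (tauM M) R)
    (hSib : ∀ (H L W₁ W₂ : Subgroup G) [Fintype L], Odd (Nat.card L) → H ≤ L → W₁ ≤ L → H ≠ ⊥ →
      W₁ ≠ ⊥ → Group.IsNilpotent H → (∀ x ∈ L, ∀ h ∈ H, x * h * x⁻¹ ∈ H) → H ⊓ W₁ = ⊥ →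
      H ⊔ W₁ = L → (∀ w ∈ W₁, w ≠ 1 → H ⊓ Subgroup.centralizer ({w} : Set G) = W₂) →
      (Nat.card W₂).Prime → W₂ ≤ ⁅H, H⁆ → IsTISubset (H : Set G) →
      Subgroup.normalizer (H : Set G) = L →
      ∀ {R : (↥L → ℂ) → Finset (G → ℂ)}, Cfsg.Agent.Lib.Helper22.SibC.SFacts H L R →
      IsCoherent (Cfsg.Agent.Lib.Helper22.SibC.SS H L) ({1}ᶜ : Set ↥L)
        (Cfsg.Agent.Lib.Helper22.SibC.indL L)) :
    NoResidualTI G := by
  apply noResidualTI_of_coherent hG pf8 h108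
  intro M W₁ W₂ _ hM hF hTI
  have hV : IsOfTypeV M := ⟨W₁, ⊥, W₂, hF.hP, rfl, Or.inl hTI⟩
  obtain ⟨R, hS⟩ := hCS M hM hV
  obtain ⟨h1, h2, h3, h4, h5, h6, h7, h8, h9, h10, h11, h12, h13, h14⟩ :=
    sibley_hyps hG hM hF hTI
  exact hSib ⁅M, M⁆ M W₁ W₂ h1 h2 h3 h4 h5 h6 h7 h8 h9 h10 h11 h12 h13 h14
    (sFacts_of_TI hG pf8 hM hF hTI hS)

end Cfsg.Agent.Lib.Helper46.PF10V
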