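import Mathlib
import Cfsg.Prelude.Def_Solvable

/-!
# PROJECT PF (10.10): two small lemmas (helper46)
-/

set_option autoImplicit false

namespace Cfsg.Agent.Lib.Helper46.PF10V

open Cfsg

/-- [V-PCORE] the `p`-core of a group of order `p ^ m` is the whole group. -/
theorem card_pCore_of_card_pow {p m : ℕ} (hp : p.Prime) (H : Type*) [Group H]
    (hc : Nat.card H = p ^ m) : Nat.card (pCore p H) = p ^ m := by
  have : Fact p.Prime := ⟨hp⟩
  have hP : IsPGroup p H := IsPGroup.of_card hc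
  have htop : pCore p H = ⊤ := by
    apply le_antisymm le_top
    unfold pCore
    apply le_sSup
    refine ⟨inferInstance, ?_⟩
    exact hP.to_subgroup ⊤
  rw [htop, Subgroup.card_top, hc]

/-- [V-NUM] -/
theorem two_mul_eq_of_dvd {p q : ℕ} (hp : p.Prime) (hp2 : p ≠ 2) (hq : Odd q) (hdvd : q ∣ p + 1)
    (hle : p ^ 2 ≤ 4 * q ^ 2 + 1) : 2 * q = p + 1 := by
  obtain ⟨t, ht⟩ := hdvd
  have hpodd : Odd p := hp.odd_of_ne_two hp2
  have hp3 : 3 ≤ p := by
    have := hp.two_le
    omega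
  -- `t` is even
  have hteven : Even t := by
    have h1 : Even (q * t) := by
      rw [← ht]
      exact hpodd.add_odd odd_one
    rcases (Nat.even_mul.1 h1) with h | h
    · exact absurd h (Nat.not_even_iff_odd.2 hq)
    · exact h
  obtain ⟨s, hs⟩ := hteven
  have hs0 : s ≠ 0 := by
    rintro rfl
    simp at hs
    subst hs
    simp at ht
  by_cases hs1 : s = 1
  · subst hs1
    subst hs
    omega
  · exfalso
    have hs2 : 2 ≤ s := by omega
    -- `p + 1 = q * (2 s) ≥ 4 q`
    have h4 : 4 * q ≤ p + 1 := by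
      rw [ht, hs]
      nlinarith
    -- `(4q)² ≤ (p+1)²`, so `16 q² ≤ p² + 2p + 1`, but `4p² ≤ 16q² + 4`
    have h5 : (4 * q) ^ 2 ≤ (p + 1) ^ 2 := Nat.pow_le_pow_left h4 2
    nlinarith

end Cfsg.Agent.Lib.Helper46.PF10V
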