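import Mathlib
import Cfsg.Agent.Lib.Helper46.PFTenVDefs
import Cfsg.Agent.Lib.Helper46.PFTenVSmall
import Cfsg.Agent.Lib.Helper4.PFNineA
import Cfsg.Agent.Lib.Helper64.PFElevenCoh
import Cfsg.Agent.Lib.Helper64.PFElevenE3
import Cfsg.Agent.Lib.Helper77.PFTenVFrob
import Cfsg.Agent.Lib.Helper77.PFTenVTr
import Cfsg.Agent.Lib.Helper88.CubeCommutator

/-!
# PROJECT PF, Peterfalvi (10.9) and (10.10): no maximal subgroup of Type V (helper46)

* `typeV_facts` = (10.9): for `M` maximal of Type V, non-coherence of `calS M` ((10.8)) forces, via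
  the contrapositive of S1521 (Peterfalvi (6.7)), that `H = M_F = M'` is a non-abelian `p`-group
  (`p = |W₂|`), `H/H'` is a chief factor of `M` of order `≤ 4q²+1` and `q ∤ p - 1`.
* `no_typeV` = (10.10): the three alternatives of `IsOfTypeV` against these facts; the two residual
  cases (`H` TI: Sibley's theorem (6.8), second alternative; `|H| = p³`, `q = (p+1)/2`) are `Prop`
  parameters (`NoResidualTI`, `NoResidualCube`, see `PFTenVDefs`).

Modules: [FROB], [TR] helper77; [P3] helper88.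
-/

set_option autoImplicit false

namespace Cfsg.Agent.Lib.Helper46.PF10V

open Cfsg Cfsg.Agent.Lib.Helper4.PF Cfsg.Agent.Lib.Helper24.PFCyc Cfsg.Agent.Lib.Helper77.PFTenV

universe u

variable {G : Type u} [Group G]

/-- for data with `U = ⊥`: `M_F = M'` -/
theorem fittingHallOf_eq_der {M W₁ W₂ : Subgroup G} (hP : IsTypePWith M W₁ ⊥ W₂) :
    fittingHallOf M = ⁅M, M⁆ := by
  apply le_antisymm hP.U_compl.1
  intro m hm
  obtain ⟨a, ha, b, hb, rfl⟩ := hP.U_compl.2.2.2 m hm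
  rw [Subgroup.mem_bot] at hb
  subst hb
  simpa using ha

theorem KM_normal (M : Subgroup G) : (KM M).Normal :=
  (Subgroup.normal_subgroupOf_iff_le_normalizer (Subgroup.commutator_le_self M)).2
    (Subgroup.normalizer_commutator_ge_left M M)

/-- **Peterfalvi (10.9)**: the contrapositive of S1521 for a maximal subgroup of Type V. -/
theorem typeV_facts [Fintype G] {M W₁ W₂ : Subgroup G} [Fintype M]
    (hP : IsTypePWith M W₁ ⊥ W₂) (hp : (Nat.card W₂).Prime) (hodd : Odd (Nat.card M))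
    (R : (↥M → ℂ) → Finset (G → ℂ)) (hS : IsCoherenceSystem (calS M) (tauM M) R)
    (hnc : ¬ IsCoherent (calS M) {1}ᶜ (tauM M)) : TypeVFacts M W₁ W₂ := by
  have hHK := fittingHallOf_eq_der hP
  have hKM : ⁅M, M⁆ ≤ M := Subgroup.commutator_le_self M
  have hn : (KM M).Normal := KM_normal M
  have hsolv : Group.IsSolvable ↥(KM M) := Cfsg.Agent.Lib.Helper64.PF11.isSolvable_derM hP
  -- `K` is nilpotent
  have hHnil : Group.IsNilpotent ↥(fittingHallOf M) := Cfsg.Agent.Lib.Helper4.PF9.H_isNilpotent M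
  have hKnil' : Group.IsNilpotent ↥(⁅M, M⁆ : Subgroup G) := by rw [← hHK]; exact hHnil
  have hKnil : Group.IsNilpotent ↥(KM M) :=
    (Group.isNilpotent_congr (Subgroup.subgroupOfEquivOfLe hKM)).2 hKnil'
  have hbotn : ((⊥ : Subgroup ↥M).subgroupOf (KM M)).Normal := by
    rw [Subgroup.bot_subgroupOf]; infer_instance
  have hnilq : Group.IsNilpotent (↥(KM M) ⧸ (⊥ : Subgroup ↥M).subgroupOf (KM M)) := inferInstance
  -- `K ≠ 1`
  have hK1 : KM M ≠ ⊥ := by
    intro h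
    apply hP.H_not_cyclic
    have : fittingHallOf M = ⊥ := by
      rw [hHK, eq_bot_iff]
      intro x hx
      have : (⟨x, hKM hx⟩ : ↥M) ∈ KM M := by
        rw [Subgroup.mem_subgroupOf]; exact hx
      rw [h, Subgroup.mem_bot] at this
      rw [Subgroup.mem_bot]
      exact congrArg Subtype.val this
    rw [this]
    infer_instance
  have hK' : ⁅KM M, KM M⁆ < KM M := by
    refine lt_of_le_of_ne (Subgroup.commutator_le_self _) ?_
    intro h
    have hnt : Nontrivial ↥(KM M) := (Subgroup.nontrivial_iff_ne_bot _).mpr hK1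
    have hlt := Group.IsSolvable.commutator_lt_top_of_nontrivial ↥(KM M)
    have hmap : (commutator ↥(KM M)).map (KM M).subtype = ⁅KM M, KM M⁆ := by
      rw [commutator_def, Subgroup.map_commutator, ← MonoidHom.range_eq_map, Subgroup.range_subtype]
    apply hlt.ne
    apply Subgroup.map_injective (KM M).subtype_injective
    rw [hmap, h, ← MonoidHom.range_eq_map, Subgroup.range_subtype]
  have hH₁K : ⁅KM M, KM M⁆ ⊔ ⊥ < KM M := by rwa [sup_bot_eq]
  -- `K < ⊤`
  have hKL : KM M < ⊤ := by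
    refine lt_of_le_of_ne le_top ?_
    intro h
    apply hP.W₁_ne
    rw [eq_bot_iff, ← hP.W₁_compl.2.2.1]
    intro w hw
    refine ⟨?_, hw⟩
    have : (⟨w, hP.W₁_compl.2.1 hw⟩ : ↥M) ∈ KM M := by rw [h]; trivial
    rwa [Subgroup.mem_subgroupOf] at this
  -- Frobenius condition
  have hfrob : ∀ k ∈ KM M, k ∉ ⁅KM M, KM M⁆ ⊔ ⊥ → ∀ x : ↥M,
      x * k * x⁻¹ * k⁻¹ ∈ ⁅KM M, KM M⁆ ⊔ ⊥ → x ∈ KM M := by
    intro k hk hk' x hxk
    rw [KM_comm_sup_bot, Subgroup.mem_subgroupOf] at hk' hxk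
    rw [Subgroup.mem_subgroupOf] at hk ⊢
    exact typeP_frob_mod_der2 hP (k : G) hk hk' (x : G) x.2 (by simpa using hxk)
  obtain ⟨h1, h2, ⟨p', m, hp', hpm⟩, h4, h5⟩ :=
    Cfsg.Agent.Lib.Helper64.PF11.not_coherent_facts (KM M) hsolv (tauM M) R hS hodd ⊥ bot_le hnilq
      hH₁K hKL hfrob hnc
  rw [KM_relIndex_bot] at hpm
  have hcardH : Nat.card ↥(fittingHallOf M) = p' ^ m := by rw [hHK]; exact hpm
  -- `p' = |W₂|`
  have hW2H : W₂ ≤ fittingHallOf M := Cfsg.Agent.Lib.Helper4.PF9.W₂_le_H hP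
  have hdvd : Nat.card W₂ ∣ p' ^ m := by
    rw [← hcardH]
    exact Subgroup.card_dvd_of_le hW2H
  have hpp : Nat.card W₂ = p' := (Nat.prime_dvd_prime_iff_eq hp hp').1 (hp.dvd_of_dvd_pow hdvd)
  refine ⟨hP, hHK, hp, ⟨m, by rw [hpp]; exact hcardH⟩, ?_, ?_, ?_, ?_⟩
  · intro hd
    apply h5 p' m hp' (by rw [KM_relIndex_bot]; exact hpm)
    rw [KM_index hP, ← hpp]
    exact hd
  · rw [KM_relIndex_comm, KM_index hP] at h2
    rw [hHK]; exact h2
  · rw [hHK]
    intro N hN1 hN2 hN3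
    exact chief_transfer M h1 N hN1 hN2 hN3
  · rw [hHK]
    intro h
    apply h4
    have h6 : ⁅KM M, KM M⁆ = ⁅KM M, KM M⁆ ⊔ ⊥ := (sup_bot_eq _).symm
    rw [h6, KM_comm_sup_bot, h, Subgroup.bot_subgroupOf]

/-- Type V excludes Type II (`M_F = M'` against `M_F < M'`). -/
theorem not_typeII_of_typeV {M : Subgroup G} (hV : IsOfTypeV M) : ¬ IsOfTypeII M := by
  obtain ⟨W₁, U, W₂, hP, hU, -⟩ := hV
  subst hU
  have hHK := fittingHallOf_eq_der hP
  rintro ⟨W₁', U', W₂', hP', hU', -⟩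
  apply hU'
  rw [eq_bot_iff, ← hP'.U_compl.2.2.1]
  intro u hu
  refine ⟨?_, hu⟩
  rw [hHK]
  exact hP'.U_compl.2.1 hu

/-- **Peterfalvi (10.10)**: no maximal subgroup is of Type V, given (10.8) (`h108`), the coherence
system of (10.2) (`hCS`), and the two residual cases. -/
theorem no_typeV [Fintype G] (hG : IsMinSimpleOddOrder G) (bg : BookBGData G)
    (h108 : ∀ (M : Subgroup G) [Fintype M], IsCoatom M →
      (IsOfTypeIII M ∨ IsOfTypeIV M ∨ IsOfTypeV M) → ¬ IsCoherent (calS M) {1}ᶜ (tauM M))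
    (hCS : ∀ (M : Subgroup G) [Fintype M], IsCoatom M → IsOfTypeV M →
      ∃ R : (↥M → ℂ) → Finset (G → ℂ), IsCoherenceSystem (calS M) (tauM M) R)
    (hTI : NoResidualTI G) (hCube : NoResidualCube G) :
    ∀ M : Subgroup G, IsCoatom M → ¬ IsOfTypeV M := by
  intro M hM hV
  have : Fintype ↥M := Fintype.ofFinite ↥M
  have hV' := hV
  obtain ⟨W₁, U, W₂, hP, hU, halt⟩ := hV'
  subst hU
  have hp := bg.w2prime M W₁ ⊥ W₂ hM hP (not_typeII_of_typeV hV)
  have hoddG : Odd (Nat.card G) := hG.1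
  have hodd : Odd (Nat.card ↥M) := hoddG.of_dvd_nat (Subgroup.card_subgroup_dvd_card M)
  obtain ⟨R, hS⟩ := hCS M hM hV
  have hF := typeV_facts hP hp hodd R hS (h108 M hM (Or.inr (Or.inr hV)))
  obtain ⟨m, hm⟩ := hF.hpow
  have hprime_eq : ∀ p₁ : ℕ, p₁.Prime → p₁ ∣ Nat.card ↥(fittingHallOf M) → p₁ = Nat.card ↥W₂ := by
    intro p₁ hp₁ hd
    rw [hm] at hd
    exact (Nat.prime_dvd_prime_iff_eq hp₁ hp).1 (hp₁.dvd_of_dvd_pow hd)
  rcases halt with hti | ⟨p₁, hp₁, hdvd, hq, -⟩ | ⟨p₁, hp₁, hdvd, hcube, hq, -⟩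
  · exact hTI M W₁ W₂ hM hF hti
  · have h := hprime_eq p₁ hp₁ hdvd
    subst h
    exact hF.hndvd hq
  · have h := hprime_eq p₁ hp₁ hdvd
    subst h
    have hc3 : Nat.card ↥(fittingHallOf M) = Nat.card ↥W₂ ^ 3 := by
      have h1 := card_pCore_of_card_pow hp ↥(fittingHallOf M) hm
      rw [hcube] at h1
      rw [hm, ← h1]
    have hidx := Cfsg.Agent.Lib.Helper88.PF10V.relIndex_commutator_of_card_cube hp (fittingHallOf M) hc3 hF.hnab
    have hp2 : Nat.card ↥W₂ ≠ 2 := by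
      intro h2
      have : Odd (Nat.card ↥W₂) := hoddG.of_dvd_nat (Subgroup.card_subgroup_dvd_card W₂)
      rw [h2] at this
      exact absurd this (by decide)
    have hqodd : Odd (Nat.card ↥W₁) := hoddG.of_dvd_nat (Subgroup.card_subgroup_dvd_card W₁)
    have h2q := two_mul_eq_of_dvd hp hp2 hqodd hq (by rw [← hidx]; exact hF.hidx)
    exact hCube M W₁ W₂ hM hF hc3 h2q

end Cfsg.Agent.Lib.Helper46.PF10V
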