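import Mathlib
import Cfsg.Agent.Lib.Helper46.PFTenVSibWire
import Cfsg.Agent.Lib.Helper46.PFTenVAsm
import Cfsg.Agent.Lib.Helper51.PFTenSubcohCS
import Cfsg.Agent.Lib.Helper24.PFTypeExcl

/-!
# PROJECT PF (10.10): the input `hCS` (the coherence system of (10.2)) in global shape (helper46)

For every maximal subgroup `M` of Type III, IV or V there are the characters of section 9
(`Helper24.PFCyc.exists_mctx0`), hence by `Helper51.PF10.exists_coherenceSystem` a coherence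
system for `(calS M, tauM M)`.  With it `no_typeV` needs only (10.8), Sibley's theorem (6.8) second
alternative, and the residual case (c*).
-/

set_option autoImplicit false

namespace Cfsg.Agent.Lib.Helper46.PF10V

open Cfsg Cfsg.Agent.Lib.Helper4.PF Cfsg.Agent.Lib.Helper24.PFCyc

universe u

variable {G : Type u} [Group G] [Fintype G]

/-- The section 9 context `MCtx0`/`MFacts` exists for every maximal subgroup of Type III, IV, V
and every choice of type P data. -/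
theorem exists_mctx0_of_typeIIItoV (hG : IsMinSimpleOddOrder G) (bg : BookBGData G)
    (pf8 : BookPF8Data G) {M W₁ U W₂ : Subgroup G} [Fintype M] (hM : IsCoatom M)
    (hP : IsTypePWith M W₁ U W₂) (hT : IsOfTypeIII M ∨ IsOfTypeIV M ∨ IsOfTypeV M) :
    ∃ (mu : WChar W₁ W₂ → (↥M → ℂ)) (dl : WChar W₁ W₂ → ℂ) (η : WChar W₁ W₂ → (G → ℂ))
      (ζ : ↥M → ℂ), MCtx0 M W₁ U W₂ mu dl η ζ ∧ MFacts M W₁ W₂ mu dl η := by
  have hodd : Odd (Nat.card ↥M) := hG.1.of_dvd_nat (Subgroup.card_subgroup_dvd_card M)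
  have hsol : Group.IsSolvable ↥M := hG.2.2.2 M hM.1
  have hp := bg.w2prime M W₁ U W₂ hM hP (not_typeII_of_typeIIItoV hG hM hT)
  have hA := litA_eq_of_typeIIItoV hP hT
  have hD := (pf8.dade M hM (litA0 M) (Or.inr (Or.inr rfl))).2
  exact exists_mctx0 hP hodd hsol hp hA hD

/-- (10.2), global shape: a coherence system for `(calS M, tauM M)`, `M` of Type III, IV or V. -/
theorem exists_coherenceSystem_of_typeIIItoV (hG : IsMinSimpleOddOrder G) (bg : BookBGData G)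
    (pf8 : BookPF8Data G) (M : Subgroup G) [Fintype M] (hM : IsCoatom M)
    (hT : IsOfTypeIII M ∨ IsOfTypeIV M ∨ IsOfTypeV M) :
    ∃ R : (↥M → ℂ) → Finset (G → ℂ), IsCoherenceSystem (calS M) (tauM M) R := by
  have hPex : ∃ W₁ U W₂ : Subgroup G, IsTypePWith M W₁ U W₂ := by
    rcases hT with ⟨W₁, U, W₂, hP, -⟩ | ⟨W₁, U, W₂, hP, -⟩ | ⟨W₁, U, W₂, hP, -⟩ <;>
      exact ⟨W₁, U, W₂, hP⟩
  obtain ⟨W₁, U, W₂, hP⟩ := hPex
  obtain ⟨mu, dl, η, ζ, hc, hf⟩ := exists_mctx0_of_typeIIItoV hG bg pf8 hM hP hT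
  exact Cfsg.Agent.Lib.Helper51.PF10.exists_coherenceSystem hc hf

/-- **Peterfalvi (10.10)** with the inputs reduced to (10.8) (`h108`), Sibley's theorem (6.8),
second alternative (`hSib`, the statement of `Helper22.SibC.sibley_typeP`), and the residual case
(c*) (`hCube`). -/
theorem no_typeV' (hG : IsMinSimpleOddOrder G) (bg : BookBGData G) (pf8 : BookPF8Data G)
    (h108 : ∀ (M : Subgroup G) [Fintype M], IsCoatom M →
      (IsOfTypeIII M ∨ IsOfTypeIV M ∨ IsOfTypeV M) → ¬ IsCoherent (calS M) {1}ᶜ (tauM M))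
    (hSib : ∀ (H L W₁ W₂ : Subgroup G) [Fintype L], Odd (Nat.card L) → H ≤ L → W₁ ≤ L → H ≠ ⊥ →
      W₁ ≠ ⊥ → Group.IsNilpotent H → (∀ x ∈ L, ∀ h ∈ H, x * h * x⁻¹ ∈ H) → H ⊓ W₁ = ⊥ →
      H ⊔ W₁ = L → (∀ w ∈ W₁, w ≠ 1 → H ⊓ Subgroup.centralizer ({w} : Set G) = W₂) →
      (Nat.card W₂).Prime → W₂ ≤ ⁅H, H⁆ → IsTISubset (H : Set G) →
      Subgroup.normalizer (H : Set G) = L →
      ∀ {R : (↥L → ℂ) → Finset (G → ℂ)}, Cfsg.Agent.Lib.Helper22.SibC.SFacts H L R →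
      IsCoherent (Cfsg.Agent.Lib.Helper22.SibC.SS H L) ({1}ᶜ : Set ↥L)
        (Cfsg.Agent.Lib.Helper22.SibC.indL L))
    (hCube : NoResidualCube G) :
    ∀ M : Subgroup G, IsCoatom M → ¬ IsOfTypeV M := by
  have hCS : ∀ (M : Subgroup G) [Fintype M], IsCoatom M → IsOfTypeV M →
      ∃ R : (↥M → ℂ) → Finset (G → ℂ), IsCoherenceSystem (calS M) (tauM M) R :=
    fun M _ hM hV => exists_coherenceSystem_of_typeIIItoV hG bg pf8 M hM (Or.inr (Or.inr hV))
  exact no_typeV hG bg h108 hCS (noResidualTI_of_sibley hG pf8 h108 hCS hSib) hCube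

end Cfsg.Agent.Lib.Helper46.PF10V
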