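import Mathlib
import Cfsg.Agent.Lib.Helper46.PFTenVDefs
import Cfsg.Agent.Lib.Helper46.PFTenVSmall

/-!
# PROJECT PF (10.10), residual (c*): the subgroup is of Type V (helper46)

In the situation of `NoResidualCube` (`TypeVFacts`, `|H| = p³`, `2q = p + 1`) the frozen predicate
`IsOfTypeV M` holds (third alternative), so (10.8) in its global shape applies.
-/

set_option autoImplicit false

namespace Cfsg.Agent.Lib.Helper46.PF10V

open Cfsg

universe u

variable {G : Type u} [Group G]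

/-- the `p'`-core of a group of order `p ^ m` is trivial -/
theorem pPrimeCore_eq_bot_of_card_pow {p m : ℕ} (hp : p.Prime) (H : Type*) [Group H]
    (hc : Nat.card H = p ^ m) : pPrimeCore p H = ⊥ := by
  have hfin : Finite H := Nat.finite_of_card_ne_zero (by rw [hc]; exact pow_ne_zero _ hp.ne_zero)
  rw [eq_bot_iff]
  unfold pPrimeCore
  apply sSup_le
  rintro N ⟨-, hN⟩
  have hdvd : Nat.card N ∣ p ^ m := hc ▸ Subgroup.card_subgroup_dvd_card N
  have h1 : Nat.card N = 1 :=
    Nat.Coprime.eq_one_of_dvd (Nat.Coprime.pow_right m hN) hdvd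
  exact le_of_eq (Subgroup.card_eq_one.mp h1)

/-- In the residual case (c*) the subgroup `M` is of Type V (third alternative). -/
theorem isOfTypeV_of_cube {M W₁ W₂ : Subgroup G} (hF : TypeVFacts M W₁ W₂)
    (hc3 : Nat.card (fittingHallOf M) = Nat.card W₂ ^ 3)
    (h2q : 2 * Nat.card W₁ = Nat.card W₂ + 1) : IsOfTypeV M := by
  refine ⟨W₁, ⊥, W₂, hF.hP, rfl, Or.inr (Or.inr ⟨Nat.card W₂, hF.hp, ?_, ?_, ⟨2, ?_⟩, ?_⟩)⟩
  · rw [hc3]
    exact dvd_pow_self _ (by norm_num)
  · exact card_pCore_of_card_pow hF.hp _ hc3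
  · omega
  · rw [pPrimeCore_eq_bot_of_card_pow hF.hp _ hc3]
    infer_instance

end Cfsg.Agent.Lib.Helper46.PF10V
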