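import Mathlib
import Cfsg.Agent.Lib.Helper46.PFTenVCS
import Cfsg.Agent.Lib.Helper22.SibCTypeV
import Cfsg.Agent.Lib.Helper24.PFTenGlobal

/-!
# PROJECT PF (10.10): no maximal subgroup of Type V, modulo the residual case (c*) (helper46)

All inputs of `no_typeV` are now on main except `NoResidualCube G` (the case `|H| = p³`,
`2q = p + 1`; helper31's project PF10C): (10.8) is `Helper24.PFCyc.pf10_noncoherent_coatom`, (10.2)
is `exists_coherenceSystem_of_typeIIItoV`, the residual case (a*) is `Helper22.SibC.noResidualTI`.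
-/

set_option autoImplicit false

namespace Cfsg.Agent.Lib.Helper46.PF10V

open Cfsg Cfsg.Agent.Lib.Helper4.PF Cfsg.Agent.Lib.Helper24.PFCyc

universe u

variable {G : Type u} [Group G] [Fintype G]

/-- the residual case (a*) of (10.10) does not occur -/
theorem noResidualTI_book (hG : IsMinSimpleOddOrder G) (bg : BookBGData G) (pf8 : BookPF8Data G) :
    NoResidualTI G :=
  Cfsg.Agent.Lib.Helper22.SibC.noResidualTI hG pf8
    (fun M _ hM h => pf10_noncoherent_coatom hG bg pf8 M hM h)
    (fun M _ hM hV => exists_coherenceSystem_of_typeIIItoV hG bg pf8 M hM (Or.inr (Or.inr hV)))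

/-- **Peterfalvi (10.10)**: no maximal subgroup is of Type V, given only the residual case (c*). -/
theorem no_typeV_of_cube (hG : IsMinSimpleOddOrder G) (bg : BookBGData G) (pf8 : BookPF8Data G)
    (hCube : NoResidualCube G) : ∀ M : Subgroup G, IsCoatom M → ¬ IsOfTypeV M :=
  no_typeV hG bg (fun M _ hM h => pf10_noncoherent_coatom hG bg pf8 M hM h)
    (fun M _ hM hV => exists_coherenceSystem_of_typeIIItoV hG bg pf8 M hM (Or.inr (Or.inr hV)))
    (noResidualTI_book hG bg pf8) hCube

end Cfsg.Agent.Lib.Helper46.PF10V
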