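/-
helper46: project STEINBERG phase 3 (helper60), module ST3-[CP]:
in a central extension `ψ : E →* Γ` of a Steinberg model with separating diagonal elements, the lifts of root
elements `X_a(t)`, `X_b(u)` commute whenever `b ≠ ± a` and `a + b` is not a root (the torus trick).
-/
import Cfsg.Agent.Lib.Helper60.St3Defs
import Cfsg.Agent.Lib.Helper53.CentralLift

set_option autoImplicit false

namespace Cfsg.Agent.Lib.Helper46.St3

open Cfsg.Lie Cfsg.Agent.Lib.Helper35.St Cfsg.Agent.Lib.Helper60.St3

universe u v w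

variable {D : ChevalleyDatum} {K : Type u} [Field K] {Γ : Type v} [Group Γ] {E : Type w} [Group E]

/-- With an empty commutator formula the root elements commute. -/
theorem h46_X_comm_of_comPair (M : Model D K Γ) (a b : ℕ) (ha : a < D.nroots) (hab : ComPair D a b) (t u : K) :
    M.X b u * M.X a t = M.X a t * M.X b u := by
  obtain ⟨hb, hba, hbna, hct⟩ := hab
  have h := M.comm a b ha hb hba hbna t u
  have hw : D.commWord K a b t u = [] := by
    unfold ChevalleyDatum.commWord
    rw [hct]
    rfl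
  rw [hw, List.map_nil, List.prod_nil] at h
  -- `(X b u)⁻¹ * (X a t)⁻¹ * X b u * X a t = 1`
  calc M.X b u * M.X a t
      = M.X a t * M.X b u * ((M.X b u)⁻¹ * (M.X a t)⁻¹ * M.X b u * M.X a t) := by group
    _ = M.X a t * M.X b u := by rw [h, mul_one]

theorem pairComm (M : Model D K Γ) (ψ : E →* Γ) (hψ : Function.Surjective ψ) (hc : ψ.ker ≤ Subgroup.center E)
    (hds : DSep M) : PairComm M ψ := by
  intro a b ha hab t u x y hx hy
  have hcomm := h46_X_comm_of_comPair M a b ha hab
  obtain ⟨hb, hba, hbna, -⟩ := hab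
  obtain ⟨g, χ, hg, hχa, hχb⟩ := hds a b ha hb hba hbna
  have hA : ∀ t' u' : K, M.X b (t' + u') = M.X b t' * M.X b u' := fun t' u' => (M.add b hb t' u').symm
  have hAb : ∀ t' : K, M.X b t' * M.X a t = M.X a t * M.X b t' := fun t' => hcomm t t'
  have hhA : ∀ t' : K, g * M.X b t' * g⁻¹ = M.X b (χ b * t') := fun t' => (hg b hb).2 t'
  have hhb : g * M.X a t * g⁻¹ = M.X a t := by
    rw [(hg a ha).2 t, hχa, one_mul]
  have key := Cfsg.Agent.Lib.Helper53.CLift.liftsCommute_of_torus ψ hc hψ (fun u' : K => M.X b u') hA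
    (M.X a t) hAb g (χ b) hχb hhA hhb u
  exact (key y x hy hx).eq.symm

end Cfsg.Agent.Lib.Helper46.St3
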