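/-
helper46: project STEINBERG phase 3 (helper60), module ST3-[CENT]:
in a central extension `ψ : E →* Γ` of a perfect group `Γ`, every lift of a central element is central.
-/
import Cfsg.Agent.Lib.Helper60.St3Defs

set_option autoImplicit false

namespace Cfsg.Agent.Lib.Helper46.St3

open Cfsg.Lie Cfsg.Agent.Lib.Helper35.St Cfsg.Agent.Lib.Helper60.St3

universe u v w

variable {D : ChevalleyDatum} {K : Type u} [Field K] {Γ : Type v} [Group Γ] {E : Type w} [Group E]

/-- In a central extension `ψ : E →* Γ`, every `x : E` is a product of an element of the commutator subgroup and a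
kernel element, provided `Γ` is perfect. -/
theorem h46_exists_comm_mul_ker (ψ : E →* Γ) (hψ : Function.Surjective ψ) (hperf : commutator Γ = ⊤) (x : E) :
    ∃ y ∈ commutator E, ∃ c ∈ ψ.ker, x = y * c := by
  have hmap : (commutator E).map ψ = ⊤ := by
    rw [commutator_def, Subgroup.map_commutator, ← MonoidHom.range_eq_map,
      MonoidHom.range_eq_top.mpr hψ, ← commutator_def, hperf]
  have hx : ψ x ∈ (commutator E).map ψ := by rw [hmap]; exact Subgroup.mem_top _
  obtain ⟨y, hy, hyx⟩ := Subgroup.mem_map.mp hx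
  refine ⟨y, hy, y⁻¹ * x, ?_, by group⟩
  rw [MonoidHom.mem_ker, map_mul, map_inv, hyx, inv_mul_cancel]

theorem lift_mem_center (ψ : E →* Γ) (hψ : Function.Surjective ψ) (hc : ψ.ker ≤ Subgroup.center E)
    (hperf : commutator Γ = ⊤) (e : E) (he : ψ e ∈ Subgroup.center Γ) : e ∈ Subgroup.center E := by
  -- the commutator with `e` is central
  have hker : ∀ x : E, e * x * e⁻¹ * x⁻¹ ∈ Subgroup.center E := by
    intro x
    apply hc
    rw [MonoidHom.mem_ker, map_mul, map_mul, map_mul, map_inv, map_inv]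
    have := Subgroup.mem_center_iff.mp he (ψ x)
    -- `ψ x * ψ e = ψ e * ψ x`
    rw [← this, mul_inv_cancel_right, mul_inv_cancel]
  -- `x ↦ e x e⁻¹ x⁻¹` as a homomorphism into the centre
  let φ : E →* Subgroup.center E :=
    { toFun := fun x => ⟨e * x * e⁻¹ * x⁻¹, hker x⟩
      map_one' := by
        apply Subtype.ext
        simp
      map_mul' := by
        intro x y
        apply Subtype.ext
        show e * (x * y) * e⁻¹ * (x * y)⁻¹ = (e * x * e⁻¹ * x⁻¹) * (e * y * e⁻¹ * y⁻¹)
        have h1 := Subgroup.mem_center_iff.mp (hker y) x⁻¹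
        -- `x⁻¹ * c = c * x⁻¹`
        calc e * (x * y) * e⁻¹ * (x * y)⁻¹
            = e * x * e⁻¹ * ((e * y * e⁻¹ * y⁻¹) * x⁻¹) := by group
          _ = e * x * e⁻¹ * (x⁻¹ * (e * y * e⁻¹ * y⁻¹)) := by rw [h1]
          _ = (e * x * e⁻¹ * x⁻¹) * (e * y * e⁻¹ * y⁻¹) := by group }
  have hφ : ∀ x, (φ x : E) = e * x * e⁻¹ * x⁻¹ := fun _ => rfl
  have hcomm : ∀ y ∈ commutator E, φ y = 1 := by
    have hle : commutator E ≤ φ.ker := by
      rw [commutator_def, Subgroup.commutator_le]
      intro g₁ _ g₂ _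
      rw [MonoidHom.mem_ker, commutatorElement_def, map_mul, map_mul, map_mul, map_inv, map_inv]
      have h1 : φ g₁ * φ g₂ = φ g₂ * φ g₁ := by
        apply Subtype.ext
        exact (Subgroup.mem_center_iff.mp (φ g₁).2 (φ g₂ : E)).symm
      rw [h1, mul_inv_cancel_right, mul_inv_cancel]
    intro y hy
    exact MonoidHom.mem_ker.mp (hle hy)
  have hkerφ : ∀ c ∈ ψ.ker, φ c = 1 := by
    intro c hcm
    apply Subtype.ext
    rw [hφ]
    have := Subgroup.mem_center_iff.mp (hc hcm) e
    -- `e * c = c * e`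
    rw [this, mul_inv_cancel_right, mul_inv_cancel]
    rfl
  rw [Subgroup.mem_center_iff]
  intro x
  obtain ⟨y, hy, c, hcm, rfl⟩ := h46_exists_comm_mul_ker ψ hψ hperf x
  have h1 : φ (y * c) = 1 := by rw [map_mul, hcomm y hy, hkerφ c hcm, one_mul]
  have h2 : e * (y * c) * e⁻¹ * (y * c)⁻¹ = 1 := by
    rw [← hφ, h1]; rfl
  have h3 : e * (y * c) * e⁻¹ = y * c := by
    have := mul_inv_eq_one.mp h2
    exact this
  calc y * c * e = (e * (y * c) * e⁻¹) * e := by rw [h3]
    _ = e * (y * c) := by group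

end Cfsg.Agent.Lib.Helper46.St3
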