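/-
helper46: project STEINBERG phase 3 (helper60), module ST3-[TAILINJ]:
in a Steinberg model a root element `X_a(t)`, `a > 0`, lying in the subgroup generated by the `X_b`, `b > 0`, `b > a`
(index order) is trivial: apply the projection `π` and use helper18's `eq_zero_of_xG_eq_wordG`.
-/
import Cfsg.Agent.Lib.Helper60.St3Defs
import Cfsg.Agent.Lib.Helper47.StCollect
import Cfsg.Agent.Lib.Helper18.UFactTabs

set_option autoImplicit false

namespace Cfsg.Agent.Lib.Helper46.St3

open Cfsg.Lie Cfsg.Agent.Lib.Helper35.St Cfsg.Agent.Lib.Helper60.St3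

universe u v w

variable {D : ChevalleyDatum} {K : Type u} [Field K] {Γ : Type v} [Group Γ] {E : Type w} [Group E]

/-- The matrix of the image of a word. -/
theorem h46_coe_pi_word (M : Model D K Γ) (w : List (ℕ × K)) (hw : ∀ a ∈ w, a.1 < D.nroots) :
    ((M.π (M.word w) : GL D.Idx K) : Matrix D.Idx D.Idx K) = D.wordMat K w := by
  induction w with
  | nil =>
    unfold Model.word ChevalleyDatum.wordMat
    simp
  | cons a w ih =>
    have ha : a.1 < D.nroots := hw a List.mem_cons_self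
    have hw' : ∀ b ∈ w, b.1 < D.nroots := fun b hb => hw b (List.mem_cons_of_mem _ hb)
    have e2 : D.wordMat K (a :: w) = D.x K a.1 a.2 * D.wordMat K w := by
      unfold ChevalleyDatum.wordMat
      rw [List.map_cons, List.prod_cons]
    rw [Cfsg.Agent.Lib.Helper47.St.word_cons, map_mul, Units.val_mul, M.hπ a.1 ha, ih hw', e2]

theorem tailInj (hD : D ∈ [chevG2, chevB2, chevD4, chevF4, chevE6, chevE7, chevE8]) (M : Model D K Γ) : TailInj M := by
  intro a ha t hmem
  obtain ⟨w, hw, hg⟩ := Cfsg.Agent.Lib.Helper47.St.exists_word_of_mem_sub M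
    (fun b => D.IsPosRoot b ∧ a < b) (fun r hr => hr.1.1) _ hmem
  have h1 : Cfsg.Agent.Lib.Helper18.xG hD a t = Cfsg.Agent.Lib.Helper18.wordG hD w := by
    apply Units.ext
    rw [Cfsg.Agent.Lib.Helper18.coe_xG, Cfsg.Agent.Lib.Helper18.coe_wordG, ← M.hπ a ha.1 t, hg,
      h46_coe_pi_word M w (fun b hb => (hw b hb).1.1)]
  exact Cfsg.Agent.Lib.Helper18.eq_zero_of_xG_eq_wordG hD (Cfsg.Agent.Lib.Helper18.lexOK_of_mem D hD)
    (Cfsg.Agent.Lib.Helper18.bezOK_of_mem D hD) a ha t w hw h1

end Cfsg.Agent.Lib.Helper46.St3
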