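import Mathlib
import Cfsg.Agent.Lib.Helper46.PFTenVFinal
import Cfsg.Agent.Lib.Helper31.PFCubeFinal

/-!
# PROJECT PF (10.10): no maximal subgroup of Type V (helper46) -- unconditional on the book data

`no_typeV_book hG bg pf8 : ∀ M, IsCoatom M → ¬ IsOfTypeV M`: all four inputs of `no_typeV` are on
main: (10.8) `Helper24.PFCyc.pf10_noncoherent_coatom`, (10.2)
`exists_coherenceSystem_of_typeIIItoV`, (a*) `Helper22.SibC.noResidualTI`, (c*)
`Helper31.PFCube.noResidualCube`.
-/

set_option autoImplicit false

namespace Cfsg.Agent.Lib.Helper46.PF10V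

open Cfsg Cfsg.Agent.Lib.Helper4.PF Cfsg.Agent.Lib.Helper24.PFCyc

universe u

variable {G : Type u} [Group G] [Fintype G]

/-- the residual case (c*) of (10.10) does not occur -/
theorem noResidualCube_book (hG : IsMinSimpleOddOrder G) (bg : BookBGData G)
    (pf8 : BookPF8Data G) : NoResidualCube G :=
  Cfsg.Agent.Lib.Helper31.PFCube.noResidualCube hG bg pf8
    (fun M _ hM h => pf10_noncoherent_coatom hG bg pf8 M hM h)

/-- **Peterfalvi (10.10)**: no maximal subgroup of a minimal simple group of odd order is of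
Type V. -/
theorem no_typeV_book (hG : IsMinSimpleOddOrder G) (bg : BookBGData G) (pf8 : BookPF8Data G) :
    ∀ M : Subgroup G, IsCoatom M → ¬ IsOfTypeV M :=
  no_typeV_of_cube hG bg pf8 (noResidualCube_book hG bg pf8)

end Cfsg.Agent.Lib.Helper46.PF10V
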