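import Mathlib
import Cfsg.Agent.Lib.Helper40.LieBound

/-!
# S2363 modules [PSP] and [PPLUS] (helper46, for helper40)

Pure arithmetic: the order bounds `g < p^(3k)`, `g^3 < p^(8k)` (`k = v_p(g)`) for the order formulas of
`PSp_{2m}(q)` / `PΩ_{2m+1}(q)` and `PΩ⁺_{2m}(q)`.
-/

set_option autoImplicit false

namespace Cfsg.Agent.Lib.Helper46.LieBound

open Cfsg.Agent.Lib.Helper40.LieBound

/-- `∏_{i<m} (q^(2(i+1)) - 1) < q^(m(m+1))` for `m ≥ 1` -/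
theorem prod_sq_sub_one_lt {q : ℕ} (hq : 1 ≤ q) :
    ∀ m : ℕ, 1 ≤ m → ∏ i ∈ Finset.range m, (q ^ (2 * (i + 1)) - 1) < q ^ (m * (m + 1)) := by
  intro m hm
  induction m, hm using Nat.le_induction with
  | base =>
    simp only [Finset.range_one, Finset.prod_singleton]
    exact pow_sub_one_lt hq _
  | succ m hm ih =>
    rw [Finset.prod_range_succ]
    have h2 : q ^ (2 * (m + 1)) - 1 < q ^ (2 * (m + 1)) := pow_sub_one_lt hq _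
    have h3 : (∏ i ∈ Finset.range m, (q ^ (2 * (i + 1)) - 1)) * (q ^ (2 * (m + 1)) - 1)
        < q ^ (m * (m + 1)) * q ^ (2 * (m + 1)) := Nat.mul_lt_mul'' ih h2
    calc _ < q ^ (m * (m + 1)) * q ^ (2 * (m + 1)) := h3
      _ = q ^ ((m + 1) * (m + 1 + 1)) := by rw [← pow_add]; congr 1; ring

/-- `∏_{i<m} (q^(2(i+1)) - 1) ≤ q^(m(m+1))` for all `m` -/
theorem prod_sq_sub_one_le {q : ℕ} (hq : 1 ≤ q) (m : ℕ) :
    ∏ i ∈ Finset.range m, (q ^ (2 * (i + 1)) - 1) ≤ q ^ (m * (m + 1)) := by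
  rcases Nat.eq_zero_or_pos m with h | h
  · subst h; simp
  · exact (prod_sq_sub_one_lt hq m h).le

/-- `p ∤ ∏_{i<m} (q^(2(i+1)) - 1)` -/
theorem not_dvd_prod_sq_sub_one {p f : ℕ} (hp : p.Prime) (hf : 1 ≤ f) (m : ℕ) :
    ¬ p ∣ ∏ i ∈ Finset.range m, ((p ^ f) ^ (2 * (i + 1)) - 1) :=
  not_dvd_prod hp _ _ (fun i _ => not_dvd_pow_sub_one hp hf (by omega))

/-- MODULE S2363-[PSP] -/
theorem psp_bound {p f q m d g : ℕ} (hp : p.Prime) (hf : 1 ≤ f) (hq : q = p ^ f) (hm : 2 ≤ m)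
    (hd : ¬ p ∣ d)
    (hg : d * g = q ^ (m ^ 2) * ∏ i ∈ Finset.range m, (q ^ (2 * (i + 1)) - 1)) :
    g < p ^ (3 * g.factorization p) ∧ g ^ 3 < p ^ (8 * g.factorization p) := by
  subst hq
  have hq1 : 1 ≤ p ^ f := Nat.one_le_pow _ _ hp.pos
  have hd0 : 1 ≤ d := Nat.pos_of_ne_zero (fun h => hd (h ▸ dvd_zero p))
  have hM := not_dvd_prod_sq_sub_one hp hf m
  have hlt := prod_sq_sub_one_lt hq1 m (by omega)
  have hMe : ∏ i ∈ Finset.range m, ((p ^ f) ^ (2 * (i + 1)) - 1) < d * (p ^ f) ^ (m * (m + 1)) :=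
    lt_of_lt_of_le hlt (Nat.le_mul_of_pos_left _ hd0)
  refine card_bounds (N := m ^ 2) (e := m * (m + 1)) hp hd hM hg hMe ?_ ?_
  · nlinarith
  · nlinarith

/-- MODULE S2363-[PPLUS] -/
theorem pplus_bound {p f q m g : ℕ} (hp : p.Prime) (hf : 1 ≤ f) (hq : q = p ^ f) (hm : 4 ≤ m)
    (hg : Nat.gcd 4 (q ^ m - 1) * g =
      q ^ (m * (m - 1)) * (q ^ m - 1) * ∏ i ∈ Finset.range (m - 1), (q ^ (2 * (i + 1)) - 1)) :
    g < p ^ (3 * g.factorization p) ∧ g ^ 3 < p ^ (8 * g.factorization p) := by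
  subst hq
  have hq1 : 1 ≤ p ^ f := Nat.one_le_pow _ _ hp.pos
  have hqm : ¬ p ∣ (p ^ f) ^ m - 1 := not_dvd_pow_sub_one hp hf (by omega)
  have hd : ¬ p ∣ Nat.gcd 4 ((p ^ f) ^ m - 1) := fun h => hqm (h.trans (Nat.gcd_dvd_right _ _))
  have hd0 : 1 ≤ Nat.gcd 4 ((p ^ f) ^ m - 1) :=
    Nat.pos_of_ne_zero (fun h => hd (h ▸ dvd_zero p))
  have hM1 := not_dvd_prod_sq_sub_one hp hf (m - 1)
  have hM : ¬ p ∣ ((p ^ f) ^ m - 1) *
      ∏ i ∈ Finset.range (m - 1), ((p ^ f) ^ (2 * (i + 1)) - 1) := by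
    intro h
    rcases (Nat.Prime.dvd_mul hp).mp h with h | h
    · exact hqm h
    · exact hM1 h
  have hg' : Nat.gcd 4 ((p ^ f) ^ m - 1) * g = (p ^ f) ^ (m * (m - 1)) *
      (((p ^ f) ^ m - 1) * ∏ i ∈ Finset.range (m - 1), ((p ^ f) ^ (2 * (i + 1)) - 1)) := by
    rw [hg, mul_assoc]
  have h1 : (p ^ f) ^ m - 1 < (p ^ f) ^ m := pow_sub_one_lt hq1 _
  have h2 := prod_sq_sub_one_lt hq1 (m - 1) (by omega)
  have hlt : ((p ^ f) ^ m - 1) * ∏ i ∈ Finset.range (m - 1), ((p ^ f) ^ (2 * (i + 1)) - 1)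
      < (p ^ f) ^ (m * m) := by
    calc _ < (p ^ f) ^ m * (p ^ f) ^ ((m - 1) * (m - 1 + 1)) := Nat.mul_lt_mul'' h1 h2
      _ = (p ^ f) ^ (m * m) := by
        rw [← pow_add]; congr 1
        obtain ⟨k, rfl⟩ : ∃ k, m = k + 1 := ⟨m - 1, by omega⟩
        simp only [Nat.add_sub_cancel]; ring
  have hMe : ((p ^ f) ^ m - 1) * ∏ i ∈ Finset.range (m - 1), ((p ^ f) ^ (2 * (i + 1)) - 1)
      < Nat.gcd 4 ((p ^ f) ^ m - 1) * (p ^ f) ^ (m * m) :=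
    lt_of_lt_of_le hlt (Nat.le_mul_of_pos_left _ hd0)
  obtain ⟨k, rfl⟩ : ∃ k, m = k + 4 := ⟨m - 4, by omega⟩
  refine card_bounds (N := (k + 4) * (k + 4 - 1)) (e := (k + 4) * (k + 4)) hp hd hM hg' hMe ?_ ?_
  · simp only [show k + 4 - 1 = k + 3 by omega]; nlinarith
  · simp only [show k + 4 - 1 = k + 3 by omega]; nlinarith

end Cfsg.Agent.Lib.Helper46.LieBound
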