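import Cfsg.Agent.Lib.Helper46.CosetGraph2
import Cfsg.Agent.Lib.Helper46.Ambient

set_option autoImplicit false

namespace Cfsg.Agent.Lib.Helper46

open Cfsg

variable {X : Type*} [Group X] {M₁ M₂ : Subgroup X} {p : ℕ}

/-! ### general transport helpers -/

theorem map_symm_map (A : Subgroup X) (φ : X ≃* X) :
    (A.map φ.toMonoidHom).map φ.symm.toMonoidHom = A := by
  ext x
  simp [Subgroup.mem_map]

theorem map_map_symm (A : Subgroup X) (φ : X ≃* X) :
    (A.map φ.symm.toMonoidHom).map φ.toMonoidHom = A := by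
  ext x
  simp [Subgroup.mem_map]

theorem map_conj_eq_self_of_mem {H : Subgroup X} {h : X} (hh : h ∈ H) :
    H.map (MulAut.conj h).toMonoidHom = H := by
  ext x
  simp only [Subgroup.mem_map, MulEquiv.coe_toMonoidHom, MulAut.conj_apply]
  constructor
  · rintro ⟨y, hy, rfl⟩
    exact H.mul_mem (H.mul_mem hh hy) (H.inv_mem hh)
  · intro hx
    exact ⟨h⁻¹ * x * h, H.mul_mem (H.mul_mem (H.inv_mem hh) hx) hh, by group⟩

theorem le_normalizer_of_map_conj_le (H N : Subgroup X)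
    (hmap : ∀ h ∈ H, N.map (MulAut.conj h).toMonoidHom ≤ N) :
    H ≤ Subgroup.normalizer (N : Set X) := by
  intro h hh
  rw [Subgroup.mem_normalizer_iff]
  intro n
  constructor
  · intro hn
    exact hmap h hh ⟨n, hn, rfl⟩
  · intro hn
    have := hmap h⁻¹ (H.inv_mem hh) ⟨_, hn, rfl⟩
    simpa [mul_assoc] using this

/-! ### vertex / edge properties by transport -/

theorem cg_vertex_prop (Φ : Subgroup X → Prop)
    (hΦ : ∀ (H : Subgroup X) (x : X), Φ H → Φ (H.map (MulAut.conj x).toMonoidHom))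
    (h1 : Φ M₁) (h2 : Φ M₂) (δ : CosetVertex M₁ M₂) : Φ (MulAction.stabilizer X δ) := by
  rcases cg_vertex_cases δ with ⟨x, rfl⟩ | ⟨x, rfl⟩
  · rw [cg_stab_inl]; exact hΦ _ _ h1
  · rw [cg_stab_inr]; exact hΦ _ _ h2

theorem cg_edge_prop (Ψ : Subgroup X → Subgroup X → Prop)
    (hΨ : ∀ (H K : Subgroup X) (x : X), Ψ H K →
      Ψ (H.map (MulAut.conj x).toMonoidHom) (K.map (MulAut.conj x).toMonoidHom))
    (h12 : Ψ M₁ M₂) (h21 : Ψ M₂ M₁) {δ μ : CosetVertex M₁ M₂}
    (hadj : (cosetGraph M₁ M₂).Adj δ μ) :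
    Ψ (MulAction.stabilizer X δ) (MulAction.stabilizer X μ) := by
  rw [cg_adj_iff] at hadj
  rcases hadj with ⟨x, rfl, rfl⟩ | ⟨x, rfl, rfl⟩
  · rw [cg_stab_inl, cg_stab_inr]; exact hΨ _ _ _ h12
  · rw [cg_stab_inl, cg_stab_inr]; exact hΨ _ _ _ h21

/-! ### base facts from `IsCharPAmalgamPair` -/

theorem isSylIn_of_card [Fact p.Prime] {T H : Subgroup X} [Finite H] (hTH : T ≤ H)
    (hcard : Nat.card T = p ^ (Nat.card H).factorization p) : IsSylIn p T H := by
  have h1 : Nat.card (T.subgroupOf H) = p ^ (Nat.card H).factorization p := by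
    rw [← hcard]
    exact Nat.card_congr (Subgroup.subgroupOfEquivOfLe hTH).toEquiv
  refine ⟨Sylow.ofCard (T.subgroupOf H) h1, ?_⟩
  rw [Sylow.coe_ofCard, Subgroup.map_subgroupOf_eq_of_le hTH]

theorem IsSylIn.card [Fact p.Prime] {T H : Subgroup X} [Finite H] (h : IsSylIn p T H) :
    Nat.card T = p ^ (Nat.card H).factorization p := by
  obtain ⟨S, rfl⟩ := h
  rw [← Sylow.card_eq_multiplicity S]
  exact Nat.card_congr (Subgroup.equivMapOfInjective _ _ H.subtype_injective).toEquiv.symm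

theorem base_syl [Fact p.Prime] (h : IsCharPAmalgamPair p M₁ M₂) (T : Subgroup X)
    (hT : IsSylIn p T (M₁ ⊓ M₂)) : IsSylIn p T M₁ ∧ IsSylIn p T M₂ := by
  obtain ⟨_, hf1, hf2, _, _, hsyl, _, _⟩ := h
  have hle := hT.le
  obtain ⟨S, rfl⟩ := hT
  have hc : Nat.card ((S : Subgroup ↥(M₁ ⊓ M₂)).map (M₁ ⊓ M₂).subtype) = Nat.card S :=
    Nat.card_congr (Subgroup.equivMapOfInjective _ _ (M₁ ⊓ M₂).subtype_injective).toEquiv.symm
  obtain ⟨P₁⟩ := (inferInstance : Nonempty (Sylow p M₁))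
  obtain ⟨P₂⟩ := (inferInstance : Nonempty (Sylow p M₂))
  obtain ⟨e1, e2⟩ := hsyl S P₁ P₂
  constructor
  · apply isSylIn_of_card (hle.trans inf_le_left)
    rw [hc, e1, Sylow.card_eq_multiplicity]
  · apply isSylIn_of_card (hle.trans inf_le_right)
    rw [hc, e2, Sylow.card_eq_multiplicity]

theorem base_charp_of {H : Subgroup X}
    (h : Subgroup.centralizer (pCore p H : Set H) ≤ pCore p H) :
    H ⊓ Subgroup.centralizer (pCoreOf p H : Set X) ≤ pCoreOf p H := by
  rintro x ⟨hxH, hxC⟩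
  have h1 : (⟨x, hxH⟩ : H) ∈ Subgroup.centralizer (pCore p H : Set H) := by
    rw [Subgroup.mem_centralizer_iff]
    intro y hy
    apply Subtype.ext
    have := (Subgroup.mem_centralizer_iff.mp hxC) (y : X) ⟨y, hy, rfl⟩
    simpa using this
  exact ⟨⟨x, hxH⟩, h h1, rfl⟩

/-- The ambient-level characteristic `p` property. -/
def CharPProp (p : ℕ) (H : Subgroup X) : Prop :=
  H ⊓ Subgroup.centralizer (pCoreOf p H : Set X) ≤ pCoreOf p H

theorem charPProp_map {H : Subgroup X} (h : CharPProp p H) (φ : X ≃* X) :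
    CharPProp p (H.map φ.toMonoidHom) := by
  unfold CharPProp at h ⊢
  rw [pCoreOf_map]
  rintro x ⟨⟨y, hy, rfl⟩, hxC⟩
  have hxC' : φ y ∈ Subgroup.centralizer ((pCoreOf p H).map φ.toMonoidHom : Set X) := hxC
  have hyC : y ∈ Subgroup.centralizer (pCoreOf p H : Set X) := by
    rw [Subgroup.mem_centralizer_iff]
    intro z hz
    have := (Subgroup.mem_centralizer_iff.mp hxC') (φ z) ⟨z, hz, rfl⟩
    apply φ.injective
    simpa using this
  exact ⟨y, h ⟨hy, hyC⟩, rfl⟩

/-- Sylow subgroups of `H ⊓ K` are Sylow in `H` and in `K`. -/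
def SylEdgeProp (p : ℕ) (H K : Subgroup X) : Prop :=
  ∀ T : Subgroup X, IsSylIn p T (H ⊓ K) → IsSylIn p T H ∧ IsSylIn p T K

theorem sylEdgeProp_map {H K : Subgroup X} (h : SylEdgeProp p H K) (φ : X ≃* X) :
    SylEdgeProp p (H.map φ.toMonoidHom) (K.map φ.toMonoidHom) := by
  intro T hT
  rw [← Subgroup.map_inf_eq _ _ _ φ.injective] at hT
  have h1 := hT.map φ.symm
  rw [map_symm_map] at h1
  obtain ⟨h2, h3⟩ := h _ h1
  have h4 := h2.map φ
  have h5 := h3.map φ
  rw [map_map_symm] at h4 h5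
  exact ⟨h4, h5⟩

theorem sylEdgeProp_symm {H K : Subgroup X} (h : SylEdgeProp p H K) : SylEdgeProp p K H := by
  intro T hT
  rw [inf_comm] at hT
  exact (h T hT).symm

section charp

variable [Fact p.Prime] (h : IsCharPAmalgamPair p M₁ M₂)
include h

omit [Fact p.Prime] in
theorem vertex_finite (δ : CosetVertex M₁ M₂) : Finite (MulAction.stabilizer X δ) := by
  obtain ⟨_, hf1, hf2, _⟩ := h
  refine cg_vertex_prop (fun H => Finite H) ?_ hf1 hf2 δ
  intro H x hH
  exact Finite.of_equiv H (Subgroup.equivMapOfInjective H _ (MulAut.conj x).injective).toEquiv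

omit [Fact p.Prime] in
theorem vertex_charp (δ : CosetVertex M₁ M₂) : CharPProp p (MulAction.stabilizer X δ) := by
  refine cg_vertex_prop (fun H => CharPProp p H) ?_ ?_ ?_ δ
  · intro H x hH
    exact charPProp_map hH _
  · exact base_charp_of h.2.2.2.2.2.2.1
  · exact base_charp_of h.2.2.2.2.2.2.2

theorem edge_syl {δ μ : CosetVertex M₁ M₂} (hadj : (cosetGraph M₁ M₂).Adj δ μ) :
    SylEdgeProp p (MulAction.stabilizer X δ) (MulAction.stabilizer X μ) := by
  refine cg_edge_prop (fun H K => SylEdgeProp p H K) ?_ ?_ ?_ hadj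
  · intro H K x hHK
    exact sylEdgeProp_map hHK _
  · exact fun T hT => base_syl h T hT
  · exact sylEdgeProp_symm (fun T hT => base_syl h T hT)

/-- S2746: `Q_δ ≤ G_δ^{(1)}`. -/
theorem vertexQ_le_neighbourKernel (δ : CosetVertex M₁ M₂) :
    vertexQ p δ ≤ neighbourKernel δ := by
  unfold neighbourKernel
  refine le_inf (pCoreOf_le _) ?_
  refine le_iInf₂ ?_
  intro μ hμ
  have hadj : (cosetGraph M₁ M₂).Adj δ μ := hμ
  obtain ⟨S⟩ := (inferInstance : Nonempty (Sylow p ↥(edgeStabilizer δ μ)))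
  have hT : IsSylIn p ((S : Subgroup ↥(edgeStabilizer δ μ)).map (edgeStabilizer δ μ).subtype)
      (edgeStabilizer δ μ) := ⟨S, rfl⟩
  have h1 := (edge_syl h hadj _ hT).1
  exact (pCoreOf_le_of_isSylIn h1).trans (hT.le.trans inf_le_right)

end charp

end Cfsg.Agent.Lib.Helper46
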