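import Mathlib
import Cfsg.Agent.Lib.Helper47.ShultFpp
import Cfsg.Agent.S0026

/-!
# The Frobenius fixed-point lemma (odd order form) used in BG 13.8 (AS)

`S P` acts on a `t`-group `T`; `S` a `q`-group, `|P| = p`, `C_S(P) = 1`; `t, q, p` distinct, `t, q` odd.
If `S` does not centralize `T`, then some `x ∈ C_T(P)` with `x ^ t = 1` is not centralized by `S`.  In
particular `C_T(P) ≠ 1` and `C_T(P) ≰ C_T(S)`.  This is a corollary of
`Helper47.shult_centralizes_core` (Lemma F'').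
-/

set_option autoImplicit false

namespace Cfsg.Agent.Lib.Helper46.BGAsymFrob

open scoped commutatorElement

variable {G : Type*} [Group G]

/-- `[S, P] = S` when `P` acts coprimely on `S` without nontrivial fixed points. -/
theorem commutator_eq_of_fix [Finite G] (S P : Subgroup G)
    (hPS : P ≤ Subgroup.normalizer (S : Set G))
    (hcop : (Nat.card P).Coprime (Nat.card S)) (hsolv : Group.IsSolvable P ∨ Group.IsSolvable S)
    (hfix : Subgroup.centralizer (P : Set G) ⊓ S = ⊥) : ⁅S, P⁆ = S := by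
  have h := Cfsg.Agent.S0026.result P S hPS hcop hsolv
  rw [inf_comm, hfix, sup_bot_eq] at h
  exact h

/-- A group of prime order is solvable. -/
theorem isSolvable_of_card_prime {P : Subgroup G} {p : ℕ} (hp : p.Prime) (hP : Nat.card P = p) :
    Group.IsSolvable P := by
  have : Fact p.Prime := ⟨hp⟩
  have hc : IsCyclic P := isCyclic_of_prime_card hP
  have hcomm : ∀ a b : P, a * b = b * a := isMulCommutative_iff.mp IsCyclic.isMulCommutative
  exact Group.isSolvable_of_comm hcomm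

/-- `[S, P] = S` for `S` a `q`-group, `|P| = p ≠ q`, `C_S(P) = 1`. -/
theorem commutator_eq_of_fix_prime [Finite G] {q p : ℕ} (hq : q.Prime) (hp : p.Prime) (hqp : q ≠ p)
    (S P : Subgroup G) (hS : IsPGroup q S) (hP : Nat.card P = p)
    (hPS : P ≤ Subgroup.normalizer (S : Set G))
    (hfix : Subgroup.centralizer (P : Set G) ⊓ S = ⊥) : ⁅S, P⁆ = S := by
  have : Fact q.Prime := ⟨hq⟩
  apply commutator_eq_of_fix S P hPS _ (Or.inl (isSolvable_of_card_prime hp hP)) hfix
  obtain ⟨k, hk⟩ := IsPGroup.iff_card.mp hS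
  rw [hP, hk]
  apply Nat.Coprime.pow_right
  exact (Nat.coprime_primes hp hq).mpr (Ne.symm hqp)

/-- **Frobenius fixed-point lemma**, strong form. -/
theorem frob_fix [Finite G] {t q p : ℕ} (ht : t.Prime) (hq : q.Prime) (hp : p.Prime)
    (ht2 : t ≠ 2) (hq2 : q ≠ 2) (htq : t ≠ q) (htp : t ≠ p) (hqp : q ≠ p)
    (T S P : Subgroup G) (hT : IsPGroup t T) (hS : IsPGroup q S) (hP : Nat.card P = p)
    (hPS : P ≤ Subgroup.normalizer (S : Set G)) (hST : S ≤ Subgroup.normalizer (T : Set G))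
    (hPT : P ≤ Subgroup.normalizer (T : Set G))
    (hfix : Subgroup.centralizer (P : Set G) ⊓ S = ⊥)
    (hTS : ¬ S ≤ Subgroup.centralizer (T : Set G)) :
    ∃ x ∈ T ⊓ Subgroup.centralizer (P : Set G), x ^ t = 1 ∧
      x ∉ Subgroup.centralizer (S : Set G) := by
  by_contra hcon
  push Not at hcon
  have hSP : ⁅S, P⁆ = S := commutator_eq_of_fix_prime hq hp hqp S P hS hP hPS hfix
  exact hTS (Cfsg.Agent.Lib.Helper47.shult_centralizes_core ht hq hp ht2 hq2 htq htp hqp T S P hT hS hP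
    hPS hST hPT hSP hcon)

/-- Weak form: `C_T(P) ≠ 1`. -/
theorem frob_fix_ne_bot [Finite G] {t q p : ℕ} (ht : t.Prime) (hq : q.Prime) (hp : p.Prime)
    (ht2 : t ≠ 2) (hq2 : q ≠ 2) (htq : t ≠ q) (htp : t ≠ p) (hqp : q ≠ p)
    (T S P : Subgroup G) (hT : IsPGroup t T) (hS : IsPGroup q S) (hP : Nat.card P = p)
    (hPS : P ≤ Subgroup.normalizer (S : Set G)) (hST : S ≤ Subgroup.normalizer (T : Set G))
    (hPT : P ≤ Subgroup.normalizer (T : Set G))
    (hfix : Subgroup.centralizer (P : Set G) ⊓ S = ⊥)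
    (hTS : ¬ S ≤ Subgroup.centralizer (T : Set G)) :
    T ⊓ Subgroup.centralizer (P : Set G) ≠ ⊥ := by
  obtain ⟨x, hx, -, hxS⟩ := frob_fix ht hq hp ht2 hq2 htq htp hqp T S P hT hS hP hPS hST hPT hfix hTS
  intro h
  rw [h, Subgroup.mem_bot] at hx
  exact hxS (hx ▸ Subgroup.one_mem _)

end Cfsg.Agent.Lib.Helper46.BGAsymFrob
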