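import Mathlib
import Cfsg.Agent.Lib.Helper76.PCore

/-!
# Two pure group-theoretic modules for (AS) / BG 13.8

* `not_dvd_relIndex_of_control` (Step 1): `R₀` a Sylow `r`-subgroup of `W ≤ C`; if every `r`-subgroup
  `D` of `N_C(R₀)` containing `R₀` lies in `W`, then `R₀` is a Sylow `r`-subgroup of `C`.
* `exists_factor_of_mem_centralizer` (Step 3): `P` a `p`-subgroup of `I` normalizing `B`,
  `p ∤ |B ∩ I|`.  Every `x ∈ C_G(P)` of the form `b i` (`b ∈ B`, `i ∈ I`) is `b' i'` with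
  `b' ∈ C_B(P)`, `i' ∈ C_I(P)`.
* `dvd_card_inf_centralizer` : consequently a prime `t ∤ |B|` dividing `|C_{BI}(P)|` divides `|C_I(P)|`.
-/

set_option autoImplicit false

namespace Cfsg.Agent.Lib.Helper46.BGAsymLift

variable {G : Type*} [Group G]

/-- **Step 1 of (AS).** -/
theorem not_dvd_relIndex_of_control [Finite G] {r : ℕ} [Fact r.Prime] (C W R₀ : Subgroup G)
    (hWC : W ≤ C) (hR₀W : R₀ ≤ W) (hR₀ : IsPGroup r R₀) (hidx : ¬ r ∣ R₀.relIndex W)
    (hctl : ∀ D : Subgroup G, IsPGroup r D → R₀ ≤ D → D ≤ C →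
      D ≤ Subgroup.normalizer (R₀ : Set G) → D ≤ W) :
    ¬ r ∣ R₀.relIndex C := by
  have hr : r.Prime := Fact.out
  have hR₀C : R₀ ≤ C := hR₀W.trans hWC
  have hR₀' : IsPGroup r (R₀.subgroupOf C) := hR₀.comap_subtype
  obtain ⟨R₁, hR₁⟩ := hR₀'.exists_le_sylow
  set R : Subgroup G := (R₁ : Subgroup C).map C.subtype with hR
  have hRr : IsPGroup r R := R₁.2.map _
  have hRC : R ≤ C := Subgroup.map_subtype_le _
  have hR₀R : R₀ ≤ R := by
    intro x hx
    exact ⟨⟨x, hR₀C hx⟩, hR₁ (Subgroup.mem_subgroupOf.mpr hx), rfl⟩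
  by_cases heq : R ≤ R₀
  · -- `R₀ = R` is a Sylow subgroup of `C`
    have hRR₀ : R = R₀ := le_antisymm heq hR₀R
    have h1 : R₀.subgroupOf C = (R₁ : Subgroup C) := by
      rw [← hRR₀, hR]
      exact Subgroup.comap_map_eq_self_of_injective C.subtype_injective _
    show ¬ r ∣ (R₀.subgroupOf C).index
    rw [h1]
    exact R₁.not_dvd_index
  · exfalso
    -- `R₀ < R`: the normalizer grows
    have hnil : Group.IsNilpotent R := hRr.isNilpotent
    have hNC := Group.normalizerCondition_of_isNilpotent (G := R)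
    have hlt : R₀.subgroupOf R < ⊤ := by
      rw [lt_top_iff_ne_top]
      intro h
      exact heq (Subgroup.subgroupOf_eq_top.mp h)
    have hlt2 := hNC _ hlt
    obtain ⟨x, hxN, hxR₀⟩ := SetLike.exists_of_lt hlt2
    rw [← Subgroup.subgroupOf_normalizer_eq hR₀R] at hxN
    -- `D = N_R(R₀)`
    set D : Subgroup G := R ⊓ Subgroup.normalizer (R₀ : Set G) with hD
    have hDr : IsPGroup r D := hRr.to_le inf_le_left
    have hR₀D : R₀ ≤ D := le_inf hR₀R Subgroup.le_normalizer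
    have hDW : D ≤ W := hctl D hDr hR₀D (inf_le_left.trans hRC) inf_le_right
    have hxD : (x : G) ∈ D := ⟨x.2, Subgroup.mem_subgroupOf.mp hxN⟩
    -- `R₀` is Sylow in `W`, so `D = R₀`
    have h2 : R₀.relIndex D * D.relIndex W = R₀.relIndex W :=
      Subgroup.relIndex_mul_relIndex R₀ D W hR₀D hDW
    have h3 : ¬ r ∣ R₀.relIndex D := fun h => hidx (h2 ▸ Dvd.dvd.mul_right h _)
    have h4 : R₀.relIndex D = 1 := by
      have hcard : Nat.card R₀ * R₀.relIndex D = Nat.card D := by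
        have := Subgroup.card_mul_index (R₀.subgroupOf D)
        rwa [Nat.card_congr (Subgroup.subgroupOfEquivOfLe hR₀D).toEquiv] at this
      obtain ⟨k, hk⟩ := IsPGroup.iff_card.mp hDr
      have hdvd : R₀.relIndex D ∣ r ^ k := hk ▸ Dvd.intro_left _ hcard
      obtain ⟨j, -, hj⟩ := (Nat.dvd_prime_pow hr).mp hdvd
      rcases Nat.eq_zero_or_pos j with h0 | hpos
      · rw [hj, h0, pow_zero]
      · exfalso
        apply h3
        rw [hj]
        exact dvd_pow_self r (Nat.pos_iff_ne_zero.mp hpos)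
    have h5 : D ≤ R₀ := Subgroup.relIndex_eq_one.mp h4
    exact hxR₀ (Subgroup.mem_subgroupOf.mpr (h5 hxD))

/-- **Step 3 of (AS)**: lifting fixed points through `B I → I / (B ∩ I)`. -/
theorem exists_factor_of_mem_centralizer [Finite G] {p : ℕ} [Fact p.Prime] (B I P : Subgroup G)
    (hP : IsPGroup p P) (hPI : P ≤ I) (hPB : P ≤ Subgroup.normalizer (B : Set G))
    (hpB : ¬ p ∣ Nat.card (B ⊓ I : Subgroup G))
    (x : G) (hx : x ∈ Subgroup.centralizer (P : Set G)) (b i : G) (hb : b ∈ B) (hi : i ∈ I)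
    (hxbi : x = b * i) :
    ∃ b' ∈ B ⊓ Subgroup.centralizer (P : Set G), ∃ i' ∈ I ⊓ Subgroup.centralizer (P : Set G),
      x = b' * i' := by
  have hi_inv : i⁻¹ = x⁻¹ * b := by rw [hxbi]; group
  have hix : i * x⁻¹ = b⁻¹ := by rw [hxbi]; group
  -- the set `Ω = B x ∩ I` with the conjugation action of `P`
  let Ω : Type _ := {c : G // c ∈ I ∧ c * x⁻¹ ∈ B}
  have hcomm : ∀ a ∈ P, a * x = x * a := fun a ha =>
    ((Subgroup.mem_centralizer_iff.mp hx) a ha)
  have hcomm' : ∀ a ∈ P, a * x⁻¹ = x⁻¹ * a := by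
    intro a ha
    have h := hcomm a ha
    calc a * x⁻¹ = x⁻¹ * (x * a) * x⁻¹ := by group
      _ = x⁻¹ * (a * x) * x⁻¹ := by rw [h]
      _ = x⁻¹ * a := by group
  have hact : ∀ (a : P) (c : Ω), (a : G) * c.1 * (a : G)⁻¹ ∈ I ∧
      (a : G) * c.1 * (a : G)⁻¹ * x⁻¹ ∈ B := by
    intro a c
    refine ⟨I.mul_mem (I.mul_mem (hPI a.2) c.2.1) (I.inv_mem (hPI a.2)), ?_⟩
    have h1 : (a : G) * c.1 * (a : G)⁻¹ * x⁻¹ = (a : G) * (c.1 * x⁻¹) * (a : G)⁻¹ := by
      have h2 : (a : G)⁻¹ * x⁻¹ = x⁻¹ * (a : G)⁻¹ := (hcomm' _ (P.inv_mem a.2))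
      calc (a : G) * c.1 * (a : G)⁻¹ * x⁻¹ = (a : G) * c.1 * ((a : G)⁻¹ * x⁻¹) := by group
        _ = (a : G) * c.1 * (x⁻¹ * (a : G)⁻¹) := by rw [h2]
        _ = (a : G) * (c.1 * x⁻¹) * (a : G)⁻¹ := by group
    rw [h1]
    exact (Subgroup.mem_normalizer_iff.mp (hPB a.2) _).mp c.2.2
  let inst : MulAction P Ω :=
    { smul := fun a c => ⟨(a : G) * c.1 * (a : G)⁻¹, hact a c⟩
      one_smul := fun c => Subtype.ext (by show ((1 : P) : G) * c.1 * ((1 : P) : G)⁻¹ = c.1; simp)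
      mul_smul := fun a a' c => Subtype.ext (by
        show ((a * a' : P) : G) * c.1 * ((a * a' : P) : G)⁻¹ =
          (a : G) * ((a' : G) * c.1 * (a' : G)⁻¹) * (a : G)⁻¹
        rw [Subgroup.coe_mul]; group) }
  -- `|Ω| = |B ∩ I|`
  have hcard : Nat.card Ω = Nat.card (B ⊓ I : Subgroup G) := by
    apply Nat.card_congr
    exact {
      toFun := fun c => ⟨c.1 * i⁻¹, by
        refine ⟨?_, I.mul_mem c.2.1 (I.inv_mem hi)⟩
        have h1 : c.1 * i⁻¹ = c.1 * x⁻¹ * b := by rw [hi_inv]; group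
        rw [h1]
        exact B.mul_mem c.2.2 hb⟩
      invFun := fun d => ⟨d.1 * i, by
        refine ⟨I.mul_mem d.2.2 hi, ?_⟩
        have h1 : d.1 * i * x⁻¹ = d.1 * b⁻¹ := by rw [mul_assoc, hix]
        rw [h1]
        exact B.mul_mem d.2.1 (B.inv_mem hb)⟩
      left_inv := fun c => Subtype.ext (by simp)
      right_inv := fun d => Subtype.ext (by simp) }
  have hfin : Finite Ω := by
    apply Nat.finite_of_card_ne_zero
    rw [hcard]
    exact Nat.card_pos.ne'
  have hnd : ¬ p ∣ Nat.card Ω := by rw [hcard]; exact hpB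
  obtain ⟨c, hc⟩ := hP.nonempty_fixed_point_of_prime_not_dvd_card Ω hnd
  have hcfix : ∀ a ∈ P, a * c.1 * a⁻¹ = c.1 := by
    intro a ha
    have h1 := hc ⟨a, ha⟩
    exact congrArg Subtype.val h1
  have hcC : c.1 ∈ Subgroup.centralizer (P : Set G) := by
    rw [Subgroup.mem_centralizer_iff]
    intro a ha
    have h1 := hcfix a ha
    calc a * c.1 = (a * c.1 * a⁻¹) * a := by group
      _ = c.1 * a := by rw [h1]
  refine ⟨x * c.1⁻¹, ⟨?_, ?_⟩, c.1, ⟨c.2.1, hcC⟩, by group⟩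
  · have h1 : x * c.1⁻¹ = (c.1 * x⁻¹)⁻¹ := by group
    rw [h1]
    exact B.inv_mem c.2.2
  · exact Subgroup.mul_mem _ hx (Subgroup.inv_mem _ hcC)

/-- Order consequence of `exists_factor_of_mem_centralizer`. -/
theorem dvd_card_inf_centralizer [Finite G] {p t : ℕ} [Fact p.Prime] (ht : t.Prime)
    (B I P : Subgroup G) (hIB : I ≤ Subgroup.normalizer (B : Set G))
    (hP : IsPGroup p P) (hPI : P ≤ I) (hpB : ¬ p ∣ Nat.card (B ⊓ I : Subgroup G))
    (htB : ¬ t ∣ Nat.card B)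
    (htM : t ∣ Nat.card ((B ⊔ I) ⊓ Subgroup.centralizer (P : Set G) : Subgroup G)) :
    t ∣ Nat.card (I ⊓ Subgroup.centralizer (P : Set G) : Subgroup G) := by
  set CB : Subgroup G := B ⊓ Subgroup.centralizer (P : Set G) with hCB
  set CI : Subgroup G := I ⊓ Subgroup.centralizer (P : Set G) with hCI
  have hPB : P ≤ Subgroup.normalizer (B : Set G) := hPI.trans hIB
  have hle : (B ⊔ I) ⊓ Subgroup.centralizer (P : Set G) ≤ CB ⊔ CI := by
    rintro x ⟨hxM, hxC⟩
    have h1 : x ∈ ((B ⊔ I : Subgroup G) : Set G) := hxM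
    rw [Subgroup.coe_mul_of_right_le_normalizer_left B I hIB] at h1
    obtain ⟨b, hb, i, hi, hbi⟩ := Set.mem_mul.mp h1
    obtain ⟨b', hb', i', hi', rfl⟩ :=
      exists_factor_of_mem_centralizer B I P hP hPI hPB hpB x hxC b i hb hi hbi.symm
    exact Subgroup.mul_mem_sup hb' hi'
  -- `CI` normalizes `CB`
  have hnorm : CI ≤ Subgroup.normalizer (CB : Set G) := by
    intro y hy
    rw [Subgroup.mem_normalizer_iff]
    intro z
    have hyB := hIB hy.1
    have hyC : y ∈ Subgroup.normalizer ((Subgroup.centralizer (P : Set G) : Subgroup G) : Set G) :=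
      Subgroup.le_normalizer hy.2
    constructor
    · rintro ⟨hz1, hz2⟩
      exact ⟨(Subgroup.mem_normalizer_iff.mp hyB z).mp hz1,
        (Subgroup.mem_normalizer_iff.mp hyC z).mp hz2⟩
    · rintro ⟨hz1, hz2⟩
      exact ⟨(Subgroup.mem_normalizer_iff.mp hyB z).mpr hz1,
        (Subgroup.mem_normalizer_iff.mp hyC z).mpr hz2⟩
  -- `|CB ⊔ CI|` divides `|CB| |CI|`
  have hdvd : Nat.card (CB ⊔ CI : Subgroup G) ∣ Nat.card CB * Nat.card CI := by
    set K : Subgroup G := CB ⊔ CI with hK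
    have hKn : K ≤ Subgroup.normalizer (CB : Set G) := sup_le Subgroup.le_normalizer hnorm
    have hn : (CB.subgroupOf K).Normal := Subgroup.normal_subgroupOf_of_le_normalizer hKn
    have h1 := Cfsg.Agent.Lib.Helper76.card_sup_dvd_of_normal (CI.subgroupOf K) (CB.subgroupOf K)
    have h2 : CI.subgroupOf K ⊔ CB.subgroupOf K = ⊤ := by
      rw [← Subgroup.subgroupOf_sup le_sup_right le_sup_left, sup_comm]
      exact Subgroup.subgroupOf_self K
    rw [h2, Subgroup.card_top,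
      Nat.card_congr (Subgroup.subgroupOfEquivOfLe (le_sup_right : CI ≤ K)).toEquiv,
      Nat.card_congr (Subgroup.subgroupOfEquivOfLe (le_sup_left : CB ≤ K)).toEquiv, mul_comm] at h1
    exact h1
  have h3 : t ∣ Nat.card CB * Nat.card CI :=
    (htM.trans (Subgroup.card_dvd_of_le hle)).trans hdvd
  rcases ht.dvd_mul.mp h3 with h | h
  · exact absurd (h.trans (Subgroup.card_dvd_of_le inf_le_left)) htB
  · exact h

end Cfsg.Agent.Lib.Helper46.BGAsymLift
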