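import Mathlib
import Cfsg.Agent.Lib.Helper54.BGTwelveSeventeenD
import Cfsg.Agent.Lib.Helper54.BGElevenB
import Cfsg.Agent.Lib.Helper24.SigmaEmbed
import Cfsg.Agent.Lib.Helper24.SigmaConj
import Cfsg.Agent.Lib.Helper68.BGElevenInst
import Cfsg.Agent.Lib.Helper46.BGAsymFrob
import Cfsg.Agent.S1405
import Cfsg.Agent.S1414

/-!
# Bender–Glauberman 13.8, special case (AS): step (0)

Setting of (AS): `M`, `L` maximal and not conjugate, `S` a Sylow `q`-subgroup of `G` with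
`N_G(S) ≤ M ∩ L`, `P ≤ N_G(S)` of prime order `p ≠ q` with `C_S(P) = 1`.

* (`BGAsymFrob.commutator_eq_of_fix_prime` : `[S, P] = S`.)
* `facts` : `S ≠ 1`, `q ∈ σ(M) ∩ σ(L)`, `q ∉ α(M) ∪ α(L)`, `β(M) ∩ β(L) = ∅`.
* `embed` : the conclusions of BG 12.17(d1) (`Helper54.sigma_embedding_d1`) for `(M, L, S)`.
* `inf_le_normalizer` : `M ∩ L ≤ N_G(S)` (hence `M ∩ L = N_G(S)`).
* `inf_betaCore_le_centralizer` : `M ∩ L ∩ M_β ≤ C_G(S)`.
-/

set_option autoImplicit false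

namespace Cfsg.Agent.Lib.Helper46.BGAsymZero

open Cfsg
open scoped Pointwise commutatorElement
open Cfsg.Agent.Lib.Helper34 (UniquenessThm)

universe u

/-- If `P` is a Sylow `q`-subgroup of `X` lying in `X'` and `(X/N)'` is nilpotent, then `P N` is normal
in `X` (extracted from `Helper24.normalizer_sup_eq_top_of_nilpotent_commutator_quotient`). -/
theorem sup_normal_of_nilpotent_commutator_quotient {X : Type u} [Group X] [Finite X]
    (N : Subgroup X) [N.Normal] (q : ℕ) [Fact q.Prime] (P : Sylow q X)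
    (hP : (P : Subgroup X) ≤ commutator X)
    (hnil : Group.IsNilpotent ↥(commutator (X ⧸ N))) :
    ((P : Subgroup X) ⊔ N).Normal := by
  have hsurj : Function.Surjective (QuotientGroup.mk' N) := QuotientGroup.mk'_surjective N
  set Pb : Subgroup (X ⧸ N) := (P : Subgroup X).map (QuotientGroup.mk' N) with hPb
  have hPbq : IsPGroup q Pb := P.2.map _
  have hPbC : Pb ≤ commutator (X ⧸ N) := by
    refine (Subgroup.map_mono hP).trans ?_
    rw [commutator_def, Subgroup.map_commutator, commutator_def]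
    exact Subgroup.commutator_mono le_top le_top
  have hidx : ¬ q ∣ Pb.index := fun h =>
    P.not_dvd_index (h.trans (Subgroup.index_map_dvd _ hsurj))
  have hPbn : Pb.Normal := by
    apply Cfsg.Agent.Lib.Helper24.normal_of_hall_le_nilpotent (commutator (X ⧸ N)) Pb hnil hPbC
    obtain ⟨k, hk⟩ := IsPGroup.iff_card.mp hPbq
    rw [hk]
    apply Nat.Coprime.pow_left
    rw [Nat.Prime.coprime_iff_not_dvd Fact.out]
    intro h
    exact hidx (h.trans (Subgroup.relIndex_dvd_index_of_le hPbC))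
  have hKn : (Pb.comap (QuotientGroup.mk' N)).Normal := hPbn.comap _
  have hKeq : Pb.comap (QuotientGroup.mk' N) = (P : Subgroup X) ⊔ N := by
    rw [hPb, Subgroup.comap_map_eq, QuotientGroup.ker_mk']
  rw [← hKeq]
  exact hKn

variable {G : Type u} [Group G]

/-- Ambient form: if `S ≤ M'` is a Sylow `q`-subgroup of `M` and `(M / O_π(M))'` is nilpotent, then `M`
normalizes `S O_π(M)`. -/
theorem le_normalizer_sup_piCoreOf [Finite G] (M : Subgroup G) (π : Set ℕ) (q : ℕ) [Fact q.Prime]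
    (S : Subgroup G) (hSM : S ≤ M) (hSq : IsPGroup q S) (hSidx : ¬ q ∣ S.relIndex M)
    (hSc : S ≤ ⁅M, M⁆)
    (hnil : Group.IsNilpotent ↥(commutator (↥M ⧸ piCore π ↥M))) :
    M ≤ Subgroup.normalizer ((S ⊔ piCoreOf π M : Subgroup G) : Set G) := by
  have hSq' : IsPGroup q (S.subgroupOf M) := hSq.comap_subtype
  set P : Sylow q ↥M := hSq'.toSylow hSidx with hPdef
  have hPc : (P : Subgroup ↥M) = S.subgroupOf M := IsPGroup.toSylow_coe _ _
  have hPcomm : (P : Subgroup ↥M) ≤ commutator ↥M := by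
    rw [hPc]
    intro x hx
    have hx' : (x : G) ∈ ⁅M, M⁆ := hSc (Subgroup.mem_subgroupOf.mp hx)
    rw [← Subgroup.map_subtype_commutator M] at hx'
    obtain ⟨y, hy, hyx⟩ := hx'
    have : y = x := Subtype.ext hyx
    rwa [← this]
  have hn := sup_normal_of_nilpotent_commutator_quotient (piCore π ↥M) q P hPcomm hnil
  have h1 := @Cfsg.Agent.Lib.Helper54.le_normalizer_map_subtype G _ M
    ((P : Subgroup ↥M) ⊔ piCore π ↥M) hn
  have h2 : ((P : Subgroup ↥M) ⊔ piCore π ↥M).map M.subtype = S ⊔ piCoreOf π M := by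
    rw [Subgroup.map_sup, hPc, Subgroup.map_subgroupOf_eq_of_le hSM]
    rfl
  rwa [h2] at h1

/-- `S ≤ K₁ ∩ K₂`, `|K₁| ∣ |S| a`, `|K₂| ∣ |S| b`, `(a, b) = 1` imply `K₁ ∩ K₂ = S`. -/
theorem inf_eq_of_coprime [Finite G] (S K₁ K₂ : Subgroup G) (a b : ℕ) (h₁ : S ≤ K₁) (h₂ : S ≤ K₂)
    (hc₁ : Nat.card K₁ ∣ Nat.card S * a) (hc₂ : Nat.card K₂ ∣ Nat.card S * b)
    (hab : Nat.Coprime a b) : K₁ ⊓ K₂ = S := by
  have hle : S ≤ K₁ ⊓ K₂ := le_inf h₁ h₂
  have hd : Nat.card (K₁ ⊓ K₂ : Subgroup G) ∣ Nat.card S := by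
    have d1 : Nat.card (K₁ ⊓ K₂ : Subgroup G) ∣ Nat.card S * a :=
      (Subgroup.card_dvd_of_le inf_le_left).trans hc₁
    have d2 : Nat.card (K₁ ⊓ K₂ : Subgroup G) ∣ Nat.card S * b :=
      (Subgroup.card_dvd_of_le inf_le_right).trans hc₂
    have d3 := Nat.dvd_gcd d1 d2
    rwa [Nat.gcd_mul_left, hab.gcd_eq_one, mul_one] at d3
  exact (Subgroup.eq_of_le_of_card_ge hle (Nat.le_of_dvd Nat.card_pos hd)).symm

/-- Swap the roles in the non-conjugacy hypothesis. -/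
theorem nc_symm {M L : Subgroup G} (hnc : ∀ g : G, MulAut.conj g • L ≠ M) :
    ∀ g : G, MulAut.conj g • M ≠ L := by
  intro g hg
  apply hnc g⁻¹
  rw [← hg, ← mul_smul, ← map_mul, inv_mul_cancel, map_one, one_smul]

/-- Basic facts in the setting of (AS). -/
theorem facts [Finite G] (hG : IsMinSimpleOddOrder G)
    (M L : Subgroup G) (hM : IsCoatom M) (hL : IsCoatom L)
    (hnc : ∀ g : G, MulAut.conj g • L ≠ M)
    (q : ℕ) [Fact q.Prime] (S : Sylow q G)
    (hN : Subgroup.normalizer ((S : Subgroup G) : Set G) ≤ M ⊓ L) :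
    (S : Subgroup G) ≠ ⊥ ∧ (S : Subgroup G) ≤ M ∧ (S : Subgroup G) ≤ L ∧
      ¬ q ∣ (S : Subgroup G).relIndex M ∧ ¬ q ∣ (S : Subgroup G).relIndex L ∧
      q ∈ sigma M ∧ q ∈ sigma L ∧ q ∉ alpha M ∧ q ∉ alpha L ∧
      (∀ t : ℕ, t ∈ beta M → t ∉ beta L) := by
  have hU : UniquenessThm G := Cfsg.Agent.Lib.Helper68.uniquenessThm_result hG
  have hSM : (S : Subgroup G) ≤ M := Subgroup.le_normalizer.trans (hN.trans inf_le_left)
  have hSL : (S : Subgroup G) ≤ L := Subgroup.le_normalizer.trans (hN.trans inf_le_right)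
  have hS1 : (S : Subgroup G) ≠ ⊥ := by
    intro h
    rw [h] at hN
    have h1 : Subgroup.normalizer (((⊥ : Subgroup G)) : Set G) = ⊤ :=
      Subgroup.normalizer_eq_top (⊥ : Subgroup G)
    rw [h1] at hN
    exact hM.1 (top_le_iff.mp (hN.trans inf_le_left))
  have hidxM : ¬ q ∣ (S : Subgroup G).relIndex M := fun h =>
    S.not_dvd_index (h.trans (Subgroup.relIndex_dvd_index_of_le hSM))
  have hidxL : ¬ q ∣ (S : Subgroup G).relIndex L := fun h =>
    S.not_dvd_index (h.trans (Subgroup.relIndex_dvd_index_of_le hSL))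
  have hqS : q ∣ Nat.card (S : Subgroup G) :=
    Cfsg.Agent.Lib.Helper34.dvd_card_of_isPGroup_ne_bot S.2 hS1
  have hσ : ∀ K : Subgroup G, (S : Subgroup G) ≤ K →
      Subgroup.normalizer ((S : Subgroup G) : Set G) ≤ K → q ∈ sigma K := by
    intro K hSK hNK
    refine ⟨Fact.out, hqS.trans (Subgroup.card_dvd_of_le hSK), S.subtype hSK, ?_⟩
    rw [Sylow.coe_subtype, Subgroup.map_subgroupOf_eq_of_le hSK]
    exact hNK
  have hqM : q ∈ sigma M := hσ M hSM (hN.trans inf_le_left)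
  have hqL : q ∈ sigma L := hσ L hSL (hN.trans inf_le_right)
  have hd1 := (Cfsg.Agent.Lib.Helper54.sigma_disjoint hG hU M L hM hL (nc_symm hnc)).1.1
  have hd2 := (Cfsg.Agent.Lib.Helper54.sigma_disjoint hG hU L M hL hM hnc).1.1
  have h05L := Cfsg.Agent.S1405.result hG L hL
  refine ⟨hS1, hSM, hSL, hidxM, hidxL, hqM, hqL, fun h => hd1 q h hqL, fun h => hd2 q h hqM, ?_⟩
  intro t htM htL
  exact hd1 t htM.1 (Cfsg.Agent.Lib.Helper68.mem_sigma_of_mem_alpha h05L.1 h05L.2.2.1 htL.1)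

/-- BG 12.17(d1) in the setting of (AS). -/
theorem embed [Finite G] (hG : IsMinSimpleOddOrder G)
    (M L : Subgroup G) (hM : IsCoatom M) (hL : IsCoatom L)
    (hnc : ∀ g : G, MulAut.conj g • L ≠ M)
    (q : ℕ) [Fact q.Prime] (S : Sylow q G)
    (hN : Subgroup.normalizer ((S : Subgroup G) : Set G) ≤ M ⊓ L) :
    (L = piCoreOf (beta L) L ⊔ (M ⊓ L) ∧ M = piCoreOf (beta M) M ⊔ (M ⊓ L)) ∧
      ((∀ t : ℕ, t.Prime → t ∣ (M ⊓ L).relIndex L → t ∈ beta L) ∧
        ∀ t : ℕ, t.Prime → t ∣ (M ⊓ L).relIndex M → t ∈ beta M) ∧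
      (tau1 L ⊆ tau1 M ∪ alpha M ∧ tau1 M ⊆ tau1 L ∪ alpha L) ∧
      (alphaCore M ≠ ⊥ ∧ alpha M = beta M ∧ alphaCore L ≠ ⊥ ∧ alpha L = beta L) := by
  have hU : UniquenessThm G := Cfsg.Agent.Lib.Helper68.uniquenessThm_result hG
  obtain ⟨-, hSM, hSL, -, hidxL, hqM, hqL, -, -, -⟩ := facts hG M L hM hL hnc q S hN
  exact Cfsg.Agent.Lib.Helper54.sigma_embedding_d1 hG hU M L hM hL hnc
    (Cfsg.Agent.Lib.Helper54.betaHall_of_s1414 (Cfsg.Agent.S1414.result hG M hM))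
    (Cfsg.Agent.Lib.Helper54.betaHall_of_s1414 (Cfsg.Agent.S1414.result hG L hL))
    q hqM hqL S S.2 hSM hSL hidxL

/-- `|S O_β(M)|` divides `|S| |O_β(M)|`. -/
theorem card_sup_piCoreOf_dvd [Finite G] (M : Subgroup G) (π : Set ℕ) (S : Subgroup G)
    (hSM : S ≤ M) :
    Nat.card (S ⊔ piCoreOf π M : Subgroup G) ∣ Nat.card S * Nat.card (piCoreOf π M) := by
  have hSn : S ≤ Subgroup.normalizer ((piCoreOf π M : Subgroup G) : Set G) :=
    hSM.trans (Cfsg.Agent.Lib.Helper54.le_normalizer_piCoreOf π M)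
  -- work inside `S ⊔ O_π(M)`, where `O_π(M)` is normal
  set K : Subgroup G := S ⊔ piCoreOf π M with hK
  have hKn : K ≤ Subgroup.normalizer ((piCoreOf π M : Subgroup G) : Set G) :=
    sup_le hSn Subgroup.le_normalizer
  have hnorm : ((piCoreOf π M).subgroupOf K).Normal :=
    Subgroup.normal_subgroupOf_of_le_normalizer hKn
  have h1 := Cfsg.Agent.Lib.Helper76.card_sup_dvd_of_normal (S.subgroupOf K)
    ((piCoreOf π M).subgroupOf K)
  have h2 : S.subgroupOf K ⊔ (piCoreOf π M).subgroupOf K = ⊤ := by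
    rw [← Subgroup.subgroupOf_sup le_sup_left le_sup_right]
    exact Subgroup.subgroupOf_self K
  rw [h2, Subgroup.card_top,
    Nat.card_congr (Subgroup.subgroupOfEquivOfLe (le_sup_left : S ≤ K)).toEquiv,
    Nat.card_congr (Subgroup.subgroupOfEquivOfLe (le_sup_right : piCoreOf π M ≤ K)).toEquiv] at h1
  exact h1

/-- **Step (0) of (AS)**: `M ∩ L` normalizes `S`, so `M ∩ L = N_G(S)`. -/
theorem inf_le_normalizer [Finite G] (hG : IsMinSimpleOddOrder G)
    (M L : Subgroup G) (hM : IsCoatom M) (hL : IsCoatom L)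
    (hnc : ∀ g : G, MulAut.conj g • L ≠ M)
    (q : ℕ) [Fact q.Prime] (S : Sylow q G)
    (hN : Subgroup.normalizer ((S : Subgroup G) : Set G) ≤ M ⊓ L)
    (P : Subgroup G) (hPN : P ≤ Subgroup.normalizer ((S : Subgroup G) : Set G))
    (hSP : ⁅(S : Subgroup G), P⁆ = S) :
    M ⊓ L ≤ Subgroup.normalizer ((S : Subgroup G) : Set G) := by
  obtain ⟨-, hSM, hSL, hidxM, hidxL, -, -, hqαM, hqαL, hββ⟩ := facts hG M L hM hL hnc q S hN
  have hPM : P ≤ M := hPN.trans (hN.trans inf_le_left)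
  have hPL : P ≤ L := hPN.trans (hN.trans inf_le_right)
  have hScM : (S : Subgroup G) ≤ ⁅M, M⁆ := by
    conv_lhs => rw [← hSP]
    exact Subgroup.commutator_mono hSM hPM
  have hScL : (S : Subgroup G) ≤ ⁅L, L⁆ := by
    conv_lhs => rw [← hSP]
    exact Subgroup.commutator_mono hSL hPL
  have hK₁ := le_normalizer_sup_piCoreOf M (beta M) q S hSM S.2 hidxM hScM
    (Cfsg.Agent.Lib.Helper24.isNilpotent_commutator_quotient_beta hG M hM)
  have hK₂ := le_normalizer_sup_piCoreOf L (beta L) q S hSL S.2 hidxL hScL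
    (Cfsg.Agent.Lib.Helper24.isNilpotent_commutator_quotient_beta hG L hL)
  have hcop : Nat.Coprime (Nat.card (piCoreOf (beta M) M)) (Nat.card (piCoreOf (beta L) L)) := by
    by_contra h
    obtain ⟨t, ht, h1, h2⟩ := Nat.Prime.not_coprime_iff_dvd.mp h
    exact hββ t (Cfsg.Agent.Lib.Helper54.piCoreOf_isPi (beta M) M t ht h1)
      (Cfsg.Agent.Lib.Helper54.piCoreOf_isPi (beta L) L t ht h2)
  have hinf := inf_eq_of_coprime (S : Subgroup G) (S ⊔ piCoreOf (beta M) M) (S ⊔ piCoreOf (beta L) L)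
    _ _ le_sup_left le_sup_left (card_sup_piCoreOf_dvd M (beta M) S hSM)
    (card_sup_piCoreOf_dvd L (beta L) S hSL) hcop
  have h3 := Cfsg.Agent.Lib.Helper54.le_normalizer_inf ((inf_le_left : M ⊓ L ≤ M).trans hK₁)
    ((inf_le_right : M ⊓ L ≤ L).trans hK₂)
  rwa [hinf] at h3

/-- `M ∩ L ∩ O_π(M) ≤ C_G(S)` when `q ∉ π`, `S` a `q`-group normalized by `M ∩ L`. -/
theorem inf_piCoreOf_le_centralizer [Finite G] (M L : Subgroup G) (π : Set ℕ) (q : ℕ) [Fact q.Prime]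
    (hq : q ∉ π) (S : Subgroup G) (hSq : IsPGroup q S) (hSM : S ≤ M)
    (hI : M ⊓ L ≤ Subgroup.normalizer (S : Set G)) :
    (M ⊓ L) ⊓ piCoreOf π M ≤ Subgroup.centralizer (S : Set G) := by
  have hdisj : S ⊓ piCoreOf π M = ⊥ := by
    apply (Subgroup.disjoint_of_coprime_natCard _).eq_bot
    obtain ⟨k, hk⟩ := IsPGroup.iff_card.mp hSq
    rw [hk]
    apply Nat.Coprime.pow_left
    rw [Nat.Prime.coprime_iff_not_dvd Fact.out]
    intro h
    exact hq (Cfsg.Agent.Lib.Helper54.piCoreOf_isPi π M q Fact.out h)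
  intro b hb
  rw [Subgroup.mem_centralizer_iff]
  intro s hs
  have hbI : b ∈ Subgroup.normalizer (S : Set G) := hI hb.1
  have hsN : s ∈ Subgroup.normalizer ((piCoreOf π M : Subgroup G) : Set G) :=
    Cfsg.Agent.Lib.Helper54.le_normalizer_piCoreOf π M (hSM hs)
  have h1 : b * s * b⁻¹ * s⁻¹ ∈ S :=
    S.mul_mem ((Subgroup.mem_normalizer_iff.mp hbI s).mp hs) (S.inv_mem hs)
  have h2 : b * s * b⁻¹ * s⁻¹ ∈ piCoreOf π M := by
    have : s * b⁻¹ * s⁻¹ ∈ piCoreOf π M :=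
      (Subgroup.mem_normalizer_iff.mp hsN b⁻¹).mp (Subgroup.inv_mem _ hb.2)
    have h3 := Subgroup.mul_mem _ hb.2 this
    have h4 : b * (s * b⁻¹ * s⁻¹) = b * s * b⁻¹ * s⁻¹ := by group
    rwa [h4] at h3
  have h5 : b * s * b⁻¹ * s⁻¹ ∈ S ⊓ piCoreOf π M := ⟨h1, h2⟩
  rw [hdisj, Subgroup.mem_bot] at h5
  have h6 : b * s = s * b := by
    have : b * s = (b * s * b⁻¹ * s⁻¹) * (s * b) := by group
    rw [this, h5, one_mul]
  exact h6.symm

end Cfsg.Agent.Lib.Helper46.BGAsymZero
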