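import Cfsg.Agent.Lib.Helper46.BGElevenE
import Cfsg.Agent.Lib.Helper55.BGElevenE

/-!
# Bender–Glauberman §11: the Sylow `p`-subgroups of an exceptional maximal subgroup are abelian

Glue of `Helper46.BGEleven.exc_sylow_abelian` (the `p`-group argument) with
`Helper55.BGEleven.Exc.sylow_facts` (`A ≤ Z(P)`), stated against `Helper54.IsExceptional`.
Conditional on the Uniqueness Theorem `hU`, on `p`-length one `hPL` (S1410) and on the literal
conclusion of S1412 (`h1412`).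
-/

set_option autoImplicit false
open Cfsg
open scoped Pointwise

namespace Cfsg.Agent.Lib.Helper46.BGEleven

open Cfsg.Agent.Lib.Helper54
open Cfsg.Agent.Lib.Helper34 (UniquenessThm)

variable {G : Type*} [Group G] {M A₀ A : Subgroup G} {p : ℕ}

/-- The literal conclusion of S1412 for the prime `p` (all Sylow `p`-subgroups of `G`). -/
def Stmt1412 (G : Type*) [Group G] (p : ℕ) : Prop :=
  ∀ S : Sylow p G, PRankLE p 2 (S : Subgroup G) →
    IsMulCommutative (S : Subgroup G) ∨ ∃ P₁ P₂ : Subgroup G, P₁ ⊔ P₂ = (S : Subgroup G) ∧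
      (∀ a ∈ P₁, ∀ b ∈ P₂, a * b = b * a) ∧ ¬ IsMulCommutative P₁ ∧ Nat.card P₁ = p ^ 3 ∧
      Monoid.exponent P₁ = p ∧ IsCyclic P₂ ∧
      Subgroup.closure {x : G | x ∈ P₂ ∧ x ^ p = 1} = P₁ ⊓ Subgroup.centralizer (P₁ : Set G)

/-- A Sylow `p`-subgroup of `M` containing `A` is abelian (elementwise form, in `G`). -/
theorem exc_sylow_comm_of_le [Finite G] [Fact p.Prime] (h : IsExceptional M p A₀ A)
    (hG : IsMinSimpleOddOrder G) (hU : UniquenessThm G)
    (hPL : ∀ H : Subgroup G, H ≠ ⊤ → PLengthLE p 1 H) (h1412 : Stmt1412 G p)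
    (P : Sylow p M) (hAP : A ≤ (P : Subgroup M).map M.subtype) :
    ∀ x ∈ (P : Subgroup M).map M.subtype, ∀ y ∈ (P : Subgroup M).map M.subtype, x * y = y * x := by
  have hp : p.Prime := Fact.out
  set P₀ : Subgroup G := (P : Subgroup M).map M.subtype with hP₀
  have hP₀M : P₀ ≤ M := Subgroup.map_subtype_le _
  have hP₀p : IsPGroup p P₀ := P.isPGroup'.map _
  have hcen := (Cfsg.Agent.Lib.Helper55.BGEleven.Exc.sylow_facts h hG hU hPL P hAP).1
  have hp2 : p ≠ 2 := by
    intro h2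
    have h1 : p ∣ Nat.card G :=
      (Cfsg.Agent.Lib.Helper55.BGEleven.Exc.dvd_card h).trans (Subgroup.card_subgroup_dvd_card M)
    rw [h2] at h1
    exact (Nat.not_even_iff_odd.mpr hG.1) (even_iff_two_dvd.mpr h1)
  have hPA : P₀ ≤ Subgroup.centralizer (A : Set G) := by
    intro y hy
    rw [Subgroup.mem_centralizer_iff]
    intro a ha
    exact hcen a ha y hy
  have hPmax : ∀ Q : Subgroup G, IsPGroup p Q → P₀ ≤ Q → Q ≤ Subgroup.centralizer (A : Set G) →
      Q = P₀ := by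
    intro Q hQ hPQ hQA
    have hQM : Q ≤ M := hQA.trans h.centralizer_le
    have hQ' : IsPGroup p (Q.subgroupOf M) := hQ.comap_subtype
    have hle : (P : Subgroup M) ≤ Q.subgroupOf M := by
      intro x hx
      rw [Subgroup.mem_subgroupOf]
      exact hPQ ⟨x, hx, rfl⟩
    have heq : Q.subgroupOf M = (P : Subgroup M) := P.is_maximal' hQ' hle
    rw [hP₀, ← heq, Subgroup.map_subgroupOf_eq_of_le hQM]
  exact exc_sylow_abelian p hp2 h1412 A P₀ h.elemAb h.card
    (fun B hB hAB => h.maximal hG hU B hB hAB) hP₀p hAP hPA hPmax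

/-- **Bender–Glauberman §11**: every Sylow `p`-subgroup of an exceptional maximal subgroup `M`
(with respect to `p`) is abelian. -/
theorem exc_sylow_isMulCommutative [Finite G] [Fact p.Prime] (h : IsExceptional M p A₀ A)
    (hG : IsMinSimpleOddOrder G) (hU : UniquenessThm G)
    (hPL : ∀ H : Subgroup G, H ≠ ⊤ → PLengthLE p 1 H) (h1412 : Stmt1412 G p)
    (P : Sylow p M) : IsMulCommutative (P : Subgroup M) := by
  obtain ⟨P', hAP'⟩ := Cfsg.Agent.Lib.Helper55.BGEleven.Exc.exists_sylow h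
  have hcomm' := exc_sylow_comm_of_le h hG hU hPL h1412 P' hAP'
  have hP' : ∀ x ∈ (P' : Subgroup M), ∀ y ∈ (P' : Subgroup M), x * y = y * x := by
    intro x hx y hy
    apply Subtype.ext
    have := hcomm' (x : G) ⟨x, hx, rfl⟩ (y : G) ⟨y, hy, rfl⟩
    simpa using this
  obtain ⟨g, hg⟩ := MulAction.exists_smul_eq M P' P
  refine ⟨⟨?_⟩⟩
  rintro ⟨x, hx⟩ ⟨y, hy⟩
  apply Subtype.ext
  show x * y = y * x
  rw [← hg] at hx hy
  have hx : x ∈ MulAut.conj g • (P' : Subgroup M) := hx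
  have hy : y ∈ MulAut.conj g • (P' : Subgroup M) := hy
  rw [Subgroup.mem_pointwise_smul_iff_inv_smul_mem] at hx hy
  have h1 := hP' _ hx _ hy
  simp only [MulAut.smul_def, MulAut.conj_inv_apply] at h1
  have h2 : g⁻¹ * (x * y) * g = g⁻¹ * (y * x) * g := by
    calc g⁻¹ * (x * y) * g = (g⁻¹ * x * g) * (g⁻¹ * y * g) := by group
      _ = (g⁻¹ * y * g) * (g⁻¹ * x * g) := h1
      _ = g⁻¹ * (y * x) * g := by group
  have h3 : g * (g⁻¹ * (x * y) * g) * g⁻¹ = g * (g⁻¹ * (y * x) * g) * g⁻¹ := by rw [h2]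
  simpa [mul_assoc] using h3

end Cfsg.Agent.Lib.Helper46.BGEleven
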