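import Mathlib
import Cfsg.Prelude.Def_OddOrderLocal
import Cfsg.Agent.Lib.Helper55.Cores
import Cfsg.Agent.Lib.Helper49.RankOneCyclic

set_option autoImplicit false

/-!
Modules [NB] and [CYC] for BG Theorem 15.7 (helper51, board #3075): the subgroups
`O_q(H) = (pCore q ↥H).map H.subtype` of a nilpotent subgroup `H`, and cyclicity of an abelian
group of odd order all of whose `q`-ranks are at most one.  By helper46.
-/

namespace Cfsg.Agent.Lib.Helper46.BGFifteenNB

open Cfsg Cfsg.Agent.Lib.Helper55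
open scoped commutatorElement

section TypeLevel

variable {K : Type*} [Group K] [Finite K]

/-- in a finite nilpotent group every Sylow `q`-subgroup is `O_q` -/
theorem sylow_eq_pCore (hK : Group.IsNilpotent K) (q : ℕ) [Fact q.Prime] (S : Sylow q K) :
    (S : Subgroup K) = pCore q K := by
  have hK' : Group.IsNilpotent K := hK
  have hn : (S : Subgroup K).Normal := inferInstance
  exact le_antisymm (le_pCore hn S.2) (pCore_le_sylow S)

/-- a subgroup of a finite nilpotent group containing all `O_q` is everything -/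
theorem eq_top_of_forall_pCore_le (hK : Group.IsNilpotent K) {D : Subgroup K}
    (h : ∀ q : ℕ, q.Prime → pCore q K ≤ D) : D = ⊤ := by
  rw [← Subgroup.index_eq_one, Nat.eq_one_iff_not_exists_prime_dvd]
  intro q hq hdvd
  have : Fact q.Prime := ⟨hq⟩
  obtain ⟨S⟩ : Nonempty (Sylow q K) := inferInstance
  have hSD : (S : Subgroup K) ≤ D := by
    rw [sylow_eq_pCore hK q S]; exact h q hq
  have h1 : D.index ∣ (S : Subgroup K).index := Subgroup.index_dvd_of_le hSD
  exact S.not_dvd_index (hdvd.trans h1)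

theorem pCore_sup_pPrimeCore (hK : Group.IsNilpotent K) (q : ℕ) [Fact q.Prime] :
    pCore q K ⊔ pPrimeCore q K = ⊤ := by
  apply eq_top_of_forall_pCore_le hK
  intro r hr
  have : Fact r.Prime := ⟨hr⟩
  by_cases hrq : r = q
  · subst hrq
    exact le_sup_left
  · refine le_trans ?_ le_sup_right
    apply le_pPrimeCore (pCore_normal' r)
    obtain ⟨k, hk⟩ := (isPGroup_pCore (G := K) r).exists_card_eq
    rw [hk]
    apply Nat.Coprime.pow_left
    exact (Nat.coprime_primes hr (Fact.out : q.Prime)).mpr hrq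

theorem disjoint_pCore_pPrimeCore (p : ℕ) [Fact p.Prime] :
    Disjoint (pCore p K) (pPrimeCore p K) := by
  apply Subgroup.disjoint_of_coprime_natCard
  obtain ⟨k, hk⟩ := (isPGroup_pCore (G := K) p).exists_card_eq
  rw [hk]
  exact (Nat.Coprime.pow_right k (card_pPrimeCore_coprime p)).symm

/-- type-level version of NB6 -/
theorem pCore_inf_commutator_le (hK : Group.IsNilpotent K) (q : ℕ) [Fact q.Prime] :
    pCore q K ⊓ ⁅(⊤ : Subgroup K), (⊤ : Subgroup K)⁆ ≤ ⁅pCore q K, pCore q K⁆ := by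
  have hPn : (pCore q K).Normal := pCore_normal' q
  have hCn : (pPrimeCore q K).Normal := pPrimeCore_normal' q
  have hdis := disjoint_pCore_pPrimeCore (K := K) q
  have hcomm : ∀ a ∈ pCore q K, ∀ c ∈ pPrimeCore q K, Commute a c := fun a ha c hc =>
    Subgroup.commute_of_normal_of_disjoint _ _ hPn hCn hdis a c ha hc
  have htop := pCore_sup_pPrimeCore hK q
  have hdec : ∀ g : K, ∃ a ∈ pCore q K, ∃ c ∈ pPrimeCore q K, a * c = g := by
    intro g
    have hg : g ∈ ((pCore q K ⊔ pPrimeCore q K : Subgroup K) : Set K) := by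
      rw [htop]; exact Subgroup.mem_top g
    rw [Subgroup.mul_normal] at hg
    exact Set.mem_mul.mp hg
  have hPP : ⁅pCore q K, pCore q K⁆ ≤ pCore q K := Subgroup.commutator_le_left _ _
  have hCC : ⁅pPrimeCore q K, pPrimeCore q K⁆ ≤ pPrimeCore q K := Subgroup.commutator_le_left _ _
  have hle : ⁅(⊤ : Subgroup K), (⊤ : Subgroup K)⁆ ≤
      ⁅pCore q K, pCore q K⁆ ⊔ ⁅pPrimeCore q K, pPrimeCore q K⁆ := by
    rw [Subgroup.commutator_le]
    intro g₁ _ g₂ _
    obtain ⟨a₁, ha₁, c₁, hc₁, rfl⟩ := hdec g₁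
    obtain ⟨a₂, ha₂, c₂, hc₂, rfl⟩ := hdec g₂
    have e : ⁅a₁ * c₁, a₂ * c₂⁆ = ⁅a₁, a₂⁆ * ⁅c₁, c₂⁆ := by
      let φ : (pCore q K) × (pPrimeCore q K) →* K :=
        MonoidHom.noncommCoprod (pCore q K).subtype (pPrimeCore q K).subtype
          (fun m n => hcomm m m.2 n n.2)
      have h1 : φ (⟨a₁, ha₁⟩, ⟨c₁, hc₁⟩) = a₁ * c₁ := rfl
      have h2 : φ (⟨a₂, ha₂⟩, ⟨c₂, hc₂⟩) = a₂ * c₂ := rfl
      rw [← h1, ← h2, ← map_commutatorElement]
      rfl
    rw [e]
    exact Subgroup.mul_mem _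
      (Subgroup.mem_sup_left (Subgroup.commutator_mem_commutator ha₁ ha₂))
      (Subgroup.mem_sup_right (Subgroup.commutator_mem_commutator hc₁ hc₂))
  rintro y ⟨hyP, hyc⟩
  have hy : y ∈ ((⁅pCore q K, pCore q K⁆ ⊔ ⁅pPrimeCore q K, pPrimeCore q K⁆ : Subgroup K) :
      Set K) := hle hyc
  rw [Subgroup.mul_normal] at hy
  obtain ⟨u, hu, v, hv, huv⟩ := Set.mem_mul.mp hy
  have hvP : v ∈ pCore q K := by
    have : v = u⁻¹ * y := by rw [← huv]; group
    rw [this]
    exact Subgroup.mul_mem _ (Subgroup.inv_mem _ (hPP hu)) hyP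
  have hv1 : v = 1 := by
    have : v ∈ pCore q K ⊓ pPrimeCore q K := ⟨hvP, hCC hv⟩
    rwa [hdis.eq_bot, Subgroup.mem_bot] at this
  rw [← huv, hv1, mul_one]
  exact hu

end TypeLevel

section SubgroupLevel

variable {G : Type*} [Group G] [Finite G]

/-- NB1 -/
theorem exists_sylow_eq_pCore (H : Subgroup G) (hH : Group.IsNilpotent H) (q : ℕ)
    [Fact q.Prime] : ∃ S : Sylow q ↥H, (S : Subgroup ↥H) = Cfsg.pCore q ↥H := by
  obtain ⟨S⟩ : Nonempty (Sylow q ↥H) := inferInstance
  exact ⟨S, sylow_eq_pCore hH q S⟩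

/-- NB1' -/
theorem le_map_pCore_of_isPGroup (H : Subgroup G) (hH : Group.IsNilpotent H) (q : ℕ)
    [Fact q.Prime] {B : Subgroup G} (hBH : B ≤ H) (hB : IsPGroup q B) :
    B ≤ (Cfsg.pCore q ↥H).map H.subtype := by
  have hB' : IsPGroup q (B.subgroupOf H) := hB.comap_subtype
  obtain ⟨S, hS⟩ := hB'.exists_le_sylow
  rw [sylow_eq_pCore hH q S] at hS
  intro b hb
  exact ⟨⟨b, hBH hb⟩, hS (Subgroup.mem_subgroupOf.mpr hb), rfl⟩

/-- NB2 -/
theorem le_of_forall_map_pCore_le (H : Subgroup G) (hH : Group.IsNilpotent H) {C : Subgroup G}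
    (h : ∀ q : ℕ, q.Prime → (Cfsg.pCore q ↥H).map H.subtype ≤ C) : H ≤ C := by
  have htop : C.subgroupOf H = ⊤ := by
    apply eq_top_of_forall_pCore_le hH
    intro q hq x hx
    rw [Subgroup.mem_subgroupOf]
    exact h q hq ⟨x, hx, rfl⟩
  exact Subgroup.subgroupOf_eq_top.mp htop

/-- NB3 -/
theorem map_pCore_ne_bot (H : Subgroup G) (hH : Group.IsNilpotent H) (q : ℕ) [Fact q.Prime]
    (hq : q ∣ Nat.card H) : (Cfsg.pCore q ↥H).map H.subtype ≠ ⊥ := by
  obtain ⟨S⟩ : Nonempty (Sylow q ↥H) := inferInstance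
  have h1 : (S : Subgroup ↥H) ≠ ⊥ := S.ne_bot_of_dvd_card hq
  rw [sylow_eq_pCore hH q S] at h1
  intro h2
  exact h1 ((Subgroup.map_eq_bot_iff_of_injective _ H.subtype_injective).mp h2)

omit [Finite G] in
/-- NB4 -/
theorem commute_of_mem_map_pCore (H : Subgroup G) (q r : ℕ) [Fact q.Prime] [Fact r.Prime]
    (hqr : q ≠ r) {a b : G} (ha : a ∈ (Cfsg.pCore q ↥H).map H.subtype)
    (hb : b ∈ (Cfsg.pCore r ↥H).map H.subtype) : a * b = b * a := by
  obtain ⟨a', ha', rfl⟩ := ha
  obtain ⟨b', hb', rfl⟩ := hb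
  have hdis : Disjoint (pCore q ↥H) (pCore r ↥H) :=
    IsPGroup.disjoint_of_ne q r hqr _ _ (isPGroup_pCore q) (isPGroup_pCore r)
  have hc : Commute a' b' :=
    Subgroup.commute_of_normal_of_disjoint _ _ (pCore_normal' q) (pCore_normal' r) hdis a' b'
      ha' hb'
  exact congrArg Subtype.val hc.eq

/-- NB5 -/
theorem commute_of_mem_map_pCore_pPrimeCore (H : Subgroup G) (p : ℕ) [Fact p.Prime] {a b : G}
    (ha : a ∈ (Cfsg.pCore p ↥H).map H.subtype)
    (hb : b ∈ (Cfsg.pPrimeCore p ↥H).map H.subtype) : a * b = b * a := by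
  obtain ⟨a', ha', rfl⟩ := ha
  obtain ⟨b', hb', rfl⟩ := hb
  have hc : Commute a' b' :=
    Subgroup.commute_of_normal_of_disjoint _ _ (pCore_normal' p) (pPrimeCore_normal' p)
      (disjoint_pCore_pPrimeCore p) a' b' ha' hb'
  exact congrArg Subtype.val hc.eq

/-- NB6 -/
theorem map_pCore_inf_commutator_le (H : Subgroup G) (hH : Group.IsNilpotent H) (q : ℕ)
    [Fact q.Prime] :
    (Cfsg.pCore q ↥H).map H.subtype ⊓ ⁅H, H⁆ ≤
      ⁅(Cfsg.pCore q ↥H).map H.subtype, (Cfsg.pCore q ↥H).map H.subtype⁆ := by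
  have h1 := pCore_inf_commutator_le hH q
  have h2 := Subgroup.map_mono (f := H.subtype) h1
  rw [Subgroup.map_inf _ _ _ H.subtype_injective, Subgroup.map_commutator,
    Subgroup.map_commutator, ← MonoidHom.range_eq_map, Subgroup.range_subtype] at h2
  exact h2

/-- conjugation by an element normalizing `H` preserves `O_q(H)` -/
theorem conj_mem_map_pCore (H : Subgroup G) (hH : Group.IsNilpotent H) (q : ℕ) [Fact q.Prime]
    {g : G} (hg : g ∈ Subgroup.normalizer (H : Set G)) {n : G}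
    (hn : n ∈ (Cfsg.pCore q ↥H).map H.subtype) :
    g * n * g⁻¹ ∈ (Cfsg.pCore q ↥H).map H.subtype := by
  have hOH : (Cfsg.pCore q ↥H).map H.subtype ≤ H := Subgroup.map_subtype_le _
  have hOp : IsPGroup q ((Cfsg.pCore q ↥H).map H.subtype : Subgroup G) :=
    (isPGroup_pCore q).map _
  have hBp : IsPGroup q ((((Cfsg.pCore q ↥H).map H.subtype).map
      (MulAut.conj g).toMonoidHom : Subgroup G)) := hOp.map _
  have hBH : ((Cfsg.pCore q ↥H).map H.subtype).map (MulAut.conj g).toMonoidHom ≤ H := by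
    rintro x ⟨y, hy, rfl⟩
    exact (Subgroup.mem_normalizer_iff.mp hg y).mp (hOH hy)
  have := le_map_pCore_of_isPGroup H hH q hBH hBp
  exact this ⟨n, hn, rfl⟩

/-- NB7 -/
theorem normalizer_le_normalizer_map_pCore (H : Subgroup G) (hH : Group.IsNilpotent H) (q : ℕ)
    [Fact q.Prime] : Subgroup.normalizer (H : Set G) ≤
      Subgroup.normalizer (((Cfsg.pCore q ↥H).map H.subtype : Subgroup G) : Set G) := by
  intro g hg
  rw [Subgroup.mem_normalizer_iff]
  intro n
  refine ⟨fun hn => conj_mem_map_pCore H hH q hg hn, fun hn => ?_⟩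
  have hg' : g⁻¹ ∈ Subgroup.normalizer (H : Set G) := Subgroup.inv_mem _ hg
  have := conj_mem_map_pCore H hH q hg' hn
  have e : g⁻¹ * (g * n * g⁻¹) * g⁻¹⁻¹ = n := by group
  rwa [e] at this

end SubgroupLevel

section Cyc

/-- `PRankLE` passes to subgroups -/
theorem pRankLE_subgroup {A : Type*} [Group A] {q k : ℕ} (h : Cfsg.PRankLE q k A)
    (S : Subgroup A) : Cfsg.PRankLE q k ↥S := by
  intro B hB hexp
  have hcard : Nat.card (B.map S.subtype) = Nat.card B :=
    Subgroup.card_map_of_injective S.subtype_injective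
  rw [← hcard]
  apply h
  · infer_instance
  · rintro a ⟨b, hb, rfl⟩
    have := hexp b hb
    rw [← map_pow, this, map_one]

/-- [CYC] -/
theorem isCyclic_of_comm_of_pRankLE_one {A : Type*} [Group A] [Finite A]
    (hodd : Odd (Nat.card A)) (hc : ∀ a b : A, a * b = b * a)
    (hr : ∀ q : ℕ, q.Prime → Cfsg.PRankLE q 1 A) : IsCyclic A := by
  have hexp0 : Monoid.exponent A ≠ 0 := Monoid.exponent_ne_zero_of_finite
  have hcard0 : Nat.card A ≠ 0 := Nat.card_pos.ne'
  have hdvd : Nat.card A ∣ Monoid.exponent A := by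
    rw [← Nat.factorization_prime_le_iff_dvd hcard0 hexp0]
    intro q hq
    have hqf : Fact q.Prime := ⟨hq⟩
    by_cases hqd : q ∣ Nat.card A
    · have hq2 : q ≠ 2 := by
        rintro rfl
        exact (Nat.not_even_iff_odd.mpr hodd) (even_iff_two_dvd.mpr hqd)
      obtain ⟨S⟩ : Nonempty (Sylow q A) := inferInstance
      have hScyc : IsCyclic (S : Subgroup A) :=
        Cfsg.Agent.Lib.Helper49.isCyclic_of_pRankLE_one hq2 S.2
          (pRankLE_subgroup (hr q hq) (S : Subgroup A))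
      obtain ⟨g, hg⟩ := IsCyclic.exists_ofOrder_eq_natCard (α := (S : Subgroup A))
      have hg' : orderOf (g : A) = q ^ (Nat.card A).factorization q := by
        rw [Subgroup.orderOf_coe, hg, Sylow.card_eq_multiplicity]
      have h1 : q ^ (Nat.card A).factorization q ∣ Monoid.exponent A := by
        rw [← hg']; exact Monoid.order_dvd_exponent _
      exact (Nat.Prime.pow_dvd_iff_le_factorization hq hexp0).mp h1
    · rw [Nat.factorization_eq_zero_of_not_dvd hqd]
      exact Nat.zero_le _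
  have heq : Monoid.exponent A = Nat.card A :=
    Nat.dvd_antisymm Group.exponent_dvd_nat_card hdvd
  let _ : CommGroup A := { (inferInstance : Group A) with mul_comm := hc }
  exact IsCyclic.of_exponent_eq_card heq

end Cyc

end Cfsg.Agent.Lib.Helper46.BGFifteenNB
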