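import Cfsg.Agent.Lib.Helper46.BGFourteenSixA
import Cfsg.Agent.Lib.Helper24.BGFourteenSixFrame

/-!
# B&G Theorem 14.6 (S1435): conclusions 2, 3, 4 from helper24's frames  (helper46)

Bridge between `Helper24.BGSixFrame.FrameM` / `FrameH` and `Helper46.BGFourteenSix.Frame`:
`frame_of` builds the latter, and `conclusions_of_frames` gives
`U ≤ H_σ`, `M_σ ∩ H = 1`, `M ∩ H = U ⊔ K`, `N_H(U) ≰ M`.
-/

set_option autoImplicit false

namespace Cfsg.Agent.Lib.Helper46.BGFourteenSix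

open Cfsg
open Cfsg.Agent.Lib
open Cfsg.Agent.Lib.Helper54 (Stmt1430 Stmt1431)
open Cfsg.Agent.Lib.Helper24.BGSixFrame (FrameM FrameH)

universe u

variable {G : Type u} [Group G]

theorem frame_of {M Mstar H K U : Subgroup G} (hH : IsCoatom H) (hMstar : IsCoatom Mstar)
    (F : FrameM M Mstar K U) (FH : FrameH M Mstar H K U) : Frame H Mstar K where
  coatomH := hH
  coatomM := hMstar
  card := F.hp
  le := FH.hKH
  le_core := F.hKσ
  cent_le := F.hCK
  fpf := FH.hfpf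
  not_sigma := FH.hpσ

theorem inf_centralizer_eq_bot {M Mstar K U : Subgroup G} (F : FrameM M Mstar K U) :
    U ⊓ Subgroup.centralizer (K : Set G) = ⊥ := by
  have hK1 : K ≠ ⊥ := by
    intro h
    have := F.hp
    rw [h, Subgroup.card_bot] at this
    exact Nat.not_prime_one this
  obtain ⟨k, hk, hk1⟩ := Helper24.BGSixFrame.exists_ne_one_of_ne_bot hK1
  rw [eq_bot_iff, ← F.hreg k hk hk1]
  apply inf_le_inf_left
  apply Subgroup.centralizer_le
  intro x hx
  rw [Set.mem_singleton_iff] at hx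
  rw [hx]
  exact hk

/-- Conclusions 2, 3, 4 of S1435 (and `M_σ ∩ H = 1`) from the two frames. -/
theorem conclusions_of_frames [Finite G] (hG : IsMinSimpleOddOrder G) (h30 : Stmt1430 G)
    (h31 : Stmt1431 G) {M Mstar H K U : Subgroup G} (hM : IsCoatom M) (hH : IsCoatom H)
    (hMstar : IsCoatom Mstar) (hKU : IsSigmaDecomposition M K U) (hU1 : U ≠ ⊥)
    (F : FrameM M Mstar K U) (FH : FrameH M Mstar H K U) :
    U ≤ sigmaCore H ∧ sigmaCore M ⊓ H = ⊥ ∧ M ⊓ H = U ⊔ K ∧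
      ¬ H ⊓ Subgroup.normalizer (U : Set G) ≤ M :=
  steps hG h30 h31 (frame_of hH hMstar F FH) hM hKU hU1 F.hUab FH.hUH (inf_centralizer_eq_bot F)
    (fun s hs hsd => ⟨F.hπU s hs hsd, F.hπUκ s hs hsd⟩) FH.hσσH F.hCU

end Cfsg.Agent.Lib.Helper46.BGFourteenSix
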