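/-
helper46: project S5634 part 2 (helper94), module BLK-[3A]: one cross transvection `τ(u₀, f₀)` (`u₀ ∈ D i`, `f₀` supported
on `D j`) in `M ≥ N` gives all of them.
-/
import Mathlib
import Cfsg.Agent.Lib.Helper94.Blk.Ex

set_option autoImplicit false

namespace Cfsg.Agent.Lib.Helper46.Blk3A

open Cfsg.Agent.Lib.Helper94 Cfsg.Agent.Lib.Helper94.SympData Cfsg.Agent.Lib.Helper94.Blk

variable {K V : Type*} [Field K] [AddCommGroup V] [Module K V] [FiniteDimensional K V]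
  {t m : ℕ} {D : Fin t → Submodule K V}

/-- (P1): move the centre inside `D i`. -/
theorem move_centre (hD : LDecomp m D) {M : Subgroup (V ≃ₗ[K] V)}
    (hNM : stabDec D ⊓ SLe K V ≤ M) {i j : Fin t} (hij : i ≠ j) {f₀ : Module.Dual K V} {u₀ : V}
    (h0 : TvIn M f₀ u₀) (hf₀ : SuppOn D f₀ j) {u' : V} (hu' : u' ∈ D i) {φ' : Module.Dual K V}
    (hφ' : SuppOn D φ' i) (h1 : φ' u' = 0) (h2 : φ' u₀ = 1) : TvIn M f₀ u' := by
  have hβ : TvIn M φ' u' := (hD.blockTv_mem hu' hφ' h1).mono hNM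
  have hz : f₀ u' = 0 := hf₀ i hij u' hu'
  have h3 := h0.comm_right hβ hz
  rw [h2] at h3
  have h4 := h3.neg_left
  have e : -(-(1 : K) • f₀) = f₀ := by
    apply LinearMap.ext
    intro x
    rw [LinearMap.neg_apply, LinearMap.smul_apply, smul_eq_mul]
    ring
  rwa [e] at h4

/-- (P2): move the functional inside the functionals supported on `D j`. -/
theorem move_functional (hD : LDecomp m D) {M : Subgroup (V ≃ₗ[K] V)}
    (hNM : stabDec D ⊓ SLe K V ≤ M) {i j : Fin t} (hij : i ≠ j) {f₀ : Module.Dual K V} {u : V}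
    (hu : u ∈ D i) (h0 : TvIn M f₀ u) {u' : V} (hu' : u' ∈ D j) {φ' : Module.Dual K V}
    (hφ' : SuppOn D φ' j) (h1 : f₀ u' = 1) (h2 : φ' u' = 0) : TvIn M φ' u := by
  have hβ : TvIn M φ' u' := (hD.blockTv_mem hu' hφ' h2).mono hNM
  have hz : φ' u = 0 := hφ' i hij u hu
  have h3 := h0.comm_left hβ hz
  rwa [h1, one_smul] at h3

/-- [BLK-3A] -/
theorem cross_all_of_cross (hD : LDecomp m D) (hm : 2 ≤ m) {M : Subgroup (V ≃ₗ[K] V)}
    (hNM : stabDec D ⊓ SLe K V ≤ M) {i j : Fin t} (hij : i ≠ j) (h : CrossIn D M i j) :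
    ∀ v ∈ D i, ∀ f : Module.Dual K V, SuppOn D f j → TvIn M f v := by
  obtain ⟨f₀, u₀, h0, hu₀, hu₀0, hf₀, hf₀0⟩ := h
  -- Step 1: all centres
  have hpr : hD.pr i u₀ ≠ 0 := by rw [hD.pr_of_mem hu₀]; exact hu₀0
  obtain ⟨φ₁, hφ₁, hφ₁u⟩ := exists_suppOn_eq_one hD hpr
  obtain ⟨ζ, hζ, hζu, w₀, hw₀, hζw⟩ := exists_suppOn_ker hD hm i u₀
  have step1 : ∀ u' ∈ D i, TvIn M f₀ u' := by
    intro u' hu'
    set c : K := φ₁ u' with hc
    -- the three pieces
    have ha_mem : u' - c • u₀ ∈ D i := (D i).sub_mem hu' ((D i).smul_mem _ hu₀)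
    have ha : TvIn M f₀ (u' - c • u₀) := by
      apply move_centre hD hNM hij h0 hf₀ ha_mem hφ₁ _ hφ₁u
      rw [map_sub, map_smul, hφ₁u, smul_eq_mul, mul_one, hc, sub_self]
    have hw₁_mem : c • (w₀ - φ₁ w₀ • u₀) ∈ D i :=
      (D i).smul_mem _ ((D i).sub_mem hw₀ ((D i).smul_mem _ hu₀))
    have hw₁ : TvIn M f₀ (c • (w₀ - φ₁ w₀ • u₀)) := by
      apply move_centre hD hNM hij h0 hf₀ hw₁_mem hφ₁ _ hφ₁u
      rw [map_smul, map_sub, map_smul, hφ₁u, smul_eq_mul, smul_eq_mul, mul_one, sub_self, mul_zero]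
    have hw₂_mem : c • u₀ - c • (w₀ - φ₁ w₀ • u₀) ∈ D i :=
      (D i).sub_mem ((D i).smul_mem _ hu₀) hw₁_mem
    have hw₂ : TvIn M f₀ (c • u₀ - c • (w₀ - φ₁ w₀ • u₀)) := by
      apply move_centre hD hNM hij h0 hf₀ hw₂_mem (hφ₁.add hζ)
      · simp only [LinearMap.add_apply, map_sub, map_smul, smul_eq_mul, hφ₁u, hζu, hζw]
        ring
      · rw [LinearMap.add_apply, hφ₁u, hζu, add_zero]
    have e : u' = (u' - c • u₀) + (c • (w₀ - φ₁ w₀ • u₀) + (c • u₀ - c • (w₀ - φ₁ w₀ • u₀))) := by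
      abel
    rw [e]
    exact ha.add_right (hw₁.add_right hw₂)
  -- Step 2: all functionals
  obtain ⟨u₁, hu₁, hf₀u₁⟩ := exists_mem_eq_one hD hf₀ hf₀0
  obtain ⟨z, hz, hz0, hf₀z⟩ := exists_mem_ker hD hm j f₀
  have hzspan : z ∉ Submodule.span K {u₁} := by
    intro hmem
    obtain ⟨a, rfl⟩ := Submodule.mem_span_singleton.mp hmem
    rw [map_smul, hf₀u₁, smul_eq_mul, mul_one] at hf₀z
    rw [hf₀z, zero_smul] at hz0
    exact hz0 rfl
  obtain ⟨χ, hχ, hχu₁, hχz⟩ := exists_suppOn_sep hD hz hu₁ hzspan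
  intro v hv f hf
  have hv0 : TvIn M f₀ v := step1 v hv
  set c : K := f u₁ with hc
  have h₀ : TvIn M (f - c • f₀) v := by
    apply move_functional hD hNM hij hv hv0 hu₁ (hf.add (hf₀.smul c).neg |> fun h => by
      simpa [sub_eq_add_neg] using h) hf₀u₁
    rw [LinearMap.sub_apply, LinearMap.smul_apply, hf₀u₁, smul_eq_mul, mul_one, hc, sub_self]
  have h₁ : TvIn M (c • χ) v := by
    apply move_functional hD hNM hij hv hv0 hu₁ (hχ.smul c) hf₀u₁
    rw [LinearMap.smul_apply, hχu₁, smul_zero]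
  have h₂ : TvIn M (c • f₀ - c • χ) v := by
    have hsupp : SuppOn D (c • f₀ - c • χ) j := by
      have := (hf₀.smul c).add (hχ.smul c).neg
      simpa [sub_eq_add_neg] using this
    apply move_functional hD hNM hij hv hv0 ((D j).add_mem hu₁ hz) hsupp
    · rw [map_add, hf₀u₁, hf₀z, add_zero]
    · simp only [LinearMap.sub_apply, LinearMap.smul_apply, map_add, hf₀u₁, hf₀z, hχu₁, hχz,
        smul_eq_mul]
      ring
  have e : f = (f - c • f₀) + (c • χ + (c • f₀ - c • χ)) := by abel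
  rw [e]
  exact h₀.add_left (h₁.add_left h₂)

end Cfsg.Agent.Lib.Helper46.Blk3A
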