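/-
helper46: project S5634 part 2 (helper94), module BLK-[3B]: every permutation of the members of the decomposition is
induced by an element of `stabDec D ⊓ SLe K V`.
-/
import Mathlib
import Cfsg.Agent.Lib.Helper94.Blk.Core

set_option autoImplicit false

namespace Cfsg.Agent.Lib.Helper46.Blk3B

open Cfsg.Agent.Lib.Helper94 Cfsg.Agent.Lib.Helper94.SympData Cfsg.Agent.Lib.Helper94.Blk

variable {K V : Type*} [Field K] [AddCommGroup V] [Module K V] [FiniteDimensional K V]
  {t m : ℕ} {D : Fin t → Submodule K V}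

/-- the block permutation map -/
noncomputable def permMap (hD : LDecomp m D) (π : Equiv.Perm (Fin t)) : V →ₗ[K] V :=
  ∑ l, ∑ a, (hD.coo l a).smulRight (hD.vec (π l) a)

theorem permMap_apply (hD : LDecomp m D) (π : Equiv.Perm (Fin t)) (x : V) :
    permMap hD π x = ∑ l, ∑ a, hD.coo l a x • hD.vec (π l) a := by
  simp only [permMap, LinearMap.sum_apply, LinearMap.smulRight_apply]

theorem permMap_vec (hD : LDecomp m D) (π : Equiv.Perm (Fin t)) (l' : Fin t) (a' : Fin m) :
    permMap hD π (hD.vec l' a') = hD.vec (π l') a' := by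
  rw [permMap_apply, Finset.sum_eq_single l']
  · rw [Finset.sum_eq_single a']
    · rw [hD.coo_vec, if_pos ⟨rfl, rfl⟩, one_smul]
    · intro a _ ha
      rw [hD.coo_vec, if_neg (fun h => ha h.2), zero_smul]
    · intro h
      exact absurd (Finset.mem_univ _) h
  · intro l _ hl
    apply Finset.sum_eq_zero
    intro a _
    rw [hD.coo_vec, if_neg (fun h => hl h.1), zero_smul]
  · intro h
    exact absurd (Finset.mem_univ _) h

theorem permMap_comp (hD : LDecomp m D) (π σ : Equiv.Perm (Fin t)) (x : V) :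
    permMap hD π (permMap hD σ x) = permMap hD (π * σ) x := by
  rw [permMap_apply hD σ, map_sum, permMap_apply]
  apply Finset.sum_congr rfl
  intro l _
  rw [map_sum]
  apply Finset.sum_congr rfl
  intro a _
  rw [map_smul, permMap_vec, Equiv.Perm.mul_apply]

theorem permMap_one (hD : LDecomp m D) (x : V) : permMap hD 1 x = x := by
  rw [permMap_apply]
  conv_rhs => rw [← hD.sum_proj x]
  apply Finset.sum_congr rfl
  intro l _
  rw [hD.proj_eq_sum]
  rfl

/-- the block permutation as a linear equivalence -/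
noncomputable def permEquiv (hD : LDecomp m D) (π : Equiv.Perm (Fin t)) : V ≃ₗ[K] V :=
  LinearEquiv.ofLinearMap (permMap hD π) (permMap hD π⁻¹)
    (by
      ext x
      rw [LinearMap.comp_apply, permMap_comp, mul_inv_cancel, permMap_one, LinearMap.id_apply])
    (by
      ext x
      rw [LinearMap.comp_apply, permMap_comp, inv_mul_cancel, permMap_one, LinearMap.id_apply])

theorem permEquiv_apply (hD : LDecomp m D) (π : Equiv.Perm (Fin t)) (x : V) :
    permEquiv hD π x = permMap hD π x := rfl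

theorem permMap_mem (hD : LDecomp m D) (π : Equiv.Perm (Fin t)) {l : Fin t} {x : V}
    (hx : x ∈ D l) : permMap hD π x ∈ D (π l) := by
  rw [permMap_apply, Finset.sum_eq_single l]
  · exact Submodule.sum_mem _ (fun a _ => (D (π l)).smul_mem _ (hD.vec_mem (π l) a))
  · intro l' _ hl'
    apply Finset.sum_eq_zero
    intro a _
    rw [hD.coo_apply, hD.proj_of_mem_ne (fun h => hl' h.symm) hx, map_zero, Finsupp.zero_apply,
      zero_smul]
  · intro h
    exact absurd (Finset.mem_univ _) h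

theorem permEquiv_map (hD : LDecomp m D) (π : Equiv.Perm (Fin t)) (l : Fin t) :
    (D l).map ((permEquiv hD π : V ≃ₗ[K] V) : V →ₗ[K] V) = D (π l) := by
  have hle : (D l).map ((permEquiv hD π : V ≃ₗ[K] V) : V →ₗ[K] V) ≤ D (π l) := by
    rintro y ⟨x, hx, rfl⟩
    exact permMap_mem hD π hx
  apply Submodule.eq_of_le_of_finrank_eq hle
  rw [LinearEquiv.finrank_map_eq, hD.finrank_eq, hD.finrank_eq]

/-- [BLK-3B] -/
theorem exists_perm_mem (hD : LDecomp m D) (hm : 1 ≤ m) (π : Equiv.Perm (Fin t)) :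
    ∃ s ∈ stabDec D ⊓ SLe K V, ∀ l, (D l).map ((s : V ≃ₗ[K] V) : V →ₗ[K] V) = D (π l) := by
  rcases Nat.eq_zero_or_pos t with ht | ht
  · subst ht
    exact ⟨1, one_mem _, fun l => l.elim0⟩
  let l₀ : Fin t := ⟨0, ht⟩
  let a₀ : Fin m := ⟨0, hm⟩
  let P : V ≃ₗ[K] V := permEquiv hD π
  let d : Kˣ := LinearEquiv.det P
  let f : Module.Dual K V := (((d⁻¹ : Kˣ) : K) - 1) • hD.coo l₀ a₀
  have hfv : f (hD.vec l₀ a₀) = ((d⁻¹ : Kˣ) : K) - 1 := by
    simp only [f, LinearMap.smul_apply, hD.coo_vec, and_self, if_true, smul_eq_mul, mul_one]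
  have hu : IsUnit (1 + f (hD.vec l₀ a₀)) := by
    rw [hfv, add_sub_cancel]
    exact Units.isUnit _
  have hsupp : SuppOn D f l₀ := by
    intro l hl x hx
    simp only [f, LinearMap.smul_apply]
    rw [hD.coo_apply, hD.proj_of_mem_ne hl hx, map_zero, Finsupp.zero_apply, smul_zero]
  let δ : V ≃ₗ[K] V := LinearEquiv.dilatransvection hu
  have hδmap : ∀ l, (D l).map ((δ : V ≃ₗ[K] V) : V →ₗ[K] V) = D l :=
    fun l => hD.blockDil_map (hD.vec_mem l₀ a₀) hsupp hu l
  have hmap : ∀ l, (D l).map (((P * δ : V ≃ₗ[K] V)) : V →ₗ[K] V) = D (π l) := by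
    intro l
    have e : ((P * δ : V ≃ₗ[K] V) : V →ₗ[K] V) = (P : V →ₗ[K] V) ∘ₗ (δ : V →ₗ[K] V) := rfl
    rw [e, Submodule.map_comp, hδmap l]
    exact permEquiv_map hD π l
  refine ⟨P * δ, Subgroup.mem_inf.2 ⟨⟨π, hmap⟩, ?_⟩, hmap⟩
  rw [SympData.mem_SLe, map_mul]
  apply Units.ext
  rw [Units.val_mul, LDecomp.det_dilatransvection hu, hfv, add_sub_cancel]
  show ((d * d⁻¹ : Kˣ) : K) = ((1 : Kˣ) : K)
  rw [mul_inv_cancel]

end Cfsg.Agent.Lib.Helper46.Blk3B
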