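import Mathlib
import Cfsg.Agent.S0840

/-!
# A consequence of the class multiplication formula

If a class function `Θ` vanishes on all products `x * y` with `x` conjugate to `a` and `y`
conjugate to `b`, then `∑ χ, χ a * χ b / χ 1 * ⟨Θ, χ⟩ = 0`.
-/

set_option autoImplicit false

namespace Cfsg.Agent.Lib.Helper46

open Cfsg
open scoped ComplexConjugate

universe u

theorem sum_char_mul_classInner_eq_zero {G : Type u} [Group G] [Fintype G] (a b : G) (Θ : G → ℂ)
    (hvan : ∀ x y : G, IsConj a x → IsConj b y → Θ (x * y) = 0) :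
    ∑ χ : IrrCharacter G, (χ : G → ℂ) a * (χ : G → ℂ) b / (χ : G → ℂ) 1 *
      classInner Θ (χ : G → ℂ) = 0 := by
  classical
  -- the structure constants
  set N : G → ℂ := fun c =>
    (Nat.card {p : G × G // IsConj a p.1 ∧ IsConj b p.2 ∧ p.1 * p.2 = c} : ℂ) with hN
  have hNΘ : ∀ c, N c * Θ c = 0 := by
    intro c
    by_cases h : Nonempty {p : G × G // IsConj a p.1 ∧ IsConj b p.2 ∧ p.1 * p.2 = c}
    · obtain ⟨⟨p, hp1, hp2, hp3⟩⟩ := h
      rw [← hp3, hvan p.1 p.2 hp1 hp2, mul_zero]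
    · rw [not_nonempty_iff] at h
      simp only [hN]
      rw [Nat.card_of_isEmpty, Nat.cast_zero, zero_mul]
  have hA : (Nat.card {x : G // IsConj a x} : ℂ) ≠ 0 := by
    have : Nonempty {x : G // IsConj a x} := ⟨⟨a, IsConj.refl a⟩⟩
    exact Nat.cast_ne_zero.mpr Nat.card_pos.ne'
  have hB : (Nat.card {x : G // IsConj b x} : ℂ) ≠ 0 := by
    have : Nonempty {x : G // IsConj b x} := ⟨⟨b, IsConj.refl b⟩⟩
    exact Nat.cast_ne_zero.mpr Nat.card_pos.ne'
  have hG : (Nat.card G : ℂ) ≠ 0 := Nat.cast_ne_zero.mpr Nat.card_pos.ne'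
  have hform : ∀ c, N c = (Nat.card {x : G // IsConj a x} : ℂ) *
      (Nat.card {x : G // IsConj b x} : ℂ) / (Nat.card G : ℂ) *
      ∑ χ : IrrCharacter G, (χ : G → ℂ) a * (χ : G → ℂ) b * conj ((χ : G → ℂ) c) /
        (χ : G → ℂ) 1 := by
    intro c
    have := Cfsg.Agent.S0840.result a b c
    rw [finsum_eq_sum_of_fintype] at this
    exact this
  have hsum : ∑ c : G, N c * Θ c = 0 := Finset.sum_eq_zero (fun c _ => hNΘ c)
  simp only [hform] at hsum
  have hsum2 : (Nat.card {x : G // IsConj a x} : ℂ) *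
      (Nat.card {x : G // IsConj b x} : ℂ) / (Nat.card G : ℂ) *
      ∑ c : G, (∑ χ : IrrCharacter G, (χ : G → ℂ) a * (χ : G → ℂ) b * conj ((χ : G → ℂ) c) /
        (χ : G → ℂ) 1) * Θ c = 0 := by
    rw [Finset.mul_sum]
    rw [← hsum]
    apply Finset.sum_congr rfl
    intro c _
    ring
  have hconst : (Nat.card {x : G // IsConj a x} : ℂ) *
      (Nat.card {x : G // IsConj b x} : ℂ) / (Nat.card G : ℂ) ≠ 0 :=
    div_ne_zero (mul_ne_zero hA hB) hG
  have hsum3 := (mul_eq_zero.mp hsum2).resolve_left hconst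
  -- exchange the sums
  have hswap : ∑ c : G, (∑ χ : IrrCharacter G, (χ : G → ℂ) a * (χ : G → ℂ) b *
      conj ((χ : G → ℂ) c) / (χ : G → ℂ) 1) * Θ c =
      (Nat.card G : ℂ) * ∑ χ : IrrCharacter G, (χ : G → ℂ) a * (χ : G → ℂ) b / (χ : G → ℂ) 1 *
        classInner Θ (χ : G → ℂ) := by
    simp only [Finset.sum_mul]
    rw [Finset.sum_comm, Finset.mul_sum]
    apply Finset.sum_congr rfl
    intro χ _
    unfold classInner
    rw [Finset.mul_sum, Finset.mul_sum, Finset.mul_sum]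
    apply Finset.sum_congr rfl
    intro c _
    field_simp
  rw [hswap] at hsum3
  exact (mul_eq_zero.mp hsum3).resolve_left hG

end Cfsg.Agent.Lib.Helper46
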