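import Cfsg.Agent.Lib.Helper46.CosetGraph

set_option autoImplicit false

namespace Cfsg.Agent.Lib.Helper46

open Cfsg

variable {X : Type*} [Group X] {M₁ M₂ : Subgroup X}

/-- In a connected graph, a set of vertices containing a vertex and closed under adjacency is everything. -/
theorem cg_closed_set_univ (hconn : (cosetGraph M₁ M₂).Connected) (P : CosetVertex M₁ M₂ → Prop)
    (v₀ : CosetVertex M₁ M₂) (h0 : P v₀)
    (hstep : ∀ v w, P v → (cosetGraph M₁ M₂).Adj v w → P w) : ∀ v, P v := by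
  intro v
  have hr : (cosetGraph M₁ M₂).Reachable v₀ v := hconn.preconnected v₀ v
  obtain ⟨w⟩ := hr
  induction w with
  | nil => exact h0
  | cons hadj _ ih => exact ih (hstep _ _ h0 hadj)

/-- A subgroup fixing every vertex of the coset graph of an amalgam pair is trivial. -/
theorem cg_fix_all_eq_bot (h : ∀ N : Subgroup X, N ≤ M₁ ⊓ M₂ → N.Normal → N = ⊥) (T : Subgroup X)
    (hT : ∀ v : CosetVertex M₁ M₂, T ≤ MulAction.stabilizer X v) : T = ⊥ := by
  rw [eq_bot_iff]
  intro t ht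
  rw [Subgroup.mem_bot]
  apply cg_faithful h
  rw [map_one]
  ext v
  have := hT v ht
  rw [MulAction.mem_stabilizer_iff] at this
  simpa using this

theorem cg_le_stab_smul_of_mem_normalizer {T : Subgroup X} {k : X}
    (hk : k ∈ Subgroup.normalizer (T : Set X)) {v : CosetVertex M₁ M₂}
    (hv : T ≤ MulAction.stabilizer X v) : T ≤ MulAction.stabilizer X (k • v) := by
  intro t ht
  rw [MulAction.mem_stabilizer_iff]
  have h1 : k⁻¹ * t * k ∈ T := by
    have := (Subgroup.mem_normalizer_iff''.mp hk t).mp ht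
    exact this
  have h2 := hv h1
  rw [MulAction.mem_stabilizer_iff] at h2
  calc t • k • v = k • ((k⁻¹ * t * k) • v) := by simp [mul_smul]
    _ = k • v := by rw [h2]

theorem cg_S2745 (h : IsAmalgamPair M₁ M₂) (δ μ : CosetVertex M₁ M₂)
    (hμ : (cosetGraph M₁ M₂).Adj δ μ) (T : Subgroup X) (hT : T ≤ edgeStabilizer δ μ)
    (hδ : ∀ ν ν' : CosetVertex M₁ M₂, (cosetGraph M₁ M₂).Adj δ ν → (cosetGraph M₁ M₂).Adj δ ν' →
      ∃ g ∈ Subgroup.normalizer (T : Set X) ⊓ MulAction.stabilizer X δ, g • ν = ν')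
    (hμ' : ∀ ν ν' : CosetVertex M₁ M₂, (cosetGraph M₁ M₂).Adj μ ν → (cosetGraph M₁ M₂).Adj μ ν' →
      ∃ g ∈ Subgroup.normalizer (T : Set X) ⊓ MulAction.stabilizer X μ, g • ν = ν') : T = ⊥ := by
  obtain ⟨hgen, _, _, hcore⟩ := h
  have hconn := cg_connected hgen
  have key : ∀ v : CosetVertex M₁ M₂,
      ∃ k ∈ Subgroup.normalizer (T : Set X), v = k • δ ∨ v = k • μ := by
    refine cg_closed_set_univ hconn (fun v => ∃ k ∈ Subgroup.normalizer (T : Set X), v = k • δ ∨ v = k • μ) δ ?_ ?_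
    · exact ⟨1, Subgroup.one_mem _, Or.inl (by simp)⟩
    · rintro v w ⟨k, hk, hv | hv⟩ hadj
      · subst hv
        have h1 : (cosetGraph M₁ M₂).Adj δ (k⁻¹ • w) := by
          have := cg_adj_smul k⁻¹ hadj
          simpa using this
        obtain ⟨g, hg, hgw⟩ := hδ μ (k⁻¹ • w) hμ h1
        refine ⟨k * g, Subgroup.mul_mem _ hk hg.1, Or.inr ?_⟩
        rw [mul_smul, hgw]; simp
      · subst hv
        have h1 : (cosetGraph M₁ M₂).Adj μ (k⁻¹ • w) := by
          have := cg_adj_smul k⁻¹ hadj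
          simpa using this
        obtain ⟨g, hg, hgw⟩ := hμ' δ (k⁻¹ • w) hμ.symm h1
        refine ⟨k * g, Subgroup.mul_mem _ hk hg.1, Or.inl ?_⟩
        rw [mul_smul, hgw]; simp
  apply cg_fix_all_eq_bot hcore
  intro v
  obtain ⟨k, hk, rfl | rfl⟩ := key v
  · exact cg_le_stab_smul_of_mem_normalizer hk (hT.trans inf_le_left)
  · exact cg_le_stab_smul_of_mem_normalizer hk (hT.trans inf_le_right)

end Cfsg.Agent.Lib.Helper46
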