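import Mathlib
import Cfsg.Agent.Lib.Helper84.DSQW.MCBasic

/-!
# Project DSQW (S5248), module [MC-ISO] (helper46)

Two groups with `MC` data for the same parameters are isomorphic by an isomorphism matching the
generators; `MC` data can be swapped (`y ↦ x y` for `η = 0`) and transported along an isomorphism.
-/

set_option autoImplicit false

namespace Cfsg.Agent.Lib.Helper46.DSQW

open Cfsg Cfsg.Agent.Lib.Helper20.QD Cfsg.Agent.Lib.Helper84.DSQW Cfsg.Agent.Lib.Helper84.DSQW.MC

variable {X : Type*} [Group X] {x y : X} {n η δ : ℕ}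

/-- The element with given coordinates: `x ^ i` or `x ^ i * y`. -/
def mcCoord (x y : X) (n : ℕ) (a : ZMod (2 ^ n) × Bool) : X :=
  if a.2 then pw x n a.1 * y else pw x n a.1

/-- The multiplication in coordinates. -/
def mcMul (n η δ : ℕ) (a b : ZMod (2 ^ n) × Bool) : ZMod (2 ^ n) × Bool :=
  if a.2 then
    (if b.2 then (a.1 + ee n η * b.1 + (δ : ZMod (2 ^ n)) * hf n, false)
      else (a.1 + ee n η * b.1, true))
  else (a.1 + b.1, b.2)

theorem mcCoord_mul (h : MC x y n η δ) (a b : ZMod (2 ^ n) × Bool) :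
    mcCoord x y n a * mcCoord x y n b = mcCoord x y n (mcMul n η δ a b) := by
  rcases a with ⟨i, _ | _⟩ <;> rcases b with ⟨j, _ | _⟩
  · simp only [mcCoord, mcMul, Bool.false_eq_true, if_false]
    exact (pw_add h i j).symm
  · simp only [mcCoord, mcMul, Bool.false_eq_true, if_false, if_true]
    exact pw_mul_pwy h i j
  · simp only [mcCoord, mcMul, Bool.false_eq_true, if_false, if_true]
    exact pwy_mul_pw h i j
  · simp only [mcCoord, mcMul, Bool.false_eq_true, if_false, if_true]
    exact pwy_mul_pwy h i j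

theorem mcCoord_injective (h : MC x y n η δ) : Function.Injective (mcCoord x y n) := by
  rintro ⟨i, _ | _⟩ ⟨j, _ | _⟩ hij
  · simp only [mcCoord, Bool.false_eq_true, if_false] at hij
    rw [pw_injective h hij]
  · simp only [mcCoord, Bool.false_eq_true, if_false, if_true] at hij
    exact absurd hij.symm (pwy_ne_pw h j i)
  · simp only [mcCoord, Bool.false_eq_true, if_false, if_true] at hij
    exact absurd hij (pwy_ne_pw h i j)
  · simp only [mcCoord, if_true] at hij
    rw [pw_injective h (mul_right_cancel hij)]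

theorem mcCoord_surjective (h : MC x y n η δ) : Function.Surjective (mcCoord x y n) := by
  intro s
  rcases normal_form h s with ⟨i, rfl⟩ | ⟨i, rfl⟩
  · exact ⟨(i, false), by simp [mcCoord]⟩
  · exact ⟨(i, true), by simp [mcCoord]⟩

end Cfsg.Agent.Lib.Helper46.DSQW

namespace Cfsg.Agent.Lib.Helper84.DSQW

open Cfsg Cfsg.Agent.Lib.Helper20.QD Cfsg.Agent.Lib.Helper46.DSQW

variable {X : Type*} [Group X] {x y : X} {n η δ : ℕ}

namespace MC

/-- MODULE [MC-ISO] (1): two groups with the same `MC` parameters are isomorphic, matching the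
generators. -/
theorem exists_equiv {X' : Type*} [Group X'] {x' y' : X'} (h : MC x y n η δ)
    (h' : MC x' y' n η δ) : ∃ e : X ≃* X', e x = x' ∧ e y = y' := by
  let e₁ : ZMod (2 ^ n) × Bool ≃ X :=
    Equiv.ofBijective _ ⟨mcCoord_injective h, mcCoord_surjective h⟩
  let e₂ : ZMod (2 ^ n) × Bool ≃ X' :=
    Equiv.ofBijective _ ⟨mcCoord_injective h', mcCoord_surjective h'⟩
  have hmul : ∀ s t : X, (e₁.symm.trans e₂) (s * t) =
      (e₁.symm.trans e₂) s * (e₁.symm.trans e₂) t := by
    intro s t
    obtain ⟨a, rfl⟩ := e₁.surjective s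
    obtain ⟨b, rfl⟩ := e₁.surjective t
    have h1 : e₁ a * e₁ b = e₁ (mcMul n η δ a b) := mcCoord_mul h a b
    have h2 : e₂ a * e₂ b = e₂ (mcMul n η δ a b) := mcCoord_mul h' a b
    show e₂ (e₁.symm (e₁ a * e₁ b)) = e₂ (e₁.symm (e₁ a)) * e₂ (e₁.symm (e₁ b))
    rw [h1, Equiv.symm_apply_apply, Equiv.symm_apply_apply, Equiv.symm_apply_apply, h2]
  refine ⟨{ toEquiv := e₁.symm.trans e₂, map_mul' := hmul }, ?_, ?_⟩
  · have hx : e₁ (1, false) = x := by
      show mcCoord x y n (1, false) = x
      simp only [mcCoord, Bool.false_eq_true, if_false]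
      exact pw_one h
    have hx' : e₂ (1, false) = x' := by
      show mcCoord x' y' n (1, false) = x'
      simp only [mcCoord, Bool.false_eq_true, if_false]
      exact pw_one h'
    show e₂ (e₁.symm x) = x'
    rw [← hx, Equiv.symm_apply_apply, hx']
  · have hy : e₁ (0, true) = y := by
      show mcCoord x y n (0, true) = y
      simp only [mcCoord, if_true]
      rw [pw_zero h, one_mul]
    have hy' : e₂ (0, true) = y' := by
      show mcCoord x' y' n (0, true) = y'
      simp only [mcCoord, if_true]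
      rw [pw_zero h', one_mul]
    show e₂ (e₁.symm y) = y'
    rw [← hy, Equiv.symm_apply_apply, hy']

/-- MODULE [MC-ISO] (2): for `η = 0` the generator `y` may be replaced by `x * y`. -/
theorem swap (h : MC x y n 0 δ) : MC x (x * y) n 0 δ := by
  have hc : y * x * y⁻¹ = x⁻¹ := by
    have := h.conj
    rwa [pow_zero, mul_one] at this
  refine ⟨h.hn, h.card, h.ox, ?_, ?_, ?_, h.hη, h.hδ, h.hsd, h.hq⟩
  · intro hm
    apply h.hyx
    have : y = x⁻¹ * (x * y) := by group
    rw [this]
    exact Subgroup.mul_mem _ (Subgroup.inv_mem _ (Subgroup.mem_zpowers x)) hm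
  · rw [pow_zero, mul_one]
    have : x * y * x * (x * y)⁻¹ = x * (y * x * y⁻¹) * x⁻¹ := by group
    rw [this, hc]
    group
  · have : x * y * (x * y) = x * (y * x * y⁻¹) * (y * y) := by group
    rw [this, hc, h.sq]
    group

/-- MODULE [MC-ISO] (3): transport along an isomorphism. -/
theorem map {X' : Type*} [Group X'] (e : X ≃* X') (h : MC x y n η δ) :
    MC (e x) (e y) n η δ := by
  refine ⟨h.hn, ?_, ?_, ?_, ?_, ?_, h.hη, h.hδ, h.hsd, h.hq⟩
  · rw [← h.card]
    exact (Nat.card_congr e.toEquiv).symm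
  · rw [← h.ox]
    exact e.orderOf_eq x
  · intro hm
    apply h.hyx
    rw [Subgroup.mem_zpowers_iff] at hm ⊢
    obtain ⟨k, hk⟩ := hm
    refine ⟨k, ?_⟩
    apply e.injective
    rw [map_zpow, hk]
  · rw [← map_inv, ← map_mul, ← map_mul, h.conj]
    simp only [map_mul, map_inv, map_pow]
  · rw [← map_mul, h.sq]
    simp only [map_pow]

end MC

end Cfsg.Agent.Lib.Helper84.DSQW
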