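import Mathlib
import Cfsg.Agent.Lib.Helper46.DSQWIso

/-!
# Project DSQW (S5248), module [MC-MODELS] (helper46)

The dihedral groups `DihedralGroup (2 ^ n)`, the generalized quaternion groups
`QuaternionGroup (2 ^ k)` and the quasi-dihedral groups carry `MC` data.
-/

set_option autoImplicit false

namespace Cfsg.Agent.Lib.Helper84.DSQW

open Cfsg Cfsg.Agent.Lib.Helper20.QD

/-- MODULE [MC-MODELS] (1) -/
theorem mc_dihedral (n : ℕ) (hn : 2 ≤ n) :
    MC (DihedralGroup.r 1 : DihedralGroup (2 ^ n)) (DihedralGroup.sr 0) n 0 0 := by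
  have : NeZero (2 ^ n) := ⟨by positivity⟩
  refine ⟨hn, ?_, ?_, ?_, ?_, ?_, le_of_lt one_pos, le_of_lt one_pos, ?_, ?_⟩
  · rw [DihedralGroup.nat_card, pow_succ, mul_comm]
  · exact DihedralGroup.orderOf_r_one
  · intro hm
    rw [Subgroup.mem_zpowers_iff] at hm
    obtain ⟨k, hk⟩ := hm
    rw [DihedralGroup.r_one_zpow] at hk
    cases hk
  · rw [pow_zero, mul_one, DihedralGroup.sr_mul_r, DihedralGroup.inv_sr, DihedralGroup.sr_mul_sr,
      DihedralGroup.inv_r]
    congr 1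
    ring
  · rw [pow_zero, DihedralGroup.sr_mul_sr, DihedralGroup.one_def]
    congr 1
    ring
  · intro h; exact absurd h (by norm_num)
  · intro h; exact absurd h (by norm_num)

/-- MODULE [MC-MODELS] (2) -/
theorem mc_quaternion (k : ℕ) (hk : 2 ≤ k) :
    MC (QuaternionGroup.a 1 : QuaternionGroup (2 ^ k)) (QuaternionGroup.xa 0) (k + 1) 0 1 := by
  have : NeZero (2 ^ k) := ⟨by positivity⟩
  have hinv : (QuaternionGroup.a 1 : QuaternionGroup (2 ^ k))⁻¹ = QuaternionGroup.a (-1) :=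
    inv_eq_of_mul_eq_one_right (by rw [QuaternionGroup.a_mul_a, add_neg_cancel, QuaternionGroup.a_zero])
  refine ⟨by omega, ?_, ?_, ?_, ?_, ?_, le_of_lt one_pos, le_refl 1, ?_, ?_⟩
  · rw [Nat.card_eq_fintype_card, QuaternionGroup.card]
    ring
  · rw [QuaternionGroup.orderOf_a_one]
    ring
  · intro hm
    rw [← mem_powers_iff_mem_zpowers] at hm
    obtain ⟨j, hj⟩ := hm
    simp only [QuaternionGroup.a_one_pow] at hj
    cases hj
  · rw [pow_zero, mul_one, mul_inv_eq_iff_eq_mul, hinv, QuaternionGroup.xa_mul_a,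
      QuaternionGroup.a_mul_xa]
    congr 1
    ring
  · rw [pow_one, QuaternionGroup.xa_mul_xa, QuaternionGroup.a_one_pow, Nat.add_sub_cancel]
    congr 1
    push_cast
    ring
  · intro h; exact absurd h (by norm_num)
  · intro _; omega

variable {X : Type*} [Group X]

/-- MODULE [MC-MODELS] (3) -/
theorem mc_of_isQuasiDihedral (hX : IsQuasiDihedral X) (n : ℕ) (hn : Nat.card X = 2 ^ (n + 1)) :
    ∃ x y : X, MC x y n 1 0 := by
  obtain ⟨n', x, y, d⟩ := exists_data hX
  have hnn : n' = n := by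
    have h1 := d.card
    rw [hn] at h1
    have := Nat.pow_right_injective (le_refl 2) h1
    omega
  subst hnn
  have hfin : Finite X := Nat.finite_of_card_ne_zero (by rw [hn]; positivity)
  have hn3 := d.hn
  refine ⟨x, y, by omega, d.card, d.ox, ?_, ?_, ?_, le_refl 1, le_of_lt one_pos, ?_, ?_⟩
  · intro hm
    rw [← mem_powers_iff_mem_zpowers] at hm
    obtain ⟨j, hj⟩ := hm
    apply y_ne_f d (j : ZMod (2 ^ n'))
    rw [f_natCast d]
    exact hj.symm
  · rw [d.rel, pow_one]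
    have hpos : 1 ≤ 2 ^ (n' - 1) := Nat.one_le_two_pow
    rw [eq_inv_mul_iff_mul_eq, ← pow_succ', Nat.sub_add_cancel hpos]
  · rw [pow_zero]
    exact y_mul_self d
  · intro _; exact ⟨rfl, hn3⟩
  · intro h; exact absurd h (by norm_num)

/-- MODULE [MC-MODELS] (4) -/
theorem exists_mc_of_shape [Finite X] (hX : IsPGroup 2 X)
    (h : (∃ m : ℕ, 4 ≤ m ∧ Nonempty (X ≃* DihedralGroup m)) ∨
      (∃ m : ℕ, 3 ≤ m ∧ Nonempty (X ≃* QuaternionGroup m)) ∨ IsQuasiDihedral X) :
    ∃ (x y : X) (n η δ : ℕ), MC x y n η δ := by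
  obtain ⟨j, hj⟩ := IsPGroup.iff_card.1 hX
  rcases h with ⟨m, hm, ⟨e⟩⟩ | ⟨m, hm, ⟨e⟩⟩ | hq
  · have h1 : Nat.card X = 2 * m := by
      rw [Nat.card_congr e.toEquiv, DihedralGroup.nat_card]
    have h2 : m ∣ 2 ^ j := by
      rw [← hj, h1]
      exact dvd_mul_left m 2
    obtain ⟨k, -, hk⟩ := (Nat.dvd_prime_pow Nat.prime_two).1 h2
    subst hk
    have hk2 : 2 ≤ k := by
      by_contra hlt
      have : k ≤ 1 := by omega
      have := Nat.pow_le_pow_right (show 0 < 2 by norm_num) this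
      omega
    exact ⟨_, _, k, 0, 0, (mc_dihedral k hk2).map e.symm⟩
  · have : NeZero m := ⟨by omega⟩
    have h1 : Nat.card X = 4 * m := by
      rw [Nat.card_congr e.toEquiv, Nat.card_eq_fintype_card, QuaternionGroup.card]
    have h2 : m ∣ 2 ^ j := by
      rw [← hj, h1]
      exact dvd_mul_left m 4
    obtain ⟨k, -, hk⟩ := (Nat.dvd_prime_pow Nat.prime_two).1 h2
    subst hk
    have hk2 : 2 ≤ k := by
      by_contra hlt
      have : k ≤ 1 := by omega
      have := Nat.pow_le_pow_right (show 0 < 2 by norm_num) this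
      omega
    exact ⟨_, _, k + 1, 0, 1, (mc_quaternion k hk2).map e.symm⟩
  · obtain ⟨n, hn, hc, -⟩ := id hq
    obtain ⟨x, y, hxy⟩ := mc_of_isQuasiDihedral hq n hc
    exact ⟨x, y, n, 1, 0, hxy⟩

end Cfsg.Agent.Lib.Helper84.DSQW
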