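import Mathlib

set_option autoImplicit false

/-!
Module (MJ) of PROJECT BC (defect one): a nilpotent endomorphism of a finite-dimensional
vector space has a Jordan basis (a basis consisting of chains `v, ν v, …, ν^(e-1) v`
with `ν^e v = 0`).
-/

namespace Cfsg.Agent.Lib.Helper46.DefOneMJ

open Module

universe u w

theorem MJ_aux {F : Type w} [Field F] (d : ℕ) :
    ∀ (V : Type u) [AddCommGroup V] [Module F V] [FiniteDimensional F V] (ν : V →ₗ[F] V),
      IsNilpotent ν → finrank F V = d →
      ∃ (ι : Type) (_ : Fintype ι) (e : ι → ℕ) (v : ι → V), (∀ i, 0 < e i) ∧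
        (∀ i, (ν ^ e i) (v i) = 0) ∧
        LinearIndependent F (fun x : (Σ i, Fin (e i)) => (ν ^ (x.2 : ℕ)) (v x.1)) ∧
        ⊤ ≤ Submodule.span F
          (Set.range fun x : (Σ i, Fin (e i)) => (ν ^ (x.2 : ℕ)) (v x.1)) := by
  induction d using Nat.strong_induction_on with
  | _ d ih =>
    intro V _ _ _ ν hν hd
    obtain ⟨n, hn⟩ := hν
    have hWinv : ∀ x ∈ LinearMap.range ν, ν x ∈ LinearMap.range ν :=
      fun x _ => LinearMap.mem_range_self ν x
    have hcoe : ∀ (j : ℕ) (y : LinearMap.range ν),
        (((ν.restrict hWinv) ^ j) y : V) = (ν ^ j) (y : V) := by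
      intro j y
      rw [Module.End.pow_restrict]
      rfl
    have hν'nil : IsNilpotent (ν.restrict hWinv) := by
      refine ⟨n, ?_⟩
      ext y
      rw [hcoe, hn]
      rfl
    have hrn := LinearMap.finrank_range_add_finrank_ker ν
    by_cases hker : LinearMap.ker ν = ⊥
    · -- `V` is trivial
      have hinj : Function.Injective ν := LinearMap.ker_eq_bot.mp hker
      have hinjn : Function.Injective (ν ^ n) := by
        rw [Module.End.coe_pow]
        exact hinj.iterate n
      have hsub : ∀ a : V, a = 0 := by
        intro a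
        apply hinjn
        rw [hn]
        simp
      refine ⟨Empty, inferInstance, Empty.elim, Empty.elim, fun i => i.elim, fun i => i.elim,
        ?_, ?_⟩
      · exact linearIndependent_empty_type
      · intro x _
        rw [hsub x]
        exact Submodule.zero_mem _
    · -- main case
      have hkerpos : 0 < finrank F (LinearMap.ker ν) := by
        rw [Nat.pos_iff_ne_zero]
        intro h0
        exact hker (Submodule.finrank_eq_zero.mp h0)
      have hlt : finrank F (LinearMap.range ν) < d := by omega
      obtain ⟨ι, hι, e, w, he, hw0, hLI, hsp⟩ :=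
        ih (finrank F (LinearMap.range ν)) hlt (LinearMap.range ν) (ν.restrict hWinv) hν'nil rfl
      -- lifts of the chain generators
      have hex : ∀ i, ∃ y : V, ν y = (w i : V) := fun i => LinearMap.mem_range.mp (w i).2
      choose v hv using hex
      have hpow : ∀ (i : ι) (j : ℕ), (ν ^ (j + 1)) (v i) = (ν ^ j) (w i : V) := by
        intro i j
        rw [pow_succ, Module.End.mul_apply, hv]
      -- the bottom vectors of the chains
      have hLI0 : LinearIndependent F (fun i : ι => (ν ^ (e i)) (v i)) := by
        have hg : Function.Injective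
            (fun i : ι => (⟨i, ⟨e i - 1, Nat.sub_lt (he i) Nat.one_pos⟩⟩ : Σ i, Fin (e i))) := by
          intro a b hab
          exact (Sigma.mk.inj_iff.mp hab).1
        have h1 := (hLI.comp _ hg).map' (LinearMap.range ν).subtype
          (Submodule.ker_subtype _)
        have hfun : (fun i : ι => (ν ^ (e i)) (v i)) =
            (⇑(LinearMap.range ν).subtype ∘
              (fun x : (Σ i, Fin (e i)) => ((ν.restrict hWinv) ^ (x.2 : ℕ)) (w x.1)) ∘
              fun i : ι => (⟨i, ⟨e i - 1, Nat.sub_lt (he i) Nat.one_pos⟩⟩ : Σ i, Fin (e i))) := by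
          funext i
          simp only [Function.comp_apply, Submodule.subtype_apply]
          rw [hcoe]
          have : e i = (e i - 1) + 1 := by have := he i; omega
          conv_lhs => rw [this]
          rw [hpow]
        rw [hfun]
        exact h1
      set K0 : Submodule F V := Submodule.span F (Set.range fun i : ι => (ν ^ (e i)) (v i))
        with hK0
      have hK0card : finrank F K0 = Fintype.card ι := finrank_span_eq_card hLI0
      have hK0ker : K0 ≤ LinearMap.ker ν := by
        rw [hK0, Submodule.span_le]
        rintro _ ⟨i, rfl⟩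
        simp only [SetLike.mem_coe, LinearMap.mem_ker]
        have h1 : ν ((ν ^ (e i)) (v i)) = (ν ^ (e i + 1)) (v i) := by
          rw [pow_succ', Module.End.mul_apply]
        rw [h1, hpow, ← hcoe, hw0]
        rfl
      obtain ⟨C, hC⟩ := Submodule.exists_isCompl K0
      set K1 : Submodule F V := C ⊓ LinearMap.ker ν with hK1
      have hsup : K0 ⊔ K1 = LinearMap.ker ν := by
        rw [hK1, ← sup_inf_assoc_of_le C hK0ker, hC.sup_eq_top, top_inf_eq]
      have hinf : K0 ⊓ K1 = ⊥ := by
        rw [eq_bot_iff, ← hC.inf_eq_bot]
        exact inf_le_inf_left K0 inf_le_left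
      have hdim : finrank F K0 + finrank F K1 = finrank F (LinearMap.ker ν) := by
        have := Submodule.finrank_sup_add_finrank_inf_eq K0 K1
        rw [hsup, hinf, finrank_bot, add_zero] at this
        exact this.symm
      -- a basis of K1
      set m := finrank F K1 with hm
      let b1 : Basis (Fin m) F K1 := Module.finBasis F K1
      let u : Fin m → V := fun k => (b1 k : V)
      have hu_ker : ∀ k, ν (u k) = 0 := fun k =>
        LinearMap.mem_ker.mp ((inf_le_right : K1 ≤ LinearMap.ker ν) (b1 k).2)
      have hu_span : K1 ≤ Submodule.span F (Set.range u) := by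
        intro x hx
        have h1 : (⟨x, hx⟩ : K1) ∈ Submodule.span F (Set.range b1) := by
          rw [b1.span_eq]; trivial
        have h2 := Submodule.mem_map_of_mem (f := K1.subtype) h1
        rw [Submodule.map_span, ← Set.range_comp] at h2
        exact h2
      -- the new family
      let e' : ι ⊕ Fin m → ℕ := Sum.elim (fun i => e i + 1) (fun _ => 1)
      let v' : ι ⊕ Fin m → V := Sum.elim v u
      have hspan : ⊤ ≤ Submodule.span F
          (Set.range fun x : (Σ i, Fin (e' i)) => (ν ^ (x.2 : ℕ)) (v' x.1)) := by
        set S := Submodule.span F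
          (Set.range fun x : (Σ i, Fin (e' i)) => (ν ^ (x.2 : ℕ)) (v' x.1)) with hS
        have ha : ∀ (i : ι) (j : ℕ), j ≤ e i → (ν ^ j) (v i) ∈ S := by
          intro i j hj
          exact Submodule.subset_span
            ⟨⟨Sum.inl i, ⟨j, show j < e i + 1 from Nat.lt_succ_of_le hj⟩⟩, rfl⟩
        have hb : ∀ k : Fin m, u k ∈ S := by
          intro k
          refine Submodule.subset_span ⟨⟨Sum.inr k, ⟨0, show 0 < 1 from Nat.one_pos⟩⟩, ?_⟩
          simp [v']
        have hc : ∀ z : LinearMap.range ν, ∃ y ∈ S, ν y = (z : V) := by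
          intro z
          have hz : z ∈ Submodule.span F
              (Set.range fun x : (Σ i, Fin (e i)) =>
                ((ν.restrict hWinv) ^ (x.2 : ℕ)) (w x.1)) := hsp trivial
          induction hz using Submodule.span_induction with
          | mem z hz =>
            obtain ⟨⟨i, j⟩, rfl⟩ := hz
            refine ⟨(ν ^ (j : ℕ)) (v i), ha i j (le_of_lt j.2), ?_⟩
            rw [hcoe, ← hpow, pow_succ', Module.End.mul_apply]
          | zero => exact ⟨0, Submodule.zero_mem _, by simp⟩
          | add a b _ _ iha ihb =>
            obtain ⟨ya, hya, hya'⟩ := iha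
            obtain ⟨yb, hyb, hyb'⟩ := ihb
            exact ⟨ya + yb, Submodule.add_mem _ hya hyb, by simp [hya', hyb']⟩
          | smul c a _ iha =>
            obtain ⟨ya, hya, hya'⟩ := iha
            exact ⟨c • ya, Submodule.smul_mem _ c hya, by simp [hya']⟩
        intro x _
        obtain ⟨y, hyS, hy⟩ := hc ⟨ν x, LinearMap.mem_range_self ν x⟩
        have hxy : x - y ∈ LinearMap.ker ν := by
          rw [LinearMap.mem_ker, map_sub, hy]
          simp
        have hkerS : LinearMap.ker ν ≤ S := by
          rw [← hsup]
          refine sup_le ?_ ?_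
          · rw [hK0, Submodule.span_le]
            rintro _ ⟨i, rfl⟩
            exact ha i (e i) le_rfl
          · refine hu_span.trans ?_
            rw [Submodule.span_le]
            rintro _ ⟨k, rfl⟩
            exact hb k
        have : x = y + (x - y) := by abel
        rw [this]
        exact Submodule.add_mem _ hyS (hkerS hxy)
      have hcardW : Fintype.card (Σ i, Fin (e i)) = finrank F (LinearMap.range ν) := by
        have hb := Basis.mk hLI hsp
        exact (finrank_eq_card_basis hb).symm
      have hcard : Fintype.card (Σ i, Fin (e' i)) = finrank F V := by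
        have hW' : ∑ i : ι, e i = finrank F (LinearMap.range ν) := by
          rw [← hcardW, Fintype.card_sigma]
          exact Finset.sum_congr rfl fun i _ => (Fintype.card_fin _).symm
        have h1 : Fintype.card (Σ i, Fin (e' i)) = ∑ i, e' i := by
          rw [Fintype.card_sigma]
          exact Finset.sum_congr rfl fun i _ => Fintype.card_fin _
        have h2 : ∑ i, e' i = ∑ i : ι, (e i + 1) + ∑ _k : Fin m, 1 :=
          Fintype.sum_sum_type _
        have h3 : ∑ i : ι, (e i + 1) = ∑ i : ι, e i + Fintype.card ι := by
          rw [Finset.sum_add_distrib]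
          simp
        have h4 : ∑ _k : Fin m, 1 = m := by simp
        rw [h1, h2, h3, h4, hW']
        omega
      refine ⟨ι ⊕ Fin m, inferInstance, e', v', ?_, ?_,
        linearIndependent_of_top_le_span_of_card_eq_finrank hspan hcard, hspan⟩
      · rintro (i | k)
        · exact Nat.succ_pos _
        · exact Nat.one_pos
      · rintro (i | k)
        · show (ν ^ (e i + 1)) (v i) = 0
          rw [hpow, ← hcoe, hw0]
          rfl
        · show (ν ^ 1) (u k) = 0
          rw [pow_one]
          exact hu_ker k

/-- Module (MJ): Jordan basis of a nilpotent endomorphism. -/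
theorem MJ {F : Type*} [Field F] {V : Type*} [AddCommGroup V] [Module F V]
    [FiniteDimensional F V] (ν : V →ₗ[F] V) (hν : IsNilpotent ν) :
    ∃ (ι : Type) (_ : Fintype ι) (e : ι → ℕ) (v : ι → V), (∀ i, 0 < e i) ∧ (∀ i, (ν ^ e i) (v i) = 0) ∧ LinearIndependent F (fun x : (Σ i, Fin (e i)) => (ν ^ (x.2 : ℕ)) (v x.1)) ∧ ⊤ ≤ Submodule.span F (Set.range fun x : (Σ i, Fin (e i)) => (ν ^ (x.2 : ℕ)) (v x.1)) :=
  MJ_aux (finrank F V) V ν hν rfl

end Cfsg.Agent.Lib.Helper46.DefOneMJ
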