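/-
helper46 for helper91's project F4OUT (S2128), module [C-LAW]: the group law of the Suzuki root subgroup of `²F₄`
and the action of the torus on the two fundamental root subgroups.
-/
import Cfsg.Agent.Lib.Helper91.F4Out.F4Defs

set_option autoImplicit false
set_option linter.unusedSectionVars false
set_option linter.unusedSimpArgs false

namespace Cfsg.Agent.Lib.Helper46.F4Out

open Cfsg Cfsg.Lie Cfsg.Agent.Lib.Helper18 Cfsg.Agent.Lib.Helper18.F4T Cfsg.Agent.Lib.Helper91.TwOut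
open Cfsg.Agent.Lib.Helper91.ReeF4 Cfsg.Agent.Lib.Helper91.SigAbs Cfsg.Agent.Lib.Helper91.ExcAut
open Cfsg.Agent.Lib.Helper61.ReeF4 Cfsg.Agent.Lib.Helper91.F4Out

universe u

variable (K : Type u) [Field K] [Fintype K] [CharP K 2] (m : ℕ) (hq : ∀ t : K, t ^ (2 * 2 ^ m * 2 ^ m) = t)

include hq in
/-- [C-LAW] the group law of the root subgroup of type `²B₂`. -/
theorem xb_mul (t υ t' υ' : K) :
    xb K m t υ * xb K m t' υ' = xb K m (t + t') (υ + υ' + t ^ 2 ^ m * t') := by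
  apply Subtype.ext
  rw [Subgroup.coe_mul, coe_xb, coe_xb, coe_xb]
  exact quadW_mul m hq t υ t' υ'

/-- The action of `f4H e c d` on the pair words. -/
theorem h46_f4H_conj_pairW (e : ℕ) (c d : Kˣ) (t : K) :
    f4H e c d * pairW e t * (f4H e c d)⁻¹ = pairW e ((c : K)⁻¹ * (d : K) ^ 2 * t) := by
  obtain ⟨⟨a1, a2, a3, a4⟩, ⟨b1, b2, b3, b4⟩, -⟩ := cartan_tab6
  rw [pairW_eq, pairW_eq]
  unfold f4H
  rw [conj_mul4, tor4_conj_xG _ _ _ _ 33 (by norm_num), tor4_conj_xG _ _ _ _ 24 (by norm_num),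
    a1, a2, a3, a4, b1, b2, b3, b4]
  congr 2
  · simp only [one_pow, Units.val_one, Units.val_pow_eq_pow_val, zpow_neg, zpow_ofNat, zpow_zero, zpow_one,
      inv_one, mul_one, one_zpow, pow_zero]
    rw [mul_pow, mul_pow, inv_pow]
    ring
  · simp only [one_pow, Units.val_one, Units.val_pow_eq_pow_val, zpow_neg, zpow_ofNat, zpow_zero, zpow_one,
      inv_one, mul_one, one_mul, one_zpow, pow_zero, pow_one]

/-- [C-LAW] the action of the torus on the root subgroup of the class `{p₁, p₄}`. -/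
theorem hF4_conj_xa (c d : Kˣ) (t : K) :
    hF4 K m hq c d * xa K m t * (hF4 K m hq c d)⁻¹ = xa K m ((c : K)⁻¹ * (d : K) ^ 2 * t) := by
  apply Subtype.ext
  rw [Subgroup.coe_mul, Subgroup.coe_mul, Subgroup.coe_inv, coe_hF4, coe_xa, coe_xa]
  exact h46_f4H_conj_pairW K (2 ^ m) c d t

include hq in
/-- The action of `f4H θ 1 d` on the class words of type `B₂`. -/
theorem h46_f4H_conj_quadW (d : Kˣ) (t υ : K) :
    f4H (2 ^ m) 1 d * quadW (2 ^ m) t υ * (f4H (2 ^ m) 1 d)⁻¹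
      = quadW (2 ^ m) ((d : K)⁻¹ * t) (((d : K) * (d : K) ^ 2 ^ m)⁻¹ * υ) := by
  obtain ⟨-, -, ⟨a1, a2, a3, a4⟩, ⟨b1, b2, b3, b4⟩, ⟨c1, c2, c3, c4⟩, ⟨d1, d2, d3, d4⟩⟩ := cartan_tab6
  have hY : (d : K) ≠ 0 := d.ne_zero
  have hX : (d : K) ^ 2 ^ m ≠ 0 := pow_ne_zero _ hY
  have hXX : (((d : K) ^ 2 ^ m) ^ 2 ^ m) ^ 2 = (d : K) := by
    rw [← pow_mul, ← pow_mul]
    have := hq (d : K)
    rw [← this]
    congr 1
    ring
  unfold quadW b2ClassWord f4H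
  simp only [wordG_cons, wordG_nil, mul_one]
  rw [conj_mul4, conj_mul4, conj_mul4, tor4_conj_xG _ _ _ _ 27 (by norm_num), tor4_conj_xG _ _ _ _ 25 (by norm_num),
    tor4_conj_xG _ _ _ _ 28 (by norm_num), tor4_conj_xG _ _ _ _ 30 (by norm_num),
    a1, a2, a3, a4, b1, b2, b3, b4, c1, c2, c3, c4, d1, d2, d3, d4]
  simp only [one_pow, Units.val_one, Units.val_pow_eq_pow_val, zpow_neg, zpow_ofNat, zpow_zero, zpow_one,
    inv_one, mul_one, one_mul, one_zpow]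
  generalize hXdef : (d : K) ^ 2 ^ m = X at *
  have hκ : ((d : K)⁻¹ * t) ^ 2 ^ m = X⁻¹ * t ^ 2 ^ m := by
    rw [mul_pow, inv_pow, hXdef]
  have e1 : ((d : K)⁻¹ * t) ^ (2 ^ m + 1) + ((d : K) * X)⁻¹ * υ = X⁻¹ * (d : K)⁻¹ * (t ^ (2 ^ m + 1) + υ) := by
    rw [pow_succ, hκ, pow_succ]
    field_simp
  have e2 : (((d : K) * X)⁻¹ * υ) ^ (2 * 2 ^ m) = (X ^ 2)⁻¹ * (d : K)⁻¹ * υ ^ (2 * 2 ^ m) := by
    rw [mul_pow, inv_pow, mul_pow, mul_comm 2 (2 ^ m), pow_mul (d : K), hXdef, pow_mul X, hXX, mul_inv]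
  rw [hκ, e1, e2]
  simp only [pow_one, pow_zero, one_mul, mul_one]

include hq in
/-- [C-LAW] the action of the torus on the root subgroup of type `²B₂`. -/
theorem hF4_conj_xb (d : Kˣ) (t υ : K) :
    hF4 K m hq 1 d * xb K m t υ * (hF4 K m hq 1 d)⁻¹
      = xb K m ((d : K)⁻¹ * t) (((d : K) * (d : K) ^ 2 ^ m)⁻¹ * υ) := by
  apply Subtype.ext
  rw [Subgroup.coe_mul, Subgroup.coe_mul, Subgroup.coe_inv, coe_hF4, coe_xb, coe_xb]
  exact h46_f4H_conj_quadW K m hq d t υ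

end Cfsg.Agent.Lib.Helper46.F4Out
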