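/-
helper46 for helper91's project F4OUT (S2128), module [C-XINJ]: the parametrizations of the fundamental root
subgroups of `²F₄` are injective, and the orders of the positive fundamental root subgroups.
-/
import Cfsg.Agent.Lib.Helper91.F4Out.F4Defs

set_option autoImplicit false
set_option linter.unusedSectionVars false
set_option linter.unusedSimpArgs false

namespace Cfsg.Agent.Lib.Helper46.F4Out

open Cfsg Cfsg.Lie Cfsg.Agent.Lib.Helper18 Cfsg.Agent.Lib.Helper18.F4T Cfsg.Agent.Lib.Helper91.TwOut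
open Cfsg.Agent.Lib.Helper91.ReeF4 Cfsg.Agent.Lib.Helper91.SigAbs Cfsg.Agent.Lib.Helper91.ExcAut
open Cfsg.Agent.Lib.Helper61.ReeF4 Cfsg.Agent.Lib.Helper91.F4Out

universe u

variable (K : Type u) [Field K] [Fintype K] [CharP K 2] (m : ℕ) (hq : ∀ t : K, t ^ (2 * 2 ^ m * 2 ^ m) = t)

/-- The coefficient function of a pair word. -/
def h46_cfA (A B : K) : ℕ → K := fun r => if r = 33 then A else if r = 24 then B else 0

/-- The coefficient function of a class word of type `B₂`. -/
def h46_cfB (A B C D : K) : ℕ → K := fun r =>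
  if r = 27 then A else if r = 25 then B else if r = 28 then C else if r = 30 then D else 0

theorem h46_prodL_cfA (A B : K) :
    prodL hD4 (rootsL posBlks) (h46_cfA K A B) = xG hD4 33 A * xG hD4 24 B := by
  rw [rootsL_posBlks]
  simp only [prodL_cons, prodL_nil, h46_cfA]
  norm_num [xG_zero]

theorem h46_prodL_cfB (A B C D : K) :
    prodL hD4 (rootsL posBlks) (h46_cfB K A B C D)
      = xG hD4 27 A * (xG hD4 25 B * (xG hD4 28 C * xG hD4 30 D)) := by
  rw [rootsL_posBlks]
  simp only [prodL_cons, prodL_nil, h46_cfB]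
  norm_num [xG_zero]

theorem h46_pair_inj (A B A' B' : K) (h : xG hD4 33 A * xG hD4 24 B = xG hD4 33 A' * xG hD4 24 B') :
    A = A' ∧ B = B' := by
  obtain ⟨hok, hnd, hl, hall, hmem⟩ := perm_facts posBlks (List.Perm.refl _)
  rw [← h46_prodL_cfA, ← h46_prodL_cfA] at h
  have h2 := prodL_injective_of_fintype hD4 _ hl hnd hall _ _ h
  have h33 := h2 33 (by rw [rootsL_posBlks]; decide)
  have h24 := h2 24 (by rw [rootsL_posBlks]; decide)
  simp only [h46_cfA] at h33 h24
  norm_num at h33 h24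
  exact ⟨h33, h24⟩

theorem h46_quad_inj (A B C D A' B' C' D' : K)
    (h : xG hD4 27 A * (xG hD4 25 B * (xG hD4 28 C * xG hD4 30 D))
      = xG hD4 27 A' * (xG hD4 25 B' * (xG hD4 28 C' * xG hD4 30 D'))) :
    A = A' ∧ B = B' ∧ C = C' ∧ D = D' := by
  obtain ⟨hok, hnd, hl, hall, hmem⟩ := perm_facts posBlks (List.Perm.refl _)
  rw [← h46_prodL_cfB, ← h46_prodL_cfB] at h
  have h2 := prodL_injective_of_fintype hD4 _ hl hnd hall _ _ h
  have h27 := h2 27 (by rw [rootsL_posBlks]; decide)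
  have h25 := h2 25 (by rw [rootsL_posBlks]; decide)
  have h28 := h2 28 (by rw [rootsL_posBlks]; decide)
  have h30 := h2 30 (by rw [rootsL_posBlks]; decide)
  simp only [h46_cfB] at h27 h25 h28 h30
  norm_num at h27 h25 h28 h30
  exact ⟨h27, h25, h28, h30⟩

theorem h46_pairW_injective (e : ℕ) (t t' : K) (h : pairW e t = pairW e t') : t = t' := by
  rw [pairW_eq, pairW_eq] at h
  exact (h46_pair_inj K _ _ _ _ h).2

theorem h46_quadW_injective (e : ℕ) (t υ t' υ' : K) (h : quadW e t υ = quadW e t' υ') : t = t' ∧ υ = υ' := by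
  unfold quadW b2ClassWord at h
  simp only [wordG_cons, wordG_nil, mul_one] at h
  obtain ⟨-, h2, h3, -⟩ := h46_quad_inj K _ _ _ _ _ _ _ _ h
  refine ⟨h2, ?_⟩
  rw [h2] at h3
  exact add_left_cancel h3

/-- [C-XINJ] -/
theorem xa_injective : Function.Injective (xa K m) := by
  intro t t' h
  have h1 := congrArg (Subtype.val) h
  rw [coe_xa, coe_xa] at h1
  exact h46_pairW_injective K _ t t' h1

/-- The negative pair words are conjugate to the positive ones. -/
theorem h46_conj_pairW (t : K) :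
    nW hD4 chevData_F4.{u} [0, 3] * pairW (2 ^ m) t * (nW hD4 chevData_F4.{u} [0, 3])⁻¹
      = xG hD4 14 (t ^ 2 ^ m) * xG hD4 23 t := by
  have h1 := nW_conj_blk_word (K := K) (2 ^ m) [0, 3] (by decide) (Blk.pair 33 24) (by decide) t 0
  rw [map_J1.2] at h1
  have h2 : wordG hD4 ((Blk.pair 14 23).word (2 ^ m) t 0) = xG hD4 14 (t ^ 2 ^ m) * xG hD4 23 t := by
    show wordG hD4 (f4PairWord (2 ^ m) 14 23 t) = _
    unfold f4PairWord
    rw [wordG_cons, wordG_cons, wordG_nil, mul_one]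
  rw [← h2, ← h1]
  rfl

theorem ya_injective : Function.Injective (ya K m) := by
  intro t t' h
  have h1 := congrArg (Subtype.val) h
  rw [coe_ya, coe_ya, ← h46_conj_pairW, ← h46_conj_pairW] at h1
  have h2 : pairW (2 ^ m) t = pairW (2 ^ m) t' := by
    exact mul_left_cancel (mul_right_cancel h1)
  exact h46_pairW_injective K _ t t' h2

theorem xb_injective (t υ t' υ' : K) (h : xb K m t υ = xb K m t' υ') : t = t' ∧ υ = υ' := by
  have h1 := congrArg (Subtype.val) h
  rw [coe_xb, coe_xb] at h1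
  exact h46_quadW_injective K _ t υ t' υ' h1

theorem card_XF4 (hK : Fintype.card K = 2 ^ (2 * m + 1))
    (hX0 : ∀ g : ↥(GF4 K m), g ∈ XF4 K m 0 ↔ ∃ t, g = xa K m t)
    (hX1 : ∀ g : ↥(GF4 K m), g ∈ XF4 K m 1 ↔ ∃ t υ, g = xb K m t υ) (i : Fin 2) :
    Nat.card ↥(XF4 K m i) = 2 ^ (![2 * m + 1, 2 * (2 * m + 1)] i) := by
  fin_cases i
  · show Nat.card ↥(XF4 K m 0) = 2 ^ (2 * m + 1)
    let f : K → ↥(XF4 K m 0) := fun t => ⟨xa K m t, (hX0 _).mpr ⟨t, rfl⟩⟩
    have hf : Function.Bijective f := by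
      constructor
      · intro t t' h
        exact xa_injective K m (congrArg Subtype.val h)
      · rintro ⟨g, hg⟩
        obtain ⟨t, rfl⟩ := (hX0 g).mp hg
        exact ⟨t, rfl⟩
    rw [← Nat.card_congr (Equiv.ofBijective f hf), Nat.card_eq_fintype_card, hK]
  · show Nat.card ↥(XF4 K m 1) = 2 ^ (2 * (2 * m + 1))
    let f : K × K → ↥(XF4 K m 1) := fun p => ⟨xb K m p.1 p.2, (hX1 _).mpr ⟨p.1, p.2, rfl⟩⟩
    have hf : Function.Bijective f := by
      constructor
      · rintro ⟨t, υ⟩ ⟨t', υ'⟩ h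
        obtain ⟨h1, h2⟩ := xb_injective K m t υ t' υ' (congrArg Subtype.val h)
        rw [h1, h2]
      · rintro ⟨g, hg⟩
        obtain ⟨t, υ, rfl⟩ := (hX1 g).mp hg
        exact ⟨(t, υ), rfl⟩
    rw [← Nat.card_congr (Equiv.ofBijective f hf), Nat.card_eq_fintype_card, Fintype.card_prod, hK, ← pow_add]
    congr 1
    ring

end Cfsg.Agent.Lib.Helper46.F4Out
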