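/-
helper46: project FL (S2863, helper48), module FL-[POW]:
if every nontrivial element of odd order acts fixed-point-freely, so does every element whose order is not a power
of `2` (a suitable power has odd order `≠ 1`).
-/
import Mathlib
import Cfsg.Agent.Lib.Helper48.FL.Defs

set_option autoImplicit false

namespace Cfsg.Agent.Lib.Helper46.FL

open Cfsg Cfsg.Agent.Lib.Helper48 Cfsg.Agent.Lib.Helper48.FL

universe u

/-- a fixed point of an automorphism is fixed by its powers -/
theorem h46_pow_fix {W : Type*} [Group W] (f : MulAut W) (x : W) (hx : f x = x) (n : ℕ) : (f ^ n) x = x := by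
  induction n with
  | zero => simp
  | succ n ih => rw [pow_succ, MulAut.mul_apply, hx, ih]

/-- FL-[POW] -/
theorem fpf_of_odd {K : Type u} [Group K] [Finite K] {W : Type u} [CommGroup W] (φ : K →* MulAut W)
    (hodd : ∀ h : K, h ≠ 1 → Odd (orderOf h) → Fpf φ h)
    (k : K) (hk : ¬ ∃ n : ℕ, orderOf k = 2 ^ n) : Fpf φ k := by
  have hpos : orderOf k ≠ 0 := (orderOf_pos k).ne'
  obtain ⟨a, m, hm, hkm⟩ := Nat.exists_eq_two_pow_mul_odd hpos
  have hm1 : m ≠ 1 := by
    intro h
    apply hk
    exact ⟨a, by rw [hkm, h, mul_one]⟩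
  have h2a : (2 : ℕ) ^ a ≠ 0 := pow_ne_zero _ (by norm_num)
  have hord : orderOf (k ^ 2 ^ a) = m := by
    rw [orderOf_pow_of_dvd h2a ⟨m, hkm⟩, hkm, Nat.mul_div_cancel_left _ (Nat.pos_of_ne_zero h2a)]
  have hne : k ^ 2 ^ a ≠ 1 := by
    intro h
    rw [h, orderOf_one] at hord
    exact hm1 hord.symm
  intro x hx
  apply hodd (k ^ 2 ^ a) hne (by rw [hord]; exact hm) x
  rw [map_pow]
  exact h46_pow_fix (φ k) x hx _

end Cfsg.Agent.Lib.Helper46.FL
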