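/-
helper46: project FL (S2863, helper48), module FL-[SL2TR]:
an element of `SL(2,F)`, `char F = p`, with trace `2` satisfies `g ^ p = 1` (Cayley-Hamilton: `(g - 1)² = 0`).
-/
import Mathlib
import Cfsg.Agent.Lib.Helper48.FL.Defs

set_option autoImplicit false

namespace Cfsg.Agent.Lib.Helper46.FL

open Cfsg Cfsg.Agent.Lib.Helper48 Cfsg.Agent.Lib.Helper48.FL
open Matrix Matrix.SpecialLinearGroup
open scoped MatrixGroups
open Cfsg.Agent.Lib.Helper19.NatSL2

section SL2

variable {F : Type*} [Field F] {W : Type*} [CommGroup W]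

/-- Cayley-Hamilton for a `2 × 2` matrix of determinant `1` and trace `2`. -/
theorem h46_sub_one_sq (A : Matrix (Fin 2) (Fin 2) F) (hdet : A.det = 1) (htr : A 0 0 + A 1 1 = 2) :
    (A - 1) * (A - 1) = 0 := by
  rw [Matrix.det_fin_two] at hdet
  ext i j
  fin_cases i <;> fin_cases j
  · simp [Matrix.mul_apply, Fin.sum_univ_two]
    linear_combination (A 0 0) * htr - hdet
  · simp [Matrix.mul_apply, Fin.sum_univ_two]
    linear_combination (A 0 1) * htr
  · simp [Matrix.mul_apply, Fin.sum_univ_two]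
    linear_combination (A 1 0) * htr
  · simp [Matrix.mul_apply, Fin.sum_univ_two]
    linear_combination (A 1 1) * htr - hdet

/-- FL-[SL2TR] -/
theorem orderOf_of_trace_two {p : ℕ} [Fact p.Prime] [CharP F p] (g : SL(2, F))
    (hg : g.1 0 0 + g.1 1 1 = 2) : g ^ p = 1 := by
  have hp2 : 2 ≤ p := (Fact.out : p.Prime).two_le
  have hN : (g.1 - 1) * (g.1 - 1) = 0 := h46_sub_one_sq g.1 g.2 hg
  have hNp : (g.1 - 1) ^ p = 0 := by
    obtain ⟨k, rfl⟩ : ∃ k, p = 2 + k := ⟨p - 2, by omega⟩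
    rw [pow_add, pow_two, hN, zero_mul]
  have hcomm : Commute (g.1 - 1) (1 : Matrix (Fin 2) (Fin 2) F) := Commute.one_right _
  have h1 : g.1 ^ p = 1 := by
    have e : g.1 = (g.1 - 1) + 1 := by abel
    rw [e, add_pow_char_of_commute _ hcomm, hNp, one_pow, zero_add]
  apply Subtype.ext
  rw [Matrix.SpecialLinearGroup.coe_pow, h1, Matrix.SpecialLinearGroup.coe_one]

end SL2

end Cfsg.Agent.Lib.Helper46.FL
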