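import Mathlib
import Cfsg.Agent.Lib.Helper2.FWDefs
import Cfsg.Agent.Lib.Helper95.FWInv
import Cfsg.Agent.Lib.Helper95.FWFlip

/-!
# Project FW (S3211, helper2), module [FW-SWAP] (hedge by helper46): a conjugate `u ≠ j` of `j`
commuting with `j` can be swapped with `j`.
-/

set_option autoImplicit false

namespace Cfsg.Agent.Lib.Helper46.FW

open Cfsg.Agent.Lib.Helper2.FW

variable {G : Type*} [Group G] {L₁ L₂ : Subgroup G} {j n : G}

/-- An involution of `C_G(j)` other than `1`, `j` is conjugate in `C_G(j)` to its product with `j`. -/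
theorem h46_flip_invol (H : Hyp L₁ L₂ j n) (t : G) (htj : t * j = j * t) (htt : t * t = 1)
    (h1 : t ≠ 1) (hj : t ≠ j) : ∃ w, w * j = j * w ∧ w * t * w⁻¹ = t * j := by
  rcases Cfsg.Agent.Lib.Helper95.FW.invol_cases H htj htt with h | h | ⟨x, hx, y, hy, hxx, hyy, rfl⟩
  · exact absurd h h1
  · exact absurd h hj
  · exact Cfsg.Agent.Lib.Helper95.FW.flip H hx hy hxx hyy

/-- [FW-SWAP] a conjugate `u ≠ j` of `j` commuting with `j` can be swapped with `j`. -/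
theorem swap (H : Hyp L₁ L₂ j n) {g : G} (hne : g * j * g⁻¹ ≠ j)
    (hcomm : (g * j * g⁻¹) * j = j * (g * j * g⁻¹)) :
    ∃ ρ, ρ * j * ρ⁻¹ = g * j * g⁻¹ ∧ ρ * (g * j * g⁻¹) * ρ⁻¹ = j := by
  have hjj := H.j_sq
  generalize hu : g * j * g⁻¹ = u at *
  have huu : u * u = 1 := by
    rw [← hu]
    calc g * j * g⁻¹ * (g * j * g⁻¹) = g * (j * j) * g⁻¹ := by group
      _ = 1 := by rw [hjj]; group
  have hu1 : u ≠ 1 := by
    intro h
    apply H.j_ne
    calc j = g⁻¹ * (g * j * g⁻¹) * g := by group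
      _ = 1 := by rw [hu, h]; group
  obtain ⟨w0, hw0j, hw0u⟩ := h46_flip_invol H u hcomm huu hu1 hne
  generalize hj0 : g⁻¹ * j * g = j0 at *
  have hj0j0 : j0 * j0 = 1 := by
    rw [← hj0]
    calc g⁻¹ * j * g * (g⁻¹ * j * g) = g⁻¹ * (j * j) * g := by group
      _ = 1 := by rw [hjj]; group
  have hj01 : j0 ≠ 1 := by
    intro h
    apply H.j_ne
    calc j = g * (g⁻¹ * j * g) * g⁻¹ := by group
      _ = 1 := by rw [hj0, h]; group
  have hj0j : j0 ≠ j := by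
    intro h
    apply hne
    rw [← hu]
    calc g * j * g⁻¹ = g * (g⁻¹ * j * g) * g⁻¹ := by rw [hj0, h]
      _ = j := by group
  have hj0c : j0 * j = j * j0 := by
    have e1 : g⁻¹ * (u * j) * g = j * j0 := by rw [← hu, ← hj0]; group
    have e2 : g⁻¹ * (j * u) * g = j0 * j := by rw [← hu, ← hj0]; group
    rw [← e2, ← e1, hcomm]
  obtain ⟨w1, hw1j, hw1j0⟩ := h46_flip_invol H j0 hj0c hj0j0 hj01 hj0j
  have hw1j' : w1 * j * w1⁻¹ = j := by rw [hw1j]; group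
  have hw0j' : w0 * j * w0⁻¹ = j := by rw [hw0j]; group
  generalize hy : g * w1 * g⁻¹ = y at *
  have hyu : y * u * y⁻¹ = u := by
    rw [← hy, ← hu]
    calc g * w1 * g⁻¹ * (g * j * g⁻¹) * (g * w1 * g⁻¹)⁻¹ = g * (w1 * j * w1⁻¹) * g⁻¹ := by group
      _ = g * j * g⁻¹ := by rw [hw1j']
  have hyj : y * j * y⁻¹ = j * u := by
    calc y * j * y⁻¹ = g * (w1 * j0 * w1⁻¹) * g⁻¹ := by rw [← hy, ← hj0]; group
      _ = g * (j0 * j) * g⁻¹ := by rw [hw1j0]
      _ = j * u := by rw [← hj0, ← hu]; group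
  have hyj' : y⁻¹ * j * y = j * u := by
    have h1 : y * (j * u) * y⁻¹ = j := by
      calc y * (j * u) * y⁻¹ = (y * j * y⁻¹) * (y * u * y⁻¹) := by group
        _ = j * u * u := by rw [hyj, hyu]
        _ = j := by rw [mul_assoc, huu, mul_one]
    calc y⁻¹ * j * y = y⁻¹ * (y * (j * u) * y⁻¹) * y := by rw [h1]
      _ = j * u := by group
  have hyu' : y⁻¹ * u * y = u := by
    calc y⁻¹ * u * y = y⁻¹ * (y * u * y⁻¹) * y := by rw [hyu]
      _ = u := by group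
  refine ⟨y * w0 * y⁻¹, ?_, ?_⟩
  · calc y * w0 * y⁻¹ * j * (y * w0 * y⁻¹)⁻¹ = y * (w0 * (y⁻¹ * j * y) * w0⁻¹) * y⁻¹ := by group
      _ = y * (w0 * (j * u) * w0⁻¹) * y⁻¹ := by rw [hyj']
      _ = y * ((w0 * j * w0⁻¹) * (w0 * u * w0⁻¹)) * y⁻¹ := by group
      _ = y * (j * (u * j)) * y⁻¹ := by rw [hw0u, hw0j']
      _ = y * u * y⁻¹ := by
          have : j * (u * j) = u := by rw [hcomm, ← mul_assoc, hjj, one_mul]
          rw [this]
      _ = u := hyu
  · calc y * w0 * y⁻¹ * u * (y * w0 * y⁻¹)⁻¹ = y * (w0 * (y⁻¹ * u * y) * w0⁻¹) * y⁻¹ := by group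
      _ = y * (w0 * u * w0⁻¹) * y⁻¹ := by rw [hyu']
      _ = y * (u * j) * y⁻¹ := by rw [hw0u]
      _ = (y * u * y⁻¹) * (y * j * y⁻¹) := by group
      _ = u * (j * u) := by rw [hyu, hyj]
      _ = j := by
          have : u * (j * u) = j := by rw [← hcomm, ← mul_assoc, huu, one_mul]
          exact this

end Cfsg.Agent.Lib.Helper46.FW
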