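import Mathlib

/-!
# Set-up and transport lemmas for S2277 (helper46)

`GPHyp p P N C D` : `P` a `p`-subgroup, `N` a normal `p'`-subgroup, `N ⊔ P = ⊤`, `P` generated by
`C` and by `D`, and `⟨x c x⁻¹, d⟩` a `p`-group for all `x ∈ N`, `c ∈ C`, `d ∈ D`.
-/

set_option autoImplicit false

namespace Cfsg.Agent.Lib.Helper46

structure GPHyp (p : ℕ) {G : Type*} [Group G] (P N : Subgroup G) (C D : Set G) : Prop where
  pP : IsPGroup p P
  nN : N.Normal
  cop : (Nat.card N).Coprime p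
  sup : N ⊔ P = ⊤
  hC : Subgroup.closure C = P
  hD : Subgroup.closure D = P
  h : ∀ x ∈ N, ∀ c ∈ C, ∀ d ∈ D, IsPGroup p ↥(Subgroup.closure ({x * c * x⁻¹, d} : Set G))

namespace GPHyp

variable {p : ℕ} [Fact p.Prime] {G : Type*} [Group G] {P N : Subgroup G} {C D : Set G}

theorem inf_eq_bot [Finite G] (hyp : GPHyp p P N C D) : N ⊓ P = ⊥ := by
  apply disjoint_iff.mp
  apply Subgroup.disjoint_of_coprime_natCard
  obtain ⟨k, hk⟩ := IsPGroup.iff_card.mp hyp.pP
  rw [hk]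
  exact Nat.Coprime.pow_right k hyp.cop

theorem card_eq [Finite G] (hyp : GPHyp p P N C D) : Nat.card N * Nat.card P = Nat.card G := by
  have := hyp.nN
  have hcompl : Subgroup.IsComplement' N P := by
    apply Subgroup.isComplement'_of_disjoint_and_mul_eq_univ
    · rw [disjoint_iff]; exact hyp.inf_eq_bot
    · rw [← Subgroup.normal_mul, hyp.sup]; rfl
  exact hcompl.card_mul_card

theorem not_dvd_card [Finite G] (hyp : GPHyp p P N C D) : ¬ p ∣ Nat.card N := by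
  intro h
  have h1 := Nat.Coprime.eq_one_of_dvd hyp.cop.symm h
  exact (Fact.out : p.Prime).one_lt.ne' h1

theorem le_normalizer (hyp : GPHyp p P N C D) : P ≤ Subgroup.normalizer (N : Set G) := by
  have := hyp.nN
  rw [Subgroup.normalizer_eq_top]
  exact le_top

/-- transport to a quotient -/
theorem quotient (hyp : GPHyp p P N C D) (K : Subgroup G) [K.Normal] :
    GPHyp p (P.map (QuotientGroup.mk' K)) (N.map (QuotientGroup.mk' K))
      ((QuotientGroup.mk' K) '' C) ((QuotientGroup.mk' K) '' D) where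
  pP := hyp.pP.map _
  nN := Subgroup.Normal.map hyp.nN _ (QuotientGroup.mk'_surjective K)
  cop := Nat.Coprime.coprime_dvd_left (Subgroup.card_map_dvd _ _) hyp.cop
  sup := by
    rw [← Subgroup.map_sup, hyp.sup, ← MonoidHom.range_eq_map,
      MonoidHom.range_eq_top.mpr (QuotientGroup.mk'_surjective K)]
  hC := by rw [← MonoidHom.map_closure, hyp.hC]
  hD := by rw [← MonoidHom.map_closure, hyp.hD]
  h := by
    rintro _ ⟨x, hx, rfl⟩ _ ⟨c, hc, rfl⟩ _ ⟨d, hd, rfl⟩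
    have h1 := (hyp.h x hx c hc d hd).map (QuotientGroup.mk' K)
    rw [MonoidHom.map_closure, Set.image_pair, map_mul, map_mul, map_inv] at h1
    exact h1

/-- transport to a subgroup `M ⊔ P`, `M ≤ N` normalized by `P` -/
theorem restrict [Finite G] (hyp : GPHyp p P N C D) (M : Subgroup G) (hMN : M ≤ N)
    (hPM : P ≤ Subgroup.normalizer (M : Set G)) :
    GPHyp p (P.subgroupOf (M ⊔ P)) (M.subgroupOf (M ⊔ P))
      ((M ⊔ P).subtype ⁻¹' C) ((M ⊔ P).subtype ⁻¹' D) where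
  pP := hyp.pP.comap_subtype
  nN := by
    rw [Subgroup.normal_subgroupOf_iff_le_normalizer le_sup_left]
    exact sup_le Subgroup.le_normalizer hPM
  cop := by
    have h1 : Nat.card ↥(M.subgroupOf (M ⊔ P)) = Nat.card M :=
      Nat.card_congr (Subgroup.subgroupOfEquivOfLe le_sup_left).toEquiv
    rw [h1]
    exact Nat.Coprime.coprime_dvd_left (Subgroup.card_dvd_of_le hMN) hyp.cop
  sup := by
    exact codisjoint_iff.mp (Subgroup.codisjoint_subgroupOf_sup M P)
  hC := by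
    apply Subgroup.map_injective (M ⊔ P).subtype_injective
    rw [MonoidHom.map_closure, Subgroup.subgroupOf_map_subtype, Set.image_preimage_eq_inter_range,
      Subgroup.coe_subtype, Subtype.range_coe_subtype]
    have hCP : C ⊆ (P : Set G) := by
      rw [← hyp.hC]; exact Subgroup.subset_closure
    have h1 : C ∩ {x | x ∈ M ⊔ P} = C := by
      apply Set.inter_eq_left.mpr
      intro x hx
      exact (le_sup_right : P ≤ M ⊔ P) (hCP hx)
    rw [h1, hyp.hC]
    exact (inf_eq_left.mpr le_sup_right).symm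
  hD := by
    apply Subgroup.map_injective (M ⊔ P).subtype_injective
    rw [MonoidHom.map_closure, Subgroup.subgroupOf_map_subtype, Set.image_preimage_eq_inter_range,
      Subgroup.coe_subtype, Subtype.range_coe_subtype]
    have hDP : D ⊆ (P : Set G) := by
      rw [← hyp.hD]; exact Subgroup.subset_closure
    have h1 : D ∩ {x | x ∈ M ⊔ P} = D := by
      apply Set.inter_eq_left.mpr
      intro x hx
      exact (le_sup_right : P ≤ M ⊔ P) (hDP hx)
    rw [h1, hyp.hD]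
    exact (inf_eq_left.mpr le_sup_right).symm
  h := by
    intro x hx c hc d hd
    have h1 := hyp.h (x : G) (hMN (Subgroup.mem_subgroupOf.mp hx)) (c : G) hc (d : G) hd
    intro g
    have hg : ((g : ↥(M ⊔ P)) : G) ∈ Subgroup.closure ({(x : G) * c * (x : G)⁻¹, (d : G)} : Set G) := by
      have h2 : (Subgroup.closure ({x * c * x⁻¹, d} : Set ↥(M ⊔ P))).map (M ⊔ P).subtype =
          Subgroup.closure ({(x : G) * c * (x : G)⁻¹, (d : G)} : Set G) := by
        rw [MonoidHom.map_closure, Set.image_pair]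
        simp
      rw [← h2]
      exact Subgroup.mem_map_of_mem _ g.2
    obtain ⟨k, hk⟩ := h1 ⟨_, hg⟩
    refine ⟨k, ?_⟩
    have h3 : (((g : ↥(M ⊔ P)) : G)) ^ p ^ k = 1 := by
      have := congrArg Subtype.val hk
      simpa using this
    apply Subtype.ext
    apply Subtype.ext
    simpa using h3

/-- the Sylow argument: `N = C_N(d) C_N(c)` -/
theorem factor [Finite G] (hyp : GPHyp p P N C D) {c d x : G} (hc : c ∈ C) (hd : d ∈ D)
    (hx : x ∈ N) :
    ∃ y ∈ N ⊓ Subgroup.centralizer ({d} : Set G), ∃ w ∈ N ⊓ Subgroup.centralizer ({c} : Set G),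
      x = y * w := by
  have hnN := hyp.nN
  have hidx : ¬ p ∣ P.index := by
    have h1 := hyp.card_eq
    have h2 := P.card_mul_index
    have h3 : P.index = Nat.card N := by
      have hpos : 0 < Nat.card P := Nat.card_pos
      apply Nat.eq_of_mul_eq_mul_left hpos
      rw [h2, ← h1, mul_comm]
    rw [h3]; exact hyp.not_dvd_card
  let S : Sylow p G := hyp.pP.toSylow hidx
  obtain ⟨S', hS'⟩ := (hyp.h x hx c hc d hd).exists_le_sylow
  obtain ⟨g, hg⟩ := MulAction.exists_smul_eq G S S'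
  have hgmem : g ∈ ((N ⊔ P : Subgroup G) : Set G) := by rw [hyp.sup]; trivial
  rw [Subgroup.normal_mul] at hgmem
  obtain ⟨y, hy, t, ht, rfl⟩ := Set.mem_mul.mp hgmem
  have hcP : c ∈ P := by rw [← hyp.hC]; exact Subgroup.subset_closure hc
  have hdP : d ∈ P := by rw [← hyp.hD]; exact Subgroup.subset_closure hd
  have htS : t • S = S := by
    rw [Sylow.smul_eq_iff_mem_normalizer]
    exact Subgroup.le_normalizer ((IsPGroup.mem_toSylow hyp.pP hidx).mpr ht)
  have hS'eq : S' = y • S := by rw [← hg, mul_smul, htS]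
  have key : ∀ a ∈ Subgroup.closure ({x * c * x⁻¹, d} : Set G), y⁻¹ * a * y ∈ P := by
    intro a ha
    have h1 : a ∈ (S' : Subgroup G) := hS' ha
    rw [hS'eq, Sylow.coe_subgroup_smul, Subgroup.mem_pointwise_smul_iff_inv_smul_mem] at h1
    have h2 : (MulAut.conj y)⁻¹ • a = y⁻¹ * a * y := by
      rw [MulAut.smul_def, MulAut.conj_inv_apply]
    rw [h2] at h1
    exact (IsPGroup.mem_toSylow hyp.pP hidx).mp h1
  have hNP := hyp.inf_eq_bot
  have hyd : y⁻¹ * d * y = d := by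
    have h1 : y⁻¹ * d * y ∈ P := key d (Subgroup.subset_closure (by simp))
    have h2 : y⁻¹ * d * y * d⁻¹ ∈ P := P.mul_mem h1 (P.inv_mem hdP)
    have h3 : y⁻¹ * d * y * d⁻¹ ∈ N := by
      have h4 : d * y * d⁻¹ ∈ N := hnN.conj_mem y hy d
      have h5 : y⁻¹ * d * y * d⁻¹ = y⁻¹ * (d * y * d⁻¹) := by group
      rw [h5]
      exact N.mul_mem (N.inv_mem hy) h4
    have h6 : y⁻¹ * d * y * d⁻¹ ∈ N ⊓ P := ⟨h3, h2⟩
    rw [hNP, Subgroup.mem_bot] at h6
    exact mul_inv_eq_one.mp h6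
  have hwc : (y⁻¹ * x) * c * (y⁻¹ * x)⁻¹ = c := by
    have h1 : y⁻¹ * (x * c * x⁻¹) * y ∈ P := key _ (Subgroup.subset_closure (by simp))
    have h1' : (y⁻¹ * x) * c * (y⁻¹ * x)⁻¹ ∈ P := by
      have : (y⁻¹ * x) * c * (y⁻¹ * x)⁻¹ = y⁻¹ * (x * c * x⁻¹) * y := by group
      rw [this]; exact h1
    have h2 : (y⁻¹ * x) * c * (y⁻¹ * x)⁻¹ * c⁻¹ ∈ P := P.mul_mem h1' (P.inv_mem hcP)
    have hwN : y⁻¹ * x ∈ N := N.mul_mem (N.inv_mem hy) hx
    have h3 : (y⁻¹ * x) * c * (y⁻¹ * x)⁻¹ * c⁻¹ ∈ N := by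
      have h4 : c * (y⁻¹ * x)⁻¹ * c⁻¹ ∈ N := hnN.conj_mem _ (N.inv_mem hwN) c
      have h5 : (y⁻¹ * x) * c * (y⁻¹ * x)⁻¹ * c⁻¹ = (y⁻¹ * x) * (c * (y⁻¹ * x)⁻¹ * c⁻¹) := by group
      rw [h5]
      exact N.mul_mem hwN h4
    have h6 : (y⁻¹ * x) * c * (y⁻¹ * x)⁻¹ * c⁻¹ ∈ N ⊓ P := ⟨h3, h2⟩
    rw [hNP, Subgroup.mem_bot] at h6
    exact mul_inv_eq_one.mp h6
  refine ⟨y, ⟨hy, ?_⟩, y⁻¹ * x, ⟨N.mul_mem (N.inv_mem hy) hx, ?_⟩, by group⟩
  · show y ∈ Subgroup.centralizer ({d} : Set G)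
    rw [Subgroup.mem_centralizer_singleton_iff]
    calc y * d = y * (y⁻¹ * d * y) := by rw [hyd]
      _ = d * y := by group
  · show y⁻¹ * x ∈ Subgroup.centralizer ({c} : Set G)
    rw [Subgroup.mem_centralizer_singleton_iff]
    calc y⁻¹ * x * c = (y⁻¹ * x) * c * (y⁻¹ * x)⁻¹ * (y⁻¹ * x) := by group
      _ = c * (y⁻¹ * x) := by rw [hwc]

/-- consequence: `|N| ≤ |C_N(d)| |C_N(c)|` -/
theorem card_le_mul [Finite G] (hyp : GPHyp p P N C D) {c d : G} (hc : c ∈ C) (hd : d ∈ D) :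
    Nat.card N ≤ Nat.card ↥(N ⊓ Subgroup.centralizer ({d} : Set G)) *
      Nat.card ↥(N ⊓ Subgroup.centralizer ({c} : Set G)) := by
  rw [← Nat.card_prod]
  apply Nat.card_le_card_of_surjective
    (fun t : ↥(N ⊓ Subgroup.centralizer ({d} : Set G)) × ↥(N ⊓ Subgroup.centralizer ({c} : Set G)) =>
      (⟨(t.1 : G) * t.2, N.mul_mem t.1.2.1 t.2.2.1⟩ : ↥N))
  intro x
  obtain ⟨y, hy, w, hw, hxy⟩ := hyp.factor hc hd x.2
  exact ⟨(⟨y, hy⟩, ⟨w, hw⟩), Subtype.ext hxy.symm⟩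

end GPHyp

end Cfsg.Agent.Lib.Helper46
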