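import Mathlib

/-!
# Three independent "eigen-subgroups" of a Heisenberg-type action (helper46, for S2277)

If `c, u, z` act by conjugation on an abelian normal subgroup `V`, with `z` commuting with `c, u`,
`u c u⁻¹ = c z`, and `z`, `z²` fixed-point-free on `V`, then `C_V(c)`, `C_V(cz)`, `C_V(cz²)` are
independent conjugates, so `|C_V(c)|³ ≤ |V|`.
-/

set_option autoImplicit false

open scoped IsMulCommutative

namespace Cfsg.Agent.Lib.Helper46

theorem indep3_add {M : Type*} [AddCommGroup M] (σ κ : M →+ M)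
    (hcomm : ∀ x, κ (σ x) = σ (κ x))
    (h1 : ∀ x, σ x = x → x = 0) (h2 : ∀ x, σ (σ x) = x → x = 0)
    {x₀ x₁ x₂ : M} (hx₀ : κ x₀ = x₀) (hx₁ : κ (σ x₁) = x₁) (hx₂ : κ (σ (σ x₂)) = x₂)
    (h : x₀ + x₁ + x₂ = 0) : x₀ = 0 ∧ x₁ = 0 ∧ x₂ = 0 := by
  have f1 : σ (κ x₁) = x₁ := (hcomm x₁).symm.trans hx₁
  have f2 : σ (σ (κ x₂)) = x₂ := by
    rw [← hcomm x₂, ← hcomm (σ x₂)]; exact hx₂
  have E1 : σ (σ x₀) + σ x₁ + x₂ = 0 := by
    have h3 := congrArg (fun t => σ (σ (κ t))) h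
    simp only [map_add, map_zero] at h3
    rw [hx₀, f1, f2] at h3
    exact h3
  have E2 : (σ (σ x₀) - x₀) + (σ x₁ - x₁) = 0 := by
    calc (σ (σ x₀) - x₀) + (σ x₁ - x₁) = (σ (σ x₀) + σ x₁ + x₂) - (x₀ + x₁ + x₂) := by abel
      _ = 0 := by rw [E1, h, sub_zero]
  have kb₀ : κ (σ (σ x₀) - x₀) = σ (σ x₀) - x₀ := by
    rw [map_sub, hcomm (σ x₀), hcomm x₀, hx₀]
  have kb₁ : κ (σ (σ x₁ - x₁)) = σ x₁ - x₁ := by
    rw [map_sub, map_sub, hx₁, hcomm (σ x₁), hx₁]
  have E3 : σ (σ (σ x₀) - x₀) + (σ x₁ - x₁) = 0 := by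
    have h4 := congrArg (fun t => κ (σ t)) E2
    simp only [map_add, map_zero] at h4
    rw [hcomm (σ (σ x₀) - x₀), kb₀, kb₁] at h4
    exact h4
  have hb₀ : σ (σ (σ x₀) - x₀) = σ (σ x₀) - x₀ := by
    have h5 : σ (σ (σ x₀) - x₀) - (σ (σ x₀) - x₀) = 0 := by
      calc σ (σ (σ x₀) - x₀) - (σ (σ x₀) - x₀)
          = (σ (σ (σ x₀) - x₀) + (σ x₁ - x₁)) - ((σ (σ x₀) - x₀) + (σ x₁ - x₁)) := by abel
        _ = 0 := by rw [E3, E2, sub_zero]
    exact sub_eq_zero.mp h5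
  have hb₀0 : σ (σ x₀) - x₀ = 0 := h1 _ hb₀
  have hx₀0 : x₀ = 0 := h2 _ (sub_eq_zero.mp hb₀0)
  have hb₁0 : σ x₁ - x₁ = 0 := by
    rw [hb₀0, zero_add] at E2; exact E2
  have hx₁0 : x₁ = 0 := h1 _ (sub_eq_zero.mp hb₁0)
  refine ⟨hx₀0, hx₁0, ?_⟩
  rw [hx₀0, hx₁0, zero_add, zero_add] at h
  exact h

theorem indep3_mul {M : Type*} [CommGroup M] (σ κ : M →* M)
    (hcomm : ∀ x, κ (σ x) = σ (κ x))
    (h1 : ∀ x, σ x = x → x = 1) (h2 : ∀ x, σ (σ x) = x → x = 1)
    {x₀ x₁ x₂ : M} (hx₀ : κ x₀ = x₀) (hx₁ : κ (σ x₁) = x₁) (hx₂ : κ (σ (σ x₂)) = x₂)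
    (h : x₀ * x₁ * x₂ = 1) : x₀ = 1 ∧ x₁ = 1 ∧ x₂ = 1 :=
  indep3_add (M := Additive M) (MonoidHom.toAdditive σ) (MonoidHom.toAdditive κ)
    hcomm h1 h2 (x₀ := Additive.ofMul x₀) (x₁ := Additive.ofMul x₁) (x₂ := Additive.ofMul x₂)
    hx₀ hx₁ hx₂ h

variable {G : Type*} [Group G]

/-- conjugation by `g` on a normal subgroup, as an endomorphism -/
def conjHom (V : Subgroup G) [hV : V.Normal] (g : G) : ↥V →* ↥V where
  toFun x := ⟨g * x * g⁻¹, hV.conj_mem x x.2 g⟩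
  map_one' := by ext; simp
  map_mul' a b := by ext; simp [mul_assoc]

theorem conjHom_coe (V : Subgroup G) [V.Normal] (g : G) (x : ↥V) :
    ((conjHom V g x : ↥V) : G) = g * x * g⁻¹ := rfl

theorem conjHom_mul (V : Subgroup G) [V.Normal] (g h : G) (x : ↥V) :
    conjHom V (g * h) x = conjHom V g (conjHom V h x) := by
  apply Subtype.ext
  simp only [conjHom_coe]
  group

theorem conjHom_eq_self_iff (V : Subgroup G) [V.Normal] (g : G) (x : ↥V) :
    conjHom V g x = x ↔ (x : G) ∈ Subgroup.centralizer ({g} : Set G) := by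
  rw [Subgroup.mem_centralizer_singleton_iff, Subtype.ext_iff, conjHom_coe]
  constructor
  · intro h
    calc (x : G) * g = g * x * g⁻¹ * g := by rw [h]
      _ = g * x := by group
  · intro h
    rw [← h]; group

/-- conjugating the centralizer: an injection `C_V(a) → C_V(g a g⁻¹)` -/
theorem card_centralizer_le_conj [Finite G] (V : Subgroup G) [hV : V.Normal] (a g : G) :
    Nat.card ↥(V ⊓ Subgroup.centralizer ({a} : Set G)) ≤
      Nat.card ↥(V ⊓ Subgroup.centralizer ({g * a * g⁻¹} : Set G)) := by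
  apply Nat.card_le_card_of_injective
    (fun x : ↥(V ⊓ Subgroup.centralizer ({a} : Set G)) =>
      (⟨g * x * g⁻¹, by
        have hx := x.2
        rw [Subgroup.mem_inf] at hx
        obtain ⟨hxV, hxa⟩ := hx
        rw [Subgroup.mem_inf]
        refine ⟨hV.conj_mem x hxV g, ?_⟩
        rw [Subgroup.mem_centralizer_singleton_iff] at hxa ⊢
        calc g * (x : G) * g⁻¹ * (g * a * g⁻¹) = g * (x * a) * g⁻¹ := by group
          _ = g * (a * x) * g⁻¹ := by rw [hxa]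
          _ = g * a * g⁻¹ * (g * (x : G) * g⁻¹) := by group⟩ :
        ↥(V ⊓ Subgroup.centralizer ({g * a * g⁻¹} : Set G))))
  intro x y hxy
  have h1 : g * (x : G) * g⁻¹ = g * (y : G) * g⁻¹ := congrArg Subtype.val hxy
  apply Subtype.ext
  calc (x : G) = g⁻¹ * (g * x * g⁻¹) * g := by group
    _ = g⁻¹ * (g * y * g⁻¹) * g := by rw [h1]
    _ = y := by group

theorem card_cube_le [Finite G] (V : Subgroup G) [hV : V.Normal]
    (hVc : ∀ x ∈ V, ∀ y ∈ V, x * y = y * x) (c u z : G)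
    (hzc : z * c = c * z) (hzu : z * u = u * z) (huc : u * c * u⁻¹ = c * z)
    (hz1 : V ⊓ Subgroup.centralizer ({z} : Set G) = ⊥)
    (hz2 : V ⊓ Subgroup.centralizer ({z * z} : Set G) = ⊥) :
    Nat.card ↥(V ⊓ Subgroup.centralizer ({c} : Set G)) ^ 3 ≤ Nat.card V := by
  have hVcomm : IsMulCommutative ↥V := ⟨⟨fun a b => Subtype.ext (hVc a a.2 b b.2)⟩⟩
  -- conjugates
  have huz : u * z * u⁻¹ = z := by rw [← hzu]; group
  have hucz : u * (c * z) * u⁻¹ = c * z * z := by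
    calc u * (c * z) * u⁻¹ = (u * c * u⁻¹) * (u * z * u⁻¹) := by group
      _ = c * z * z := by rw [huc, huz]
  have hc01 : Nat.card ↥(V ⊓ Subgroup.centralizer ({c} : Set G)) ≤
      Nat.card ↥(V ⊓ Subgroup.centralizer ({c * z} : Set G)) := by
    have := card_centralizer_le_conj V c u
    rwa [huc] at this
  have hc12 : Nat.card ↥(V ⊓ Subgroup.centralizer ({c * z} : Set G)) ≤
      Nat.card ↥(V ⊓ Subgroup.centralizer ({c * z * z} : Set G)) := by
    have := card_centralizer_le_conj V (c * z) u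
    rwa [hucz] at this
  -- the injection
  have hinj : Nat.card (↥(V ⊓ Subgroup.centralizer ({c} : Set G)) ×
      ↥(V ⊓ Subgroup.centralizer ({c * z} : Set G)) ×
      ↥(V ⊓ Subgroup.centralizer ({c * z * z} : Set G))) ≤ Nat.card V := by
    apply Nat.card_le_card_of_injective
      (fun t : ↥(V ⊓ Subgroup.centralizer ({c} : Set G)) ×
          ↥(V ⊓ Subgroup.centralizer ({c * z} : Set G)) ×
          ↥(V ⊓ Subgroup.centralizer ({c * z * z} : Set G)) =>
        ((⟨t.1, t.1.2.1⟩ : ↥V) * ⟨t.2.1, t.2.1.2.1⟩ * ⟨t.2.2, t.2.2.2.1⟩ : ↥V))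
    rintro ⟨a, b, d⟩ ⟨a', b', d'⟩ hEq
    simp only at hEq
    set A : ↥V := ⟨a, a.2.1⟩ with hA
    set B : ↥V := ⟨b, b.2.1⟩ with hB
    set D : ↥V := ⟨d, d.2.1⟩ with hD
    set A' : ↥V := ⟨a', a'.2.1⟩ with hA'
    set B' : ↥V := ⟨b', b'.2.1⟩ with hB'
    set D' : ↥V := ⟨d', d'.2.1⟩ with hD'
    have hprod : (A / A') * (B / B') * (D / D') = 1 := by
      rw [div_mul_div_comm, div_mul_div_comm, hEq, div_self']
    have hσκ : ∀ x, conjHom V c (conjHom V z x) = conjHom V z (conjHom V c x) := by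
      intro x
      apply Subtype.ext
      simp only [conjHom_coe]
      calc c * (z * (x : G) * z⁻¹) * c⁻¹ = (c * z) * x * (c * z)⁻¹ := by group
        _ = (z * c) * x * (z * c)⁻¹ := by rw [hzc]
        _ = z * (c * (x : G) * c⁻¹) * z⁻¹ := by group
    have hfix1 : ∀ x, conjHom V z x = x → x = 1 := by
      intro x hx
      have h3 : (x : G) ∈ V ⊓ Subgroup.centralizer ({z} : Set G) :=
        ⟨x.2, (conjHom_eq_self_iff V z x).mp hx⟩
      rw [hz1, Subgroup.mem_bot] at h3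
      exact Subtype.ext h3
    have hfix2 : ∀ x, conjHom V z (conjHom V z x) = x → x = 1 := by
      intro x hx
      have h4 : conjHom V (z * z) x = x := by rw [conjHom_mul]; exact hx
      have h3 : (x : G) ∈ V ⊓ Subgroup.centralizer ({z * z} : Set G) :=
        ⟨x.2, (conjHom_eq_self_iff V (z * z) x).mp h4⟩
      rw [hz2, Subgroup.mem_bot] at h3
      exact Subtype.ext h3
    -- membership facts
    have mem0 : ∀ x : ↥(V ⊓ Subgroup.centralizer ({c} : Set G)),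
        conjHom V c (⟨x, x.2.1⟩ : ↥V) = ⟨x, x.2.1⟩ := by
      intro x
      exact (conjHom_eq_self_iff V c _).mpr x.2.2
    have mem1 : ∀ x : ↥(V ⊓ Subgroup.centralizer ({c * z} : Set G)),
        conjHom V c (conjHom V z (⟨x, x.2.1⟩ : ↥V)) = ⟨x, x.2.1⟩ := by
      intro x
      rw [← conjHom_mul]
      exact (conjHom_eq_self_iff V (c * z) (⟨x, x.2.1⟩ : ↥V)).mpr x.2.2
    have mem2 : ∀ x : ↥(V ⊓ Subgroup.centralizer ({c * z * z} : Set G)),
        conjHom V c (conjHom V z (conjHom V z (⟨x, x.2.1⟩ : ↥V))) = ⟨x, x.2.1⟩ := by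
      intro x
      rw [← conjHom_mul, ← conjHom_mul]
      exact (conjHom_eq_self_iff V (c * z * z) (⟨x, x.2.1⟩ : ↥V)).mpr x.2.2
    obtain ⟨e0, e1, e2⟩ := indep3_mul (conjHom V z) (conjHom V c) hσκ hfix1 hfix2
      (x₀ := A / A') (x₁ := B / B') (x₂ := D / D')
      (by rw [map_div, mem0 a, mem0 a'])
      (by rw [map_div, map_div, mem1 b, mem1 b'])
      (by rw [map_div, map_div, map_div, mem2 d, mem2 d'])
      hprod
    have ea : A = A' := div_eq_one.mp e0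
    have eb : B = B' := div_eq_one.mp e1
    have ed : D = D' := div_eq_one.mp e2
    have ea' : (a : G) = a' := congrArg (fun t : ↥V => (t : G)) ea
    have eb' : (b : G) = b' := congrArg (fun t : ↥V => (t : G)) eb
    have ed' : (d : G) = d' := congrArg (fun t : ↥V => (t : G)) ed
    rw [Prod.mk.injEq, Prod.mk.injEq]
    exact ⟨Subtype.ext ea', Subtype.ext eb', Subtype.ext ed'⟩
  rw [Nat.card_prod, Nat.card_prod] at hinj
  calc Nat.card ↥(V ⊓ Subgroup.centralizer ({c} : Set G)) ^ 3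
      = Nat.card ↥(V ⊓ Subgroup.centralizer ({c} : Set G)) *
        (Nat.card ↥(V ⊓ Subgroup.centralizer ({c} : Set G)) *
          Nat.card ↥(V ⊓ Subgroup.centralizer ({c} : Set G))) := by ring
    _ ≤ Nat.card ↥(V ⊓ Subgroup.centralizer ({c} : Set G)) *
        (Nat.card ↥(V ⊓ Subgroup.centralizer ({c * z} : Set G)) *
          Nat.card ↥(V ⊓ Subgroup.centralizer ({c * z * z} : Set G))) := by
      apply Nat.mul_le_mul_left
      exact Nat.mul_le_mul hc01 (hc01.trans hc12)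
    _ ≤ Nat.card V := hinj

end Cfsg.Agent.Lib.Helper46
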