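import Mathlib
import Cfsg.Agent.Lib.Helper46.GenPair
import Cfsg.Agent.Lib.Helper46.Indep3
import Cfsg.Agent.Lib.Helper48.Generation
import Cfsg.Agent.Lib.Helper48.Coprime
import Cfsg.Agent.S0126

/-!
# The final contradiction for S2277 (helper46): faithful irreducible abelian case
-/

set_option autoImplicit false

open scoped commutatorElement

namespace Cfsg.Agent.Lib.Helper46

variable {G : Type*} [Group G]

theorem le_normalizer_of_conj_mem' {H Q : Subgroup G}
    (h : ∀ q ∈ Q, ∀ x ∈ H, q * x * q⁻¹ ∈ H) : Q ≤ Subgroup.normalizer (H : Set G) := by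
  intro q hq
  rw [Subgroup.mem_normalizer_iff]
  intro x
  constructor
  · exact h q hq x
  · intro hx
    have h1 := h q⁻¹ (Q.inv_mem hq) _ hx
    have h2 : q⁻¹ * (q * x * q⁻¹) * q⁻¹⁻¹ = x := by group
    rwa [h2] at h1

theorem exists_ne_one_of_closure_ne_bot {S : Set G} (h : Subgroup.closure S ≠ ⊥) :
    ∃ s ∈ S, s ≠ 1 := by
  by_contra hcon
  push Not at hcon
  apply h
  rw [Subgroup.closure_eq_bot_iff]
  intro s hs
  exact hcon s hs

theorem nat_le_one_of_cubes {n a b : ℕ} (hn : 0 < n) (hab : n ≤ a * b) (ha : a ^ 3 ≤ n)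
    (hb : b ^ 3 ≤ n) : n ≤ 1 := by
  have h1 : n ^ 3 ≤ (a * b) ^ 3 := Nat.pow_le_pow_left hab 3
  have h2 : (a * b) ^ 3 = a ^ 3 * b ^ 3 := by ring
  have h3 : a ^ 3 * b ^ 3 ≤ n * n := Nat.mul_le_mul ha hb
  have h4 : n * n * n ≤ n * n * 1 := by
    calc n * n * n = n ^ 3 := by ring
      _ ≤ n * n := by rw [h2] at h1; exact h1.trans h3
      _ = n * n * 1 := by ring
  exact Nat.le_of_mul_le_mul_left h4 (Nat.mul_pos hn hn)

theorem final_contra [Finite G] {p : ℕ} [Fact p.Prime] (hp3 : 3 ≤ p)
    {P V : Subgroup G} {C D : Set G} (hyp : GPHyp p P V C D)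
    (hVc : ∀ x ∈ V, ∀ y ∈ V, x * y = y * x) (hV : V ≠ ⊥) (hP : P ≠ ⊥)
    (hfaith : P ⊓ Subgroup.centralizer (V : Set G) = ⊥)
    (hirr : ∀ M : Subgroup G, M ≤ V → P ≤ Subgroup.normalizer (M : Set G) → M = ⊥ ∨ M = V) :
    False := by
  have hVn : V.Normal := hyp.nN
  have hpp : p.Prime := Fact.out
  -- (i) central elements of P act fixed-point-freely
  have central_fix : ∀ z ∈ P, (∀ g ∈ P, g * z = z * g) → z ≠ 1 →
      V ⊓ Subgroup.centralizer ({z} : Set G) = ⊥ := by
    intro z hzP hzc hz1
    have hnorm : P ≤ Subgroup.normalizer ((V ⊓ Subgroup.centralizer ({z} : Set G) : Subgroup G) : Set G) := by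
      apply le_normalizer_of_conj_mem'
      intro g hg m hm
      rw [Subgroup.mem_inf] at hm ⊢
      refine ⟨hVn.conj_mem m hm.1 g, ?_⟩
      have h1 := Subgroup.mem_centralizer_singleton_iff.mp hm.2
      rw [Subgroup.mem_centralizer_singleton_iff]
      have h2 := hzc g hg
      have h3 : g⁻¹ * z = z * g⁻¹ := by
        calc g⁻¹ * z = g⁻¹ * (z * g) * g⁻¹ := by group
          _ = g⁻¹ * (g * z) * g⁻¹ := by rw [h2]
          _ = z * g⁻¹ := by group
      calc g * m * g⁻¹ * z = g * m * (g⁻¹ * z) := by group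
        _ = g * m * (z * g⁻¹) := by rw [h3]
        _ = g * (m * z) * g⁻¹ := by group
        _ = g * (z * m) * g⁻¹ := by rw [h1]
        _ = (g * z) * m * g⁻¹ := by group
        _ = (z * g) * m * g⁻¹ := by rw [h2]
        _ = z * (g * m * g⁻¹) := by group
    rcases hirr _ inf_le_left hnorm with h | h
    · exact h
    · exfalso
      apply hz1
      have hz : z ∈ P ⊓ Subgroup.centralizer (V : Set G) := by
        refine ⟨hzP, ?_⟩
        show z ∈ Subgroup.centralizer (V : Set G)
        rw [Subgroup.mem_centralizer_iff]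
        intro v hv
        have hv' : v ∈ V ⊓ Subgroup.centralizer ({z} : Set G) := by rw [h]; exact hv
        exact (Subgroup.mem_centralizer_singleton_iff.mp hv'.2)
      rw [hfaith, Subgroup.mem_bot] at hz
      exact hz
  have hCne : ∃ c ∈ C, c ≠ 1 := exists_ne_one_of_closure_ne_bot (by rw [hyp.hC]; exact hP)
  have hDne : ∃ d ∈ D, d ≠ 1 := exists_ne_one_of_closure_ne_bot (by rw [hyp.hD]; exact hP)
  have hCP : ∀ c ∈ C, c ∈ P := fun c hc => by rw [← hyp.hC]; exact Subgroup.subset_closure hc
  have hDP : ∀ d ∈ D, d ∈ P := fun d hd => by rw [← hyp.hD]; exact Subgroup.subset_closure hd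
  have hVpos : 0 < Nat.card V := Nat.card_pos
  have hVcard : 1 < Nat.card V := (Subgroup.one_lt_card_iff_ne_bot V).mpr hV
  by_cases hab : ∀ g ∈ P, ∀ h ∈ P, g * h = h * g
  · -- abelian case
    obtain ⟨c, hc, hc1⟩ := hCne
    obtain ⟨d, hd, hd1⟩ := hDne
    have h1 := central_fix c (hCP c hc) (fun g hg => hab g hg c (hCP c hc)) hc1
    have h2 := central_fix d (hDP d hd) (fun g hg => hab g hg d (hDP d hd)) hd1
    have h3 := hyp.card_le_mul hc hd
    rw [h1, h2] at h3
    simp at h3
    omega
  · -- non-abelian case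
    have hnc : ¬ IsCyclic ↥P := by
      intro hcyc
      apply hab
      intro g hg h hh
      have hcm : IsMulCommutative ↥P := IsCyclic.isMulCommutative
      have h1 : (⟨g, hg⟩ : ↥P) * ⟨h, hh⟩ = ⟨h, hh⟩ * ⟨g, hg⟩ := mul_comm' _ _
      exact congrArg Subtype.val h1
    have hp2 : p ≠ 2 := by omega
    obtain ⟨A₀, hA₀n, hA₀e, hA₀c⟩ := Cfsg.Agent.S0126.result hp2 hyp.pP hnc
    set A : Subgroup G := A₀.map P.subtype with hAdef
    have hAP : A ≤ P := Subgroup.map_subtype_le A₀
    have hAcard : Nat.card A = p ^ 2 := by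
      rw [hAdef, Subgroup.card_map_of_injective P.subtype_injective, hA₀c]
    have hAcomm : ∀ x ∈ A, ∀ y ∈ A, x * y = y * x := by
      rintro _ ⟨x, hx, rfl⟩ _ ⟨y, hy, rfl⟩
      have := hA₀e.1
      have h1 : (⟨x, hx⟩ : ↥A₀) * ⟨y, hy⟩ = ⟨y, hy⟩ * ⟨x, hx⟩ := mul_comm' _ _
      have h2 : x * y = y * x := congrArg Subtype.val h1
      exact congrArg Subtype.val h2
    have hAexp : ∀ x ∈ A, x ^ p = 1 := by
      rintro _ ⟨x, hx, rfl⟩
      have h1 := hA₀e.2 x hx
      have h2 := congrArg Subtype.val h1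
      simpa using h2
    have hPA : P ≤ Subgroup.normalizer (A : Set G) := by
      apply le_normalizer_of_conj_mem'
      rintro g hg _ ⟨x, hx, rfl⟩
      refine ⟨⟨g, hg⟩ * x * ⟨g, hg⟩⁻¹, hA₀n.conj_mem x hx _, ?_⟩
      simp
    have hAV : A ≤ Subgroup.normalizer (V : Set G) := hAP.trans hyp.le_normalizer
    have hPnil : Group.IsNilpotent ↥P := hyp.pP.isNilpotent
    have hA1 : A ≠ ⊥ := by
      intro h
      rw [h, Subgroup.card_bot] at hAcard
      have : 1 < p ^ 2 := Nat.one_lt_pow (by norm_num) hpp.one_lt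
      omega
    by_cases hcen : ∀ a ∈ A, ∀ g ∈ P, g * a = a * g
    · -- A central: generation lemma gives V = 1
      have hle : V ≤ (⊥ : Subgroup G) := by
        apply Cfsg.Agent.Lib.Helper48.elemAb_generation (p := p) A hAcomm hAexp (le_of_eq hAcard.symm) V ⊥
          hyp.not_dvd_card hAV
        intro u hu hu1
        rw [central_fix u (hAP hu) (hcen u hu) hu1]
      exact hV (le_bot_iff.mp hle)
    · -- A not central
      push Not at hcen
      -- L = [A, P] is central in P
      have hLA : ⁅A, P⁆ ≤ A := Subgroup.le_normalizer_iff_commutator_le_left.mp hPA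
      have hLne : ⁅A, P⁆ ≠ A := by
        intro h
        exact hA1 (Cfsg.Agent.Lib.Helper48.eq_bot_of_commutator_eq_of_isNilpotent hPnil hAP h)
      have hLcard_lt : Nat.card ↥(⁅A, P⁆ : Subgroup G) < p ^ 2 := by
        rw [← hAcard]
        exact Cfsg.Agent.Lib.Helper48.card_lt_card_of_lt' (lt_of_le_of_ne hLA hLne)
      have hLdvd : Nat.card ↥(⁅A, P⁆ : Subgroup G) ∣ p ^ 2 := by
        rw [← hAcard]; exact Subgroup.card_dvd_of_le hLA
      have hLle : Nat.card ↥(⁅A, P⁆ : Subgroup G) ≤ p := by
        obtain ⟨k, hk, hkc⟩ := (Nat.dvd_prime_pow hpp).mp hLdvd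
        rw [hkc] at hLcard_lt ⊢
        have hk2 : k < 2 := (Nat.pow_lt_pow_iff_right hpp.one_lt).mp hLcard_lt
        calc p ^ k ≤ p ^ 1 := Nat.pow_le_pow_right hpp.pos (by omega)
          _ = p := pow_one p
      have hL2L : ⁅⁅A, P⁆, P⁆ ≤ ⁅A, P⁆ :=
        Subgroup.le_normalizer_iff_commutator_le_left.mp (Subgroup.normalizer_commutator_ge_right A P)
      have hL2 : ⁅⁅A, P⁆, P⁆ = ⊥ := by
        by_cases h : ⁅⁅A, P⁆, P⁆ = ⁅A, P⁆
        · have := Cfsg.Agent.Lib.Helper48.eq_bot_of_commutator_eq_of_isNilpotent hPnil (hLA.trans hAP) h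
          rw [h, this]
        · have hlt := Cfsg.Agent.Lib.Helper48.card_lt_card_of_lt' (lt_of_le_of_ne hL2L h)
          have hdvd : Nat.card ↥(⁅⁅A, P⁆, P⁆ : Subgroup G) ∣ p ^ 2 :=
            (Subgroup.card_dvd_of_le hL2L).trans hLdvd
          obtain ⟨k, hk, hkc⟩ := (Nat.dvd_prime_pow hpp).mp hdvd
          have hk0 : k = 0 := by
            by_contra hk0
            have : p ^ 1 ≤ p ^ k := Nat.pow_le_pow_right hpp.pos (by omega)
            rw [pow_one] at this
            omega
          rw [hk0, pow_zero] at hkc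
          exact Subgroup.card_eq_one.mp hkc
      have hLcentral : ∀ z ∈ (⁅A, P⁆ : Subgroup G), ∀ g ∈ P, g * z = z * g := by
        intro z hz g hg
        have h1 : ⁅z, g⁆ ∈ (⁅⁅A, P⁆, P⁆ : Subgroup G) := Subgroup.commutator_mem_commutator hz hg
        rw [hL2, Subgroup.mem_bot, commutatorElement_eq_one_iff_mul_comm] at h1
        exact h1.symm
      -- the key bound for generators not centralizing A
      have key : ∀ c ∈ P, (∃ u ∈ A, u * c ≠ c * u) →
          Nat.card ↥(V ⊓ Subgroup.centralizer ({c} : Set G)) ^ 3 ≤ Nat.card V := by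
        rintro c hcP ⟨u, hu, huc⟩
        set z : G := c⁻¹ * u * c * u⁻¹ with hzdef
        have hzL : z ∈ (⁅A, P⁆ : Subgroup G) := by
          rw [Subgroup.commutator_comm]
          have : z = ⁅c⁻¹, u⁆ := by rw [commutatorElement_def, inv_inv]
          rw [this]
          exact Subgroup.commutator_mem_commutator (P.inv_mem hcP) hu
        have hzP : z ∈ P := hAP (hLA hzL)
        have hz1 : z ≠ 1 := by
          intro h
          apply huc
          have h2 : c⁻¹ * u * c * u⁻¹ = 1 := h
          calc u * c = c * (c⁻¹ * u * c * u⁻¹) * u := by group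
            _ = c * u := by rw [h2]; group
        have hzz1 : z * z ≠ 1 := by
          intro h
          apply hz1
          obtain ⟨k, hk⟩ := (IsPGroup.iff_orderOf.mp hyp.pP) ⟨z, hzP⟩
          have h2 : orderOf z = p ^ k := by rw [← hk, Subgroup.orderOf_mk]
          have h3 : orderOf z ∣ 2 := orderOf_dvd_of_pow_eq_one (by rw [pow_two]; exact h)
          have h4 : Nat.Coprime (p ^ k) 2 := by
            apply Nat.Coprime.pow_left
            exact (Nat.coprime_primes hpp Nat.prime_two).mpr hp2
          rw [h2] at h3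
          have h5 : p ^ k = 1 := Nat.Coprime.eq_one_of_dvd h4 h3
          rw [h5] at h2
          exact orderOf_eq_one_iff.mp h2
        have hzc := hLcentral z hzL
        have hzzc : ∀ g ∈ P, g * (z * z) = (z * z) * g := by
          intro g hg
          calc g * (z * z) = (g * z) * z := by group
            _ = (z * g) * z := by rw [hzc g hg]
            _ = z * (g * z) := by group
            _ = z * (z * g) := by rw [hzc g hg]
            _ = z * z * g := by group
        have hf1 := central_fix z hzP hzc hz1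
        have hf2 := central_fix (z * z) (P.mul_mem hzP hzP) hzzc hzz1
        apply card_cube_le V hVc c u z (hzc c hcP).symm (hzc u (hAP hu)).symm _ hf1 hf2
        rw [hzdef]; group
      -- choose c ∈ C, d ∈ D not centralizing A
      have hexC : ∃ c ∈ C, ∃ u ∈ A, u * c ≠ c * u := by
        by_contra hcon
        push Not at hcon
        obtain ⟨a, ha, g, hg, hga⟩ := hcen
        apply hga
        have hle : Subgroup.closure C ≤ Subgroup.centralizer (A : Set G) := by
          rw [Subgroup.closure_le]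
          intro c hc
          rw [SetLike.mem_coe, Subgroup.mem_centralizer_iff]
          intro u hu
          exact hcon c hc u hu
        rw [hyp.hC] at hle
        exact ((Subgroup.mem_centralizer_iff.mp (hle hg)) a ha).symm
      have hexD : ∃ d ∈ D, ∃ u ∈ A, u * d ≠ d * u := by
        by_contra hcon
        push Not at hcon
        obtain ⟨a, ha, g, hg, hga⟩ := hcen
        apply hga
        have hle : Subgroup.closure D ≤ Subgroup.centralizer (A : Set G) := by
          rw [Subgroup.closure_le]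
          intro c hc
          rw [SetLike.mem_coe, Subgroup.mem_centralizer_iff]
          intro u hu
          exact hcon c hc u hu
        rw [hyp.hD] at hle
        exact ((Subgroup.mem_centralizer_iff.mp (hle hg)) a ha).symm
      obtain ⟨c, hc, hcu⟩ := hexC
      obtain ⟨d, hd, hdu⟩ := hexD
      have h1 := key c (hCP c hc) hcu
      have h2 := key d (hDP d hd) hdu
      have h3 := hyp.card_le_mul hc hd
      have := nat_le_one_of_cubes hVpos h3 h2 h1
      omega

end Cfsg.Agent.Lib.Helper46
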