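import Mathlib
import Cfsg.Agent.Lib.Helper46.GenPairFinal
import Cfsg.Agent.S0055

/-!
# Main induction for S2277 (helper46)
-/

set_option autoImplicit false

open scoped commutatorElement

namespace Cfsg.Agent.Lib.Helper46

universe u

theorem gp_main (p : ℕ) [Fact p.Prime] (hp3 : 3 ≤ p) :
    ∀ (n : ℕ) (G : Type u) [Group G] [Finite G], Nat.card G = n →
      ∀ (P N : Subgroup G) (C D : Set G), GPHyp p P N C D → ⁅P, N⁆ = ⊥ := by
  intro n
  induction n using Nat.strong_induction_on with
  | _ n ih =>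
  intro G _ _ hn P N C D hyp
  have hnN := hyp.nN
  have hpp : p.Prime := Fact.out
  by_contra hne
  -- Step 1: proper P-invariant subgroups of N are centralized
  have step1 : ∀ M : Subgroup G, M ≤ N → P ≤ Subgroup.normalizer (M : Set G) → M ≠ N →
      ⁅P, M⁆ = ⊥ := by
    intro M hMN hPM hMne
    have hyp' := hyp.restrict M hMN hPM
    have hcard : Nat.card ↥(M ⊔ P) < n := by
      rw [← hn, ← hyp.card_eq, ← hyp'.card_eq]
      have h1 : Nat.card ↥(M.subgroupOf (M ⊔ P)) = Nat.card M :=
        Nat.card_congr (Subgroup.subgroupOfEquivOfLe le_sup_left).toEquiv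
      have h2 : Nat.card ↥(P.subgroupOf (M ⊔ P)) = Nat.card P :=
        Nat.card_congr (Subgroup.subgroupOfEquivOfLe le_sup_right).toEquiv
      rw [h1, h2]
      exact Nat.mul_lt_mul_of_pos_right
        (Cfsg.Agent.Lib.Helper48.card_lt_card_of_lt' (lt_of_le_of_ne hMN hMne)) Nat.card_pos
    have hres := ih _ hcard ↥(M ⊔ P) rfl _ _ _ _ hyp'
    rw [Subgroup.commutator_eq_bot_iff_le_centralizer] at hres ⊢
    intro g hg
    rw [Subgroup.mem_centralizer_iff]
    intro m hm
    have hg' : (⟨g, (le_sup_right : P ≤ M ⊔ P) hg⟩ : ↥(M ⊔ P)) ∈ P.subgroupOf (M ⊔ P) :=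
      Subgroup.mem_subgroupOf.mpr hg
    have hm' : (⟨m, (le_sup_left : M ≤ M ⊔ P) hm⟩ : ↥(M ⊔ P)) ∈ M.subgroupOf (M ⊔ P) :=
      Subgroup.mem_subgroupOf.mpr hm
    have h3 := Subgroup.mem_centralizer_iff.mp (hres hg') _ hm'
    exact congrArg Subtype.val h3
  -- Step 2: quotients
  have step2 : ∀ K : Subgroup G, K.Normal → K ≠ ⊥ → ⁅P, N⁆ ≤ K := by
    intro K hK hKne
    have hyp' := hyp.quotient K
    have hcard : Nat.card (G ⧸ K) < n := by
      rw [← hn, Subgroup.card_eq_card_quotient_mul_card_subgroup K]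
      have h1 : 1 < Nat.card K := (Subgroup.one_lt_card_iff_ne_bot K).mpr hKne
      have hpos : 0 < Nat.card (G ⧸ K) := Nat.card_pos
      nlinarith
    have hres := ih _ hcard (G ⧸ K) rfl _ _ _ _ hyp'
    rw [← Subgroup.map_commutator, Subgroup.map_eq_bot_iff, QuotientGroup.ker_mk'] at hres
    exact hres
  -- Step 3: P acts faithfully
  have hfaith : P ⊓ Subgroup.centralizer (N : Set G) = ⊥ := by
    by_contra hK
    have hKn : (P ⊓ Subgroup.centralizer (N : Set G)).Normal := by
      apply Subgroup.normalizer_eq_top_iff.mp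
      rw [eq_top_iff, ← hyp.sup]
      apply sup_le
      · apply le_normalizer_of_conj_mem'
        intro x hx k hk
        have hk2 := (Subgroup.mem_centralizer_iff.mp hk.2) x hx
        have h1 : x * k * x⁻¹ = k := by rw [hk2]; group
        rw [h1]; exact hk
      · apply le_normalizer_of_conj_mem'
        intro g hg k hk
        refine ⟨P.mul_mem (P.mul_mem hg hk.1) (P.inv_mem hg), ?_⟩
        show g * k * g⁻¹ ∈ Subgroup.centralizer (N : Set G)
        rw [Subgroup.mem_centralizer_iff]
        intro x hx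
        have hx' : g⁻¹ * x * g⁻¹⁻¹ ∈ N := hnN.conj_mem x hx g⁻¹
        have h1 := (Subgroup.mem_centralizer_iff.mp hk.2) _ hx'
        calc x * (g * k * g⁻¹) = g * ((g⁻¹ * x * g⁻¹⁻¹) * k) * g⁻¹ := by group
          _ = g * (k * (g⁻¹ * x * g⁻¹⁻¹)) * g⁻¹ := by rw [h1]
          _ = g * k * g⁻¹ * x := by group
    have h1 := step2 _ hKn hK
    apply hne
    rw [eq_bot_iff, ← hyp.inf_eq_bot]
    exact le_inf (Subgroup.commutator_le_right P N) (h1.trans inf_le_left)
  -- Step 4: N = [N, P]
  have hcomm : ⁅N, P⁆ = N := by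
    by_contra h
    have hle : ⁅N, P⁆ ≤ N := by
      rw [Subgroup.commutator_comm]; exact Subgroup.commutator_le_right P N
    have h1 := step1 ⁅N, P⁆ hle (Subgroup.normalizer_commutator_ge_right N P) h
    have h2 := Cfsg.Agent.Lib.Helper48.commutator_commutator_eq hyp.pP hyp.not_dvd_card
      hyp.le_normalizer
    apply hne
    rw [Subgroup.commutator_comm P N, ← h2, Subgroup.commutator_comm, h1]
  -- Step 5: N is a q-group
  have hq : ∃ q : ℕ, q.Prime ∧ IsPGroup q N := by
    by_contra hcon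
    push Not at hcon
    apply hne
    rw [Subgroup.commutator_comm, Subgroup.commutator_eq_bot_iff_le_centralizer]
    apply Cfsg.Agent.Lib.Helper48.le_of_forall_exists_sylow_le
    intro q _
    obtain ⟨R, hRN, hRq, hRcard, hPR⟩ := Cfsg.Agent.Lib.Helper48.exists_invariant_sylow P N hyp.pP
      hyp.le_normalizer hyp.not_dvd_card q
    refine ⟨R, hRN, ?_, hRcard⟩
    have hRne : R ≠ N := by
      rintro rfl
      exact hcon q Fact.out hRq
    have h1 := step1 R hRN hPR hRne
    rw [Subgroup.commutator_comm, Subgroup.commutator_eq_bot_iff_le_centralizer] at h1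
    exact h1
  obtain ⟨q, hqp, hNq⟩ := hq
  have hqfact : Fact q.Prime := ⟨hqp⟩
  have hNnil : Group.IsNilpotent ↥N := hNq.isNilpotent
  have hNne : N ≠ ⊥ := by
    rintro rfl
    apply hne
    simp
  have hPne : P ≠ ⊥ := by
    rintro rfl
    apply hne
    simp
  -- Step 6: N abelian
  have hNab : ⁅N, N⁆ = ⊥ := by
    by_contra h
    have h1 := step2 ⁅N, N⁆ inferInstance h
    have h2 : ⁅N, N⁆ = N := by
      apply le_antisymm (Subgroup.commutator_le_right N N)
      rw [Subgroup.commutator_comm] at h1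
      rw [hcomm] at h1
      exact h1
    exact hNne (Cfsg.Agent.Lib.Helper48.eq_bot_of_commutator_eq_of_isNilpotent hNnil le_rfl h2)
  have hVc : ∀ x ∈ N, ∀ y ∈ N, x * y = y * x := by
    intro x hx y hy
    have h1 : ⁅x, y⁆ ∈ (⁅N, N⁆ : Subgroup G) := Subgroup.commutator_mem_commutator hx hy
    rw [hNab, Subgroup.mem_bot, commutatorElement_eq_one_iff_mul_comm] at h1
    exact h1
  -- Step 7: fixed points trivial, irreducible
  have hNcm : IsMulCommutative ↥N := ⟨⟨fun a b => Subtype.ext (hVc a a.2 b b.2)⟩⟩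
  have hcopPN : (Nat.card P).Coprime (Nat.card N) := by
    obtain ⟨k, hk⟩ := IsPGroup.iff_card.mp hyp.pP
    rw [hk]
    exact (Nat.Coprime.pow_right k hyp.cop).symm
  have h55 := (Cfsg.Agent.S0055.result P N hyp.le_normalizer hcopPN).1
  have hfix : N ⊓ Subgroup.centralizer (P : Set G) = ⊥ := by
    rw [hcomm, inf_eq_left.mpr inf_le_left] at h55
    exact h55
  have hirr : ∀ M : Subgroup G, M ≤ N → P ≤ Subgroup.normalizer (M : Set G) → M = ⊥ ∨ M = N := by
    intro M hMN hPM
    by_cases h : M = N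
    · right; exact h
    · left
      have h1 := step1 M hMN hPM h
      rw [Subgroup.commutator_comm, Subgroup.commutator_eq_bot_iff_le_centralizer] at h1
      rw [eq_bot_iff, ← hfix]
      exact le_inf hMN h1
  exact final_contra hp3 hyp hVc hNne hPne hfaith hirr

end Cfsg.Agent.Lib.Helper46
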