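import Mathlib
import Cfsg.Agent.Lib.Helper40.LieBound

/-!
# S2363 module [PSU] (helper46, hedge for helper40's project)

Pure arithmetic: `g < p^(3k)`, `g^3 < p^(8k)` (`k = v_p(g)`) for the order formula of `PSU_n(q)`, `n ≥ 3`.
-/

set_option autoImplicit false

namespace Cfsg.Agent.Lib.Helper46.LieBound

open Cfsg.Agent.Lib.Helper40.LieBound

/-- the `i`-th factor of the order formula of `SU_n(q)`: `q^(i+1) - (-1)^(i+1)` -/
def psuTerm (q i : ℕ) : ℕ := if Even i then q ^ (i + 1) + 1 else q ^ (i + 1) - 1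

/-- `S k = ∑_{i<k} (i + 2)` -/
def psuS (k : ℕ) : ℕ := ∑ i ∈ Finset.range k, (i + 2)

theorem two_mul_psuS (k : ℕ) : 2 * psuS k = k * (k + 3) := by
  unfold psuS
  induction k with
  | zero => simp
  | succ k ih => rw [Finset.sum_range_succ, mul_add, ih]; ring

/-- pairing: `∏_{i<2r} term(i+1) < q^(S (2r))` (non-strict at `r = 0`) -/
theorem psu_prod_even_le {q : ℕ} (hq : 2 ≤ q) (r : ℕ) :
    ∏ i ∈ Finset.range (2 * r), psuTerm q (i + 1) ≤ q ^ psuS (2 * r) := by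
  induction r with
  | zero => simp [psuS]
  | succ r ih =>
    have e1 : 2 * (r + 1) = 2 * r + 1 + 1 := by ring
    rw [e1, Finset.prod_range_succ, Finset.prod_range_succ]
    have hS : psuS (2 * r + 1 + 1) = psuS (2 * r) + ((2 * r + 2) + (2 * r + 3)) := by
      unfold psuS
      rw [Finset.sum_range_succ, Finset.sum_range_succ]; ring
    have t1 : psuTerm q (2 * r + 1) = q ^ (2 * r + 2) - 1 := by
      unfold psuTerm
      rw [if_neg]
      rw [Nat.not_even_iff_odd]; exact ⟨r, rfl⟩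
    have t2 : psuTerm q (2 * r + 1 + 1) = q ^ (2 * r + 3) + 1 := by
      unfold psuTerm
      rw [if_pos]
      exact ⟨r + 1, by ring⟩
    rw [t1, t2, hS, pow_add q (psuS (2 * r)), mul_assoc]
    exact Nat.mul_le_mul ih (pair_lt hq (by omega)).le

/-- `∏_{i<k} term(i+1) < q^(S k)` for `k ≥ 1` -/
theorem psu_prod_lt {q : ℕ} (hq : 2 ≤ q) (k : ℕ) (hk : 1 ≤ k) :
    ∏ i ∈ Finset.range k, psuTerm q (i + 1) < q ^ psuS k := by
  have hq0 : 0 < q := by omega
  rcases Nat.even_or_odd' k with ⟨r, rfl | rfl⟩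
  · -- `k = 2r`, `r ≥ 1`
    obtain ⟨s, rfl⟩ : ∃ s, r = s + 1 := ⟨r - 1, by omega⟩
    have e1 : 2 * (s + 1) = 2 * s + 1 + 1 := by ring
    rw [e1, Finset.prod_range_succ, Finset.prod_range_succ]
    have hS : psuS (2 * s + 1 + 1) = psuS (2 * s) + ((2 * s + 2) + (2 * s + 3)) := by
      unfold psuS
      rw [Finset.sum_range_succ, Finset.sum_range_succ]; ring
    have t1 : psuTerm q (2 * s + 1) = q ^ (2 * s + 2) - 1 := by
      unfold psuTerm
      rw [if_neg]
      rw [Nat.not_even_iff_odd]; exact ⟨s, rfl⟩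
    have t2 : psuTerm q (2 * s + 1 + 1) = q ^ (2 * s + 3) + 1 := by
      unfold psuTerm
      rw [if_pos]
      exact ⟨s + 1, by ring⟩
    rw [t1, t2, hS, pow_add q (psuS (2 * s)), mul_assoc]
    exact Nat.mul_lt_mul_of_le_of_lt (psu_prod_even_le hq s) (pair_lt hq (by omega))
      (pow_pos hq0 _)
  · -- `k = 2r + 1`
    rw [Finset.prod_range_succ]
    have hS : psuS (2 * r + 1) = psuS (2 * r) + (2 * r + 2) := by
      unfold psuS
      rw [Finset.sum_range_succ]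
    have t1 : psuTerm q (2 * r + 1) = q ^ (2 * r + 2) - 1 := by
      unfold psuTerm
      rw [if_neg]
      rw [Nat.not_even_iff_odd]; exact ⟨r, rfl⟩
    rw [t1, hS, pow_add q (psuS (2 * r))]
    exact Nat.mul_lt_mul_of_le_of_lt (psu_prod_even_le hq r) (pow_sub_one_lt (by omega) _)
      (pow_pos hq0 _)

/-- MODULE S2363-[PSU] -/
theorem psu_bound {p f q n g : ℕ} (hp : p.Prime) (hf : 1 ≤ f) (hq : q = p ^ f) (hn : 3 ≤ n)
    (hg : Nat.gcd n (q + 1) * ((q + 1) * g) = q ^ (n * (n - 1) / 2) *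
      ∏ i ∈ Finset.range n, (if Even i then q ^ (i + 1) + 1 else q ^ (i + 1) - 1)) :
    g < p ^ (3 * g.factorization p) ∧ g ^ 3 < p ^ (8 * g.factorization p) := by
  subst hq
  have hq2 : 2 ≤ p ^ f := by
    calc 2 ≤ p := hp.two_le
      _ = p ^ 1 := (pow_one p).symm
      _ ≤ p ^ f := Nat.pow_le_pow_right hp.pos hf
  have hq1 : ¬ p ∣ p ^ f + 1 := by
    have := not_dvd_pow_add_one hp hf (le_refl 1)
    rwa [pow_one] at this
  have hgcd : ¬ p ∣ Nat.gcd n (p ^ f + 1) := fun h => hq1 (h.trans (Nat.gcd_dvd_right _ _))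
  have hd : ¬ p ∣ Nat.gcd n (p ^ f + 1) * (p ^ f + 1) := by
    intro h
    rcases (Nat.Prime.dvd_mul hp).mp h with h | h
    · exact hgcd h
    · exact hq1 h
  have hgcd0 : 1 ≤ Nat.gcd n (p ^ f + 1) :=
    Nat.pos_of_ne_zero (fun h => hgcd (h ▸ dvd_zero p))
  have hM : ¬ p ∣ ∏ i ∈ Finset.range n,
      (if Even i then (p ^ f) ^ (i + 1) + 1 else (p ^ f) ^ (i + 1) - 1) := by
    apply not_dvd_prod hp
    intro i _
    split_ifs
    · exact not_dvd_pow_add_one hp hf (by omega)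
    · exact not_dvd_pow_sub_one hp hf (by omega)
  have hg' : Nat.gcd n (p ^ f + 1) * (p ^ f + 1) * g = (p ^ f) ^ (n * (n - 1) / 2) *
      ∏ i ∈ Finset.range n,
        (if Even i then (p ^ f) ^ (i + 1) + 1 else (p ^ f) ^ (i + 1) - 1) := by
    rw [mul_assoc]; exact hg
  obtain ⟨k, rfl⟩ : ∃ k, n = k + 3 := ⟨n - 3, by omega⟩
  -- the product splits off the factor `q + 1`
  have hsplit : ∏ i ∈ Finset.range (k + 3),
      (if Even i then (p ^ f) ^ (i + 1) + 1 else (p ^ f) ^ (i + 1) - 1)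
      = (∏ i ∈ Finset.range (k + 2), psuTerm (p ^ f) (i + 1)) * (p ^ f + 1) := by
    rw [show k + 3 = (k + 2) + 1 by ring, Finset.prod_range_succ']
    simp [psuTerm]
  have hlt := psu_prod_lt hq2 (k + 2) (by omega)
  have hMe : ∏ i ∈ Finset.range (k + 3),
      (if Even i then (p ^ f) ^ (i + 1) + 1 else (p ^ f) ^ (i + 1) - 1)
      < Nat.gcd (k + 3) (p ^ f + 1) * (p ^ f + 1) * (p ^ f) ^ psuS (k + 2) := by
    rw [hsplit]
    calc (∏ i ∈ Finset.range (k + 2), psuTerm (p ^ f) (i + 1)) * (p ^ f + 1)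
        < (p ^ f) ^ psuS (k + 2) * (p ^ f + 1) :=
          Nat.mul_lt_mul_of_pos_right hlt (by omega)
      _ = 1 * (p ^ f + 1) * (p ^ f) ^ psuS (k + 2) := by ring
      _ ≤ Nat.gcd (k + 3) (p ^ f + 1) * (p ^ f + 1) * (p ^ f) ^ psuS (k + 2) :=
          Nat.mul_le_mul_right _ (Nat.mul_le_mul_right _ hgcd0)
  -- numerics: `2 N = n (n - 1)`, `2 e = (n - 1)(n + 2)`
  have hN : 2 * ((k + 3) * (k + 3 - 1) / 2) = (k + 3) * (k + 2) := by
    have hev : 2 ∣ (k + 3) * (k + 3 - 1) := (Nat.even_mul_pred_self (k + 3)).two_dvd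
    rw [Nat.mul_div_cancel' hev]
    simp only [show k + 3 - 1 = k + 2 by omega]
  have hS := two_mul_psuS (k + 2)
  refine card_bounds (N := (k + 3) * (k + 3 - 1) / 2) (e := psuS (k + 2)) hp hd hM hg' hMe ?_ ?_
  · nlinarith
  · nlinarith

end Cfsg.Agent.Lib.Helper46.LieBound
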