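import Cfsg.Agent.Lib.Helper29.M22B.Defs
import Cfsg.Agent.Lib.Helper29.M22B.Data

/-!
# Project M22B (S5005, helper29), module [FIX24] (hedge by helper46): the numbers of fixed points of the twelve
class representatives of `M22` on the 24 points.
-/

set_option autoImplicit false

namespace Cfsg.Agent.Lib.Helper29.M22B
open Cfsg Cfsg.Agent.Lib.Helper7 Cfsg.Agent.Lib.Helper92 Cfsg.Agent.Lib.Helper92.SylM22

namespace Fix24

/-- The number of fixed indices of a table. -/
def fixT (t : List ℕ) : ℕ := ((List.range 24).filter fun i => t.getD i 0 == i).length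

/-- The fixed points of a permutation with a table. -/
theorem fixPts_of_matches {g : Equiv.Perm GolayPt} {t : List ℕ} (h : Matches g t) :
    fixPts g = fixT t := by
  classical
  unfold fixPts fixT
  have e : {p : GolayPt // g p = p} ≃ {i : Fin 24 // t.getD i.val 0 = i.val} :=
    idxEquiv.subtypeEquiv (fun p => by
      show g p = p ↔ t.getD (idx p) 0 = idx p
      rw [← h p, idx_eq_iff])
  rw [Nat.card_congr e, Nat.card_eq_fintype_card, Fintype.card_subtype]
  have h1 : (Finset.univ.filter fun i : Fin 24 => t.getD i.val 0 = i.val).card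
      = ((Finset.range 24).filter fun i => t.getD i 0 = i).card := by
    apply Finset.card_bij (fun i _ => i.val)
    · intro i hi
      rw [Finset.mem_filter] at hi ⊢
      exact ⟨Finset.mem_range.mpr i.isLt, hi.2⟩
    · intro i _ j _ hij
      exact Fin.ext hij
    · intro i hi
      rw [Finset.mem_filter, Finset.mem_range] at hi
      exact ⟨⟨i, hi.1⟩, by rw [Finset.mem_filter]; exact ⟨Finset.mem_univ _, hi.2⟩, rfl⟩
  rw [h1, ← List.toFinset_card_of_nodup (List.Nodup.filter _ List.nodup_range)]
  congr 1
  ext i
  simp

/-- Inverses have the same fixed points. -/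
theorem fixPts_inv (g : Equiv.Perm GolayPt) : fixPts g⁻¹ = fixPts g := by
  unfold fixPts
  apply Nat.card_congr
  refine Equiv.subtypeEquivRight (fun p => ?_)
  rw [Equiv.Perm.inv_eq_iff_eq]
  exact eq_comm

end Fix24

open Fix24 in
/-- [FIX24] fixed points of the representatives on the 24 points. -/
theorem fixPts_rep (i : ℕ) (hi : i < 12) : fixPts (rep i) = fixTab 0 i := by
  interval_cases i
  · show fixPts (1 : Equiv.Perm GolayPt) = _
    rw [fixPts_of_matches matches_one]; decide
  · show fixPts t2 = _
    rw [fixPts_of_matches matches_t2]; decide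
  · show fixPts u4a = _
    rw [fixPts_of_matches matches_u4a]; decide
  · show fixPts u4b = _
    rw [fixPts_of_matches matches_u4b]; decide
  · show fixPts u8 = _
    rw [fixPts_of_matches matches_u8]; decide
  · show fixPts x3 = _
    rw [fixPts_of_matches matches_x3]; decide
  · show fixPts n5P = _
    rw [fixPts_of_matches matches_n5]; decide
  · show fixPts g6 = _
    rw [fixPts_of_matches matches_g6]; decide
  · show fixPts g7 = _
    rw [fixPts_of_matches matches_g7]; decide
  · show fixPts g7⁻¹ = _
    rw [fixPts_inv, fixPts_of_matches matches_g7]; decide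
  · show fixPts s11P = _
    rw [fixPts_of_matches matches_s11]; decide
  · show fixPts s11P⁻¹ = _
    rw [fixPts_inv, fixPts_of_matches matches_s11]; decide

end Cfsg.Agent.Lib.Helper29.M22B
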