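import Cfsg.Agent.Lib.Helper29.M22B.Defs
import Cfsg.Agent.Lib.Helper29.M22B.Data
import Cfsg.Agent.Lib.Helper26.GolayBitsWeights

/-!
# Project M22B (S5005, helper29), modules [FIXOCT] and [FIX616] (hedge by helper46): the numbers of octads and dodecads
(with prescribed incidence with `∞` and `0`) fixed by the twelve class representatives of `M22`.
-/

set_option autoImplicit false

namespace Cfsg.Agent.Lib.Helper29.M22B
open Cfsg Cfsg.Agent.Lib.Helper7 Cfsg.Agent.Lib.Helper92 Cfsg.Agent.Lib.Helper92.SylM22

namespace FixFam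

/-- The two index functions agree. -/
theorem idx26 : Cfsg.Agent.Lib.Helper26.idx = idx := by
  funext p
  cases p <;> rfl

theorem setOf26 (m : ℕ) : Cfsg.Agent.Lib.Helper26.setOf m = Cfsg.Agent.Lib.Helper7.setOf m := by
  unfold Cfsg.Agent.Lib.Helper26.setOf Cfsg.Agent.Lib.Helper7.setOf
  rw [idx26]

/-- The mask `m` is fixed by the table `t`. -/
def fixB (t : List ℕ) (m : ℕ) : Bool :=
  (List.range 24).all fun i => m.testBit (t.getD i 0) == m.testBit i

/-- The predicate on masks. -/
def predB (a b : Bool) (t : List ℕ) (m : ℕ) : Bool :=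
  (m.testBit 23 == a) && (m.testBit 0 == b) && fixB t m

/-- A set is mapped onto itself iff membership is preserved. -/
theorem image_eq_iff (g : Equiv.Perm GolayPt) (S : Finset GolayPt) :
    S.image g = S ↔ ∀ p, g p ∈ S ↔ p ∈ S := by
  constructor
  · intro h p
    constructor
    · intro hp
      rw [← h, Finset.mem_image] at hp
      obtain ⟨q, hq, hqp⟩ := hp
      rwa [← g.injective hqp]
    · intro hp
      rw [← h]
      exact Finset.mem_image_of_mem _ hp
  · intro h
    ext s
    rw [Finset.mem_image]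
    constructor
    · rintro ⟨q, hq, rfl⟩
      exact (h q).mpr hq
    · intro hs
      refine ⟨g.symm s, ?_, by simp⟩
      rw [← h]
      simpa using hs

theorem image_setOf_iff {g : Equiv.Perm GolayPt} {t : List ℕ} (h : Matches g t) (m : ℕ) :
    (setOf m).image g = setOf m ↔ fixB t m = true := by
  rw [image_eq_iff]
  unfold fixB
  rw [List.all_eq_true]
  constructor
  · intro hp i hi
    rw [List.mem_range] at hi
    have := hp (pt i)
    rw [mem_setOf, mem_setOf, h (pt i), idx_pt hi] at this
    rw [beq_iff_eq]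
    exact Bool.eq_iff_iff.mpr this
  · intro hi p
    have := hi (idx p) (List.mem_range.mpr (idx_lt p))
    rw [beq_iff_eq] at this
    rw [mem_setOf, mem_setOf, h p, this]

/-- Inverses fix the same sets. -/
theorem image_inv_iff (g : Equiv.Perm GolayPt) (S : Finset GolayPt) :
    S.image (g⁻¹ : Equiv.Perm GolayPt) = S ↔ S.image g = S := by
  rw [image_eq_iff, image_eq_iff]
  constructor
  · intro h p
    have := h (g p)
    have e : (g⁻¹ : Equiv.Perm GolayPt) (g p) = p := by simp
    rw [e] at this
    exact this.symm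
  · intro h p
    have := h ((g⁻¹ : Equiv.Perm GolayPt) p)
    have e : g ((g⁻¹ : Equiv.Perm GolayPt) p) = p := by simp
    rw [e] at this
    exact this.symm

theorem fixFam_inv (F : Set (Finset GolayPt)) (a b : Bool) (g : Equiv.Perm GolayPt) :
    fixFam F a b g⁻¹ = fixFam F a b g := by
  unfold fixFam
  apply Nat.card_congr
  refine Equiv.subtypeEquivRight (fun S => ?_)
  rw [image_inv_iff]

/-- Counting through a list of masks. -/
theorem fixFam_eq_length (F : Set (Finset GolayPt)) (L : List ℕ) (hnd : L.Nodup)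
    (hlt : ∀ m ∈ L, m < 2 ^ 24)
    (hF : ∀ o : Finset GolayPt, o ∈ F ↔ Cfsg.Agent.Lib.Helper26.maskOfSet o ∈ L)
    (a b : Bool) {g : Equiv.Perm GolayPt} {t : List ℕ} (h : Matches g t) :
    fixFam F a b g = (L.filter (predB a b t)).length := by
  classical
  unfold fixFam
  have hpred : ∀ m : ℕ, predB a b t m = true ↔
      ((pt 23 ∈ setOf m ↔ a = true) ∧ (pt 0 ∈ setOf m ↔ b = true) ∧ (setOf m).image g = setOf m) := by
    intro m
    unfold predB
    rw [Bool.and_eq_true, Bool.and_eq_true, beq_iff_eq, beq_iff_eq, image_setOf_iff h, mem_setOf, mem_setOf,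
      idx_pt (by norm_num : 23 < 24), idx_pt (by norm_num : 0 < 24), and_assoc]
    refine and_congr ?_ (and_congr ?_ Iff.rfl)
    · cases a <;> cases hm : m.testBit 23 <;> simp
    · cases b <;> cases hm : m.testBit 0 <;> simp
  let e : {S : Finset GolayPt // S ∈ F ∧ (pt 23 ∈ S ↔ a = true) ∧ (pt 0 ∈ S ↔ b = true) ∧ S.image g = S}
      ≃ {m : ℕ // m ∈ (L.filter (predB a b t)).toFinset} :=
    { toFun := fun S => ⟨Cfsg.Agent.Lib.Helper26.maskOfSet S.1, by
        rw [List.mem_toFinset, List.mem_filter]
        refine ⟨(hF _).mp S.2.1, ?_⟩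
        rw [hpred, ← setOf26, Cfsg.Agent.Lib.Helper26.setOf_maskOfSet]
        exact S.2.2⟩
      invFun := fun m => ⟨setOf m.1, by
        have hm := m.2
        rw [List.mem_toFinset, List.mem_filter] at hm
        refine ⟨?_, (hpred _).mp hm.2⟩
        rw [hF, ← setOf26, Cfsg.Agent.Lib.Helper26.maskOfSet_setOf_of_lt (hlt _ hm.1)]
        exact hm.1⟩
      left_inv := fun S => by
        apply Subtype.ext
        show setOf (Cfsg.Agent.Lib.Helper26.maskOfSet S.1) = S.1
        rw [← setOf26, Cfsg.Agent.Lib.Helper26.setOf_maskOfSet]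
      right_inv := fun m => by
        apply Subtype.ext
        have hm := m.2
        rw [List.mem_toFinset, List.mem_filter] at hm
        show Cfsg.Agent.Lib.Helper26.maskOfSet (setOf m.1) = m.1
        rw [← setOf26, Cfsg.Agent.Lib.Helper26.maskOfSet_setOf_of_lt (hlt _ hm.1)] }
  rw [Nat.card_congr e, Nat.card_eq_fintype_card, Fintype.card_coe,
    List.toFinset_card_of_nodup (hnd.filter _)]

/-- The tables of the twelve representatives (the inverses `g7⁻¹`, `s11P⁻¹` have the fixed sets of `g7`, `s11P`). -/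
def repT (i : ℕ) : List ℕ :=
  [idT, t2T, u4aT, u4bT, u8T, x3T, n5T, g6T, g7T, g7T, s11T, s11T].getD i idT

theorem fixFam_rep (F : Set (Finset GolayPt)) (L : List ℕ) (hnd : L.Nodup)
    (hlt : ∀ m ∈ L, m < 2 ^ 24)
    (hF : ∀ o : Finset GolayPt, o ∈ F ↔ Cfsg.Agent.Lib.Helper26.maskOfSet o ∈ L)
    (a b : Bool) (i : ℕ) (hi : i < 12) :
    fixFam F a b (rep i) = (L.filter (predB a b (repT i))).length := by
  interval_cases i
  · exact fixFam_eq_length F L hnd hlt hF a b matches_one
  · exact fixFam_eq_length F L hnd hlt hF a b matches_t2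
  · exact fixFam_eq_length F L hnd hlt hF a b matches_u4a
  · exact fixFam_eq_length F L hnd hlt hF a b matches_u4b
  · exact fixFam_eq_length F L hnd hlt hF a b matches_u8
  · exact fixFam_eq_length F L hnd hlt hF a b matches_x3
  · exact fixFam_eq_length F L hnd hlt hF a b matches_n5
  · exact fixFam_eq_length F L hnd hlt hF a b matches_g6
  · exact fixFam_eq_length F L hnd hlt hF a b matches_g7
  · show fixFam F a b g7⁻¹ = _
    rw [fixFam_inv]
    exact fixFam_eq_length F L hnd hlt hF a b matches_g7
  · exact fixFam_eq_length F L hnd hlt hF a b matches_s11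
  · show fixFam F a b s11P⁻¹ = _
    rw [fixFam_inv]
    exact fixFam_eq_length F L hnd hlt hF a b matches_s11

/-- The check for the octads. -/
def chkOct : Bool :=
  (List.range 12).all fun i =>
    ((Cfsg.Agent.Lib.Helper26.octadMasks.filter (predB true true (repT i))).length == fixTab 1 i) &&
    ((Cfsg.Agent.Lib.Helper26.octadMasks.filter (predB true false (repT i))).length == fixTab 2 i) &&
    ((Cfsg.Agent.Lib.Helper26.octadMasks.filter (predB false false (repT i))).length == fixTab 3 i)

set_option maxRecDepth 100000 in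
theorem chkOct_ok : chkOct = true := by decide +kernel

/-- The check for the dodecads. -/
def chkDod : Bool :=
  (List.range 12).all fun i =>
    ((Cfsg.Agent.Lib.Helper26.dodecadMasks.filter (predB false false (repT i))).length == fixTab 4 i)

set_option maxRecDepth 100000 in
theorem chkDod_ok : chkDod = true := by decide +kernel

end FixFam

open FixFam in
/-- [FIX77] / [FIX176] / [FIX330] fixed octads (via `Helper26.octadMasks`). -/
theorem fixFam_octads_rep (a b : Bool) (r : ℕ)
    (hr : (a, b, r) = (true, true, 1) ∨ (a, b, r) = (true, false, 2) ∨ (a, b, r) = (false, false, 3))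
    (i : ℕ) (hi : i < 12) : fixFam octads a b (rep i) = fixTab r i := by
  have hchk := chkOct_ok
  unfold chkOct at hchk
  rw [List.all_eq_true] at hchk
  have h1 := hchk i (List.mem_range.mpr hi)
  rw [Bool.and_eq_true, Bool.and_eq_true, beq_iff_eq, beq_iff_eq, beq_iff_eq] at h1
  rw [fixFam_rep octads Cfsg.Agent.Lib.Helper26.octadMasks Cfsg.Agent.Lib.Helper26.octadMasks_nodup
    (fun m hm => Cfsg.Agent.Lib.Helper26.octadMasks_lt hm)
    Cfsg.Agent.Lib.Helper26.mem_octads_iff_mem_list a b i hi]
  rcases hr with hr | hr | hr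
  · obtain ⟨rfl, rfl, rfl⟩ : a = true ∧ b = true ∧ r = 1 := by
      simpa [Prod.mk.injEq] using hr
    exact h1.1.1
  · obtain ⟨rfl, rfl, rfl⟩ : a = true ∧ b = false ∧ r = 2 := by
      simpa [Prod.mk.injEq] using hr
    exact h1.1.2
  · obtain ⟨rfl, rfl, rfl⟩ : a = false ∧ b = false ∧ r = 3 := by
      simpa [Prod.mk.injEq] using hr
    exact h1.2

open FixFam in
/-- [FIX616] fixed dodecads (via `Helper26.dodecadMasks`). -/
theorem fixFam_dodecads_rep (i : ℕ) (hi : i < 12) :
    fixFam dodecads false false (rep i) = fixTab 4 i := by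
  have hchk := chkDod_ok
  unfold chkDod at hchk
  rw [List.all_eq_true] at hchk
  have h1 := hchk i (List.mem_range.mpr hi)
  rw [beq_iff_eq] at h1
  rw [fixFam_rep dodecads Cfsg.Agent.Lib.Helper26.dodecadMasks Cfsg.Agent.Lib.Helper26.dodecadMasks_nodup
    (fun m hm => Cfsg.Agent.Lib.Helper26.dodecadMasks_lt hm)
    Cfsg.Agent.Lib.Helper26.mem_dodecads_iff_mem_list false false i hi]
  exact h1

end Cfsg.Agent.Lib.Helper29.M22B
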