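import Mathlib

/-!
# 3×3 matrices: explicit Cayley–Hamilton, and diagonalisation of elements of order 3

Helper library of helper46 (used by S2739).
-/

set_option autoImplicit false

namespace Cfsg.Agent.Lib.Helper46

open Matrix

section CommRing
variable {R : Type*} [CommRing R]

/-- second coefficient of the characteristic polynomial of a 3×3 matrix -/
def c2 (A : Matrix (Fin 3) (Fin 3) R) : R :=
  A 0 0 * A 1 1 - A 0 1 * A 1 0 + (A 0 0 * A 2 2 - A 0 2 * A 2 0) + (A 1 1 * A 2 2 - A 1 2 * A 2 1)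

theorem adjugate_three (A : Matrix (Fin 3) (Fin 3) R) :
    adjugate A = A * A - trace A • A + c2 A • (1 : Matrix (Fin 3) (Fin 3) R) := by
  ext i j
  rw [Matrix.adjugate_fin_three]
  fin_cases i <;> fin_cases j <;>
    simp [Matrix.mul_apply, Fin.sum_univ_three, Matrix.trace, c2] <;> ring

theorem det_sub_smul_one (A : Matrix (Fin 3) (Fin 3) R) (l : R) :
    det (A - l • (1 : Matrix (Fin 3) (Fin 3) R)) = det A - c2 A * l + trace A * l ^ 2 - l ^ 3 := by
  rw [Matrix.det_fin_three, Matrix.det_fin_three]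
  simp [Matrix.trace, Fin.sum_univ_three, c2]
  ring

/-- Cayley–Hamilton for 3×3 matrices, explicitly. -/
theorem cayley_three (A : Matrix (Fin 3) (Fin 3) R) :
    A * A * A - trace A • (A * A) + c2 A • A = det A • (1 : Matrix (Fin 3) (Fin 3) R) := by
  have h := Matrix.mul_adjugate A
  rw [adjugate_three] at h
  rw [← h]
  simp [mul_add, mul_sub, mul_assoc]

end CommRing

section Field
variable {F : Type*} [Field F]

theorem nonscalar_smul_eq {x : Matrix (Fin 3) (Fin 3) F}
    (hns : ∀ a : F, x ≠ a • (1 : Matrix (Fin 3) (Fin 3) F)) {s t : F}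
    (h : s • x = t • (1 : Matrix (Fin 3) (Fin 3) F)) : s = 0 ∧ t = 0 := by
  by_cases hs : s = 0
  · subst hs
    refine ⟨rfl, ?_⟩
    have h1 := congrFun (congrFun h 0) 0
    simpa using h1.symm
  · exfalso
    apply hns (s⁻¹ * t)
    have h1 : x = s⁻¹ • (s • x) := by rw [smul_smul, inv_mul_cancel₀ hs, one_smul]
    rw [h1, h, smul_smul]

/-- A non-scalar 3×3 matrix of determinant one whose cube is scalar, over a field in which all
nonzero cubes equal one, has characteristic polynomial `t³ - 1`. -/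
theorem tr_c2_of_cube (hcube : ∀ a : F, a ≠ 0 → a ^ 3 = 1) {x : Matrix (Fin 3) (Fin 3) F}
    (hdet : det x = 1) {μ : F} (hx3 : x * x * x = μ • (1 : Matrix (Fin 3) (Fin 3) F))
    (hns : ∀ a : F, x ≠ a • (1 : Matrix (Fin 3) (Fin 3) F)) :
    trace x = 0 ∧ c2 x = 0 ∧ μ = 1 := by
  have hCH := cayley_three x
  rw [hx3, hdet, one_smul] at hCH
  have hμ3 : μ ^ 3 = 1 := by
    have h := congrArg det hx3
    simp only [det_mul, hdet, det_smul, det_one, Fintype.card_fin, mul_one] at h
    exact h.symm
  have hμ0 : μ ≠ 0 := by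
    intro h; rw [h] at hμ3; simp at hμ3
  by_cases ht : trace x = 0
  · rw [ht, zero_smul, sub_zero] at hCH
    have h2 : c2 x • x = (1 - μ) • (1 : Matrix (Fin 3) (Fin 3) F) := by
      rw [sub_smul, one_smul, eq_sub_iff_add_eq']; exact hCH
    obtain ⟨h3, h4⟩ := nonscalar_smul_eq hns h2
    exact ⟨ht, h3, by linear_combination -h4⟩
  · exfalso
    obtain ⟨a, b, hxx, hb⟩ : ∃ a b : F, x * x = a • x + b • (1 : Matrix (Fin 3) (Fin 3) F) ∧
        trace x * b = μ - 1 := by
      refine ⟨(trace x)⁻¹ * c2 x, (trace x)⁻¹ * (μ - 1), ?_, ?_⟩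
      · have h1 : trace x • (x * x) = c2 x • x + (μ - 1) • (1 : Matrix (Fin 3) (Fin 3) F) := by
          rw [sub_smul, one_smul]
          have h3 : trace x • (x * x) = μ • (1 : Matrix (Fin 3) (Fin 3) F) + c2 x • x -
              (μ • (1 : Matrix (Fin 3) (Fin 3) F) - trace x • (x * x) + c2 x • x) := by abel
          rw [hCH] at h3
          rw [h3]; abel
        have h2 : x * x = (trace x)⁻¹ • (trace x • (x * x)) := by
          rw [smul_smul, inv_mul_cancel₀ ht, one_smul]
        rw [h2, h1, smul_add, smul_smul, smul_smul]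
      · rw [← mul_assoc, mul_inv_cancel₀ ht, one_mul]
    have hx3' : x * x * x = (a ^ 2 + b) • x + (a * b) • (1 : Matrix (Fin 3) (Fin 3) F) := by
      rw [hxx, add_mul, smul_mul_assoc, smul_mul_assoc, one_mul, hxx, smul_add, smul_smul,
        smul_smul, add_smul]
      rw [pow_two]; abel
    have h5 : (a ^ 2 + b) • x = (μ - a * b) • (1 : Matrix (Fin 3) (Fin 3) F) := by
      rw [sub_smul, ← hx3, hx3']; abel
    obtain ⟨h6, h7⟩ := nonscalar_smul_eq hns h5
    have hμa : μ = (-a) ^ 3 := by linear_combination h7 + a * h6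
    have ha0 : -a ≠ 0 := by
      intro h; rw [h] at hμa; simp at hμa; exact hμ0 hμa
    have hμ1 : μ = 1 := by rw [hμa]; exact hcube _ ha0
    have hb0 : b = 0 := by
      have : trace x * b = 0 := by rw [hb, hμ1, sub_self]
      rcases mul_eq_zero.mp this with h | h
      · exact absurd h ht
      · exact h
    have : a ^ 2 = 0 := by rw [hb0, add_zero] at h6; exact h6
    have : a = 0 := by simpa using this
    exact ha0 (by rw [this, neg_zero])

theorem exists_eigvec {x : Matrix (Fin 3) (Fin 3) F} (ht : trace x = 0) (hc : c2 x = 0)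
    (hdet : det x = 1) {l : F} (hl : l ^ 3 = 1) :
    ∃ v : Fin 3 → F, v ≠ 0 ∧ x *ᵥ v = l • v := by
  have h0 : det (x - l • (1 : Matrix (Fin 3) (Fin 3) F)) = 0 := by
    rw [det_sub_smul_one, ht, hc, hdet, hl]; ring
  obtain ⟨v, hv, h⟩ := Matrix.exists_mulVec_eq_zero_iff.mpr h0
  refine ⟨v, hv, ?_⟩
  rw [Matrix.sub_mulVec, Matrix.smul_mulVec, Matrix.one_mulVec] at h
  exact sub_eq_zero.mp h

/-- A 3×3 matrix with characteristic polynomial `t³ - 1` over a field containing three distinct
cube roots of unity `l 0, l 1, l 2` is conjugate, by a matrix of determinant one, to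
`diagonal l`. -/
theorem exists_diag_conj {x : Matrix (Fin 3) (Fin 3) F} (ht : trace x = 0) (hc : c2 x = 0)
    (hdet : det x = 1) (l : Fin 3 → F) (hl : ∀ i, l i ^ 3 = 1) (hinj : Function.Injective l) :
    ∃ g : Matrix (Fin 3) (Fin 3) F, det g = 1 ∧ x * g = g * diagonal l := by
  choose v hv0 hv using fun i => exists_eigvec ht hc hdet (hl i)
  have hli : LinearIndependent F v := by
    apply Module.End.eigenvectors_linearIndependent' (Matrix.toLin' x) l hinj v
    intro i
    refine ⟨?_, hv0 i⟩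
    rw [Module.End.mem_eigenspace_iff, Matrix.toLin'_apply]
    exact hv i
  let g : Matrix (Fin 3) (Fin 3) F := Matrix.of fun i j => v j i
  have hgu : IsUnit g := by
    rw [← Matrix.linearIndependent_cols_iff_isUnit]
    exact hli
  have hd : det g ≠ 0 := ((Matrix.isUnit_iff_isUnit_det g).mp hgu).ne_zero
  have hxg : x * g = g * diagonal l := by
    ext i j
    rw [Matrix.mul_diagonal]
    have h1 : (x * g) i j = (x *ᵥ v j) i := rfl
    rw [h1, hv j]
    simp [g, mul_comm]
  let E : Matrix (Fin 3) (Fin 3) F := diagonal ![(det g)⁻¹, 1, 1]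
  have hE : det E = (det g)⁻¹ := by
    simp [E, Matrix.det_diagonal, Fin.prod_univ_three]
  refine ⟨g * E, ?_, ?_⟩
  · rw [det_mul, hE, mul_inv_cancel₀ hd]
  · rw [← mul_assoc, hxg, mul_assoc, mul_assoc]
    congr 1
    simp only [E, diagonal_mul_diagonal]
    congr 1
    funext i
    exact mul_comm _ _

end Field

end Cfsg.Agent.Lib.Helper46
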