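import Mathlib
import Cfsg.Agent.Lib.Helper60.PFTwelveG1
import Cfsg.Agent.Lib.Helper54.Coprime
import Cfsg.Agent.Lib.Helper23.TypeP

/-!
# Peterfalvi (12.7) group part: module [COMM] (helper46 for helper60)
-/

set_option autoImplicit false
set_option linter.unusedVariables false
set_option linter.unusedSectionVars false

namespace Cfsg.Agent.Lib.Helper46.PF12G

open scoped Pointwise
open Cfsg
open Cfsg.Agent.Lib.Helper60.PF12G

variable {G : Type*} [Group G]

/-- a complement `E` of `K` in `M` is a `K`-conjugate of `U` -/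
theorem exists_conj_eq_of_isComplIn [Finite G] {M K U U₁ U₀ : Subgroup G} (hD : FData M K U U₁ U₀)
    {E : Subgroup G} (hE : IsComplIn K E M) : ∃ l ∈ K, MulAut.conj l • U = E := by
  have hKM : K ≤ M := hD.compl.1
  have hML : M ≤ Subgroup.normalizer (K : Set G) := by
    intro m hm
    rw [Subgroup.mem_normalizer_iff]
    intro k
    constructor
    · intro hk
      exact hD.K_norm m hm k hk
    · intro hk
      have := hD.K_norm m⁻¹ (M.inv_mem hm) _ hk
      have e : m⁻¹ * (m * k * m⁻¹) * m⁻¹⁻¹ = k := by group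
      rwa [e] at this
  have hc1 : Nat.card M = Nat.card K * Nat.card U := Cfsg.Agent.Lib.Helper23.card_of_isComplIn hD.compl
  have hc2 : Nat.card M = Nat.card K * Nat.card E := Cfsg.Agent.Lib.Helper23.card_of_isComplIn hE
  have hEU : Nat.card E = Nat.card U := by
    have hpos : 0 < Nat.card K := Nat.card_pos
    apply Nat.eq_of_mul_eq_mul_left hpos
    rw [← hc2, ← hc1]
  have hKsolv : Group.IsSolvable K := by
    have := hD.K_nil
    infer_instance
  exact Cfsg.Agent.Lib.Helper54.sz_conj_rel M K U E hKM hML hD.compl.2.1 hE.2.1 hc1.symm hEU hD.cop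
    (Or.inr hKsolv)

/-- **[COMM]** Two elements of a complement `E` of `K` in `M`, each centralizing a non-identity element
of `K`, commute (they lie in the conjugate of the abelian subgroup `U₁`). -/
theorem commute_of_fix [Finite G] {M K U U₁ U₀ : Subgroup G} (hD : FData M K U U₁ U₀)
    {E : Subgroup G} (hE : IsComplIn K E M) {a b : G} (ha : a ∈ E) (hb : b ∈ E)
    (hak : ∃ k ∈ K, k ≠ 1 ∧ a * k = k * a) (hbk : ∃ k ∈ K, k ≠ 1 ∧ b * k = k * b) :
    a * b = b * a := by
  obtain ⟨l, hl, hlE⟩ := exists_conj_eq_of_isComplIn hD hE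
  have hlM : l ∈ M := hD.compl.1 hl
  have key : ∀ c ∈ E, (∃ k ∈ K, k ≠ 1 ∧ c * k = k * c) → l⁻¹ * c * l ∈ U₁ := by
    intro c hc ⟨k, hk, hk1, hck⟩
    have hcU : l⁻¹ * c * l ∈ U := by
      rw [← hlE] at hc
      exact Cfsg.Agent.Lib.Helper54.mem_conj_smul_iff.mp hc
    have hk' : l⁻¹ * k * l ∈ K := by
      have := hD.K_norm l⁻¹ (M.inv_mem hlM) k hk
      rwa [inv_inv] at this
    have hk'1 : l⁻¹ * k * l ≠ 1 := by
      intro h1
      apply hk1
      have e : k = l * (l⁻¹ * k * l) * l⁻¹ := by group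
      rw [e, h1]
      group
    apply hD.U₁_cent (l⁻¹ * k * l) hk' hk'1 (l⁻¹ * c * l) hcU
    calc l⁻¹ * c * l * (l⁻¹ * k * l) = l⁻¹ * (c * k) * l := by group
      _ = l⁻¹ * (k * c) * l := by rw [hck]
      _ = l⁻¹ * k * l * (l⁻¹ * c * l) := by group
  have h1 := hD.U₁_comm _ (key a ha hak) _ (key b hb hbk)
  calc a * b = l * ((l⁻¹ * a * l) * (l⁻¹ * b * l)) * l⁻¹ := by group
    _ = l * ((l⁻¹ * b * l) * (l⁻¹ * a * l)) * l⁻¹ := by rw [h1]
    _ = b * a := by group

end Cfsg.Agent.Lib.Helper46.PF12G
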