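import Mathlib
import Cfsg.Agent.Lib.Helper60.PFTwelveG1
import Cfsg.Agent.Lib.Helper52.NilpSub
import Cfsg.Agent.Lib.Helper54.Coprime

/-!
# Peterfalvi (12.7) group part: modules [HALLN], [SYLN], [SYLG], [OMZ] (helper46 for helper60)
-/

set_option autoImplicit false
set_option linter.unusedVariables false
set_option linter.unusedSectionVars false

namespace Cfsg.Agent.Lib.Helper46.PF12G

open scoped Pointwise
open Cfsg
open Cfsg.Agent.Lib.Helper60.PF12G

variable {G : Type*} [Group G]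

/-- **[HALLN]** A normal subgroup `N` of `L` of index prime to `p` contains every `p`-subgroup of `L`. -/
theorem le_of_isPGroup_of_not_dvd_relIndex [Finite G] (p : ℕ) (hp : p.Prime) (L N P : Subgroup G)
    (hNL : N ≤ L) (hLN : ∀ l ∈ L, ∀ n ∈ N, l * n * l⁻¹ ∈ N) (hidx : ¬ p ∣ N.relIndex L)
    (hPL : P ≤ L) (hP : IsPGroup p P) : P ≤ N := by
  have : Fact p.Prime := ⟨hp⟩
  have hnorm : (N.subgroupOf L).Normal := by
    refine ⟨fun n hn l => ?_⟩
    rw [Subgroup.mem_subgroupOf] at hn ⊢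
    simpa using hLN l l.2 n hn
  intro x hx
  obtain ⟨k, hk⟩ := (IsPGroup.iff_orderOf.mp hP) ⟨x, hx⟩
  rw [Subgroup.orderOf_mk] at hk
  have hcop : (N.relIndex L).Coprime (orderOf x) := by
    rw [hk]
    exact Nat.Coprime.pow_right k ((Nat.Prime.coprime_iff_not_dvd hp).mpr hidx).symm
  obtain ⟨m, hm⟩ := exists_pow_eq_self_of_coprime hcop
  have h1 : (⟨x, hPL hx⟩ : L) ^ (N.subgroupOf L).index ∈ N.subgroupOf L :=
    Subgroup.pow_index_mem _ _
  rw [Subgroup.mem_subgroupOf] at h1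
  have h2 : x ^ N.relIndex L ∈ N := by simpa [Subgroup.relIndex] using h1
  rw [← hm]
  exact N.pow_mem h2 m

/-- **[SYLN]** The unique Sylow `p`-subgroup of a nilpotent subgroup `H` normalized by `L`. -/
theorem exists_sylow_of_nilpotent [Finite G] (p : ℕ) [Fact p.Prime] (L H : Subgroup G)
    (hnil : Group.IsNilpotent H) (hLH : ∀ l ∈ L, ∀ h ∈ H, l * h * l⁻¹ ∈ H) :
    ∃ S : Subgroup G, S ≤ H ∧ IsPGroup p S ∧ (∀ Q : Subgroup G, Q ≤ H → IsPGroup p Q → Q ≤ S) ∧
      ∀ l ∈ L, ∀ s ∈ S, l * s * l⁻¹ ∈ S := by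
  have hnorm := ((Group.isNilpotent_of_finite_tfae (G := H)).out 0 3).mp hnil
  let P0 : Sylow p H := default
  have hP0 : (P0 : Subgroup H).Normal := hnorm p inferInstance P0
  have hU := Sylow.unique_of_normal P0 hP0
  have hmax : ∀ Q : Subgroup G, Q ≤ H → IsPGroup p Q →
      Q ≤ (P0 : Subgroup H).map H.subtype := by
    intro Q hQH hQ
    obtain ⟨Q', hQ'⟩ := (hQ.comap_subtype (K := H)).exists_le_sylow
    have hQP : Q' = P0 := (hU.uniq Q').trans (hU.uniq P0).symm
    rw [hQP] at hQ'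
    intro q hq
    exact ⟨⟨q, hQH hq⟩, hQ' (Subgroup.mem_subgroupOf.mpr hq), rfl⟩
  have hS_le : (P0 : Subgroup H).map H.subtype ≤ H := Subgroup.map_subtype_le _
  have hSp : IsPGroup p ((P0 : Subgroup H).map H.subtype) := P0.isPGroup'.map _
  refine ⟨(P0 : Subgroup H).map H.subtype, hS_le, hSp, hmax, ?_⟩
  intro l hl s hs
  have h1 : (((P0 : Subgroup H).map H.subtype).map (MulAut.conj l).toMonoidHom)
      ≤ (P0 : Subgroup H).map H.subtype := by
    apply hmax
    · rintro _ ⟨y, hy, rfl⟩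
      exact hLH l hl y (hS_le hy)
    · exact hSp.map _
  exact h1 ⟨s, hs, by simp [MulAut.conj_apply]⟩

/-- **[SYLG]** A Sylow `p`-subgroup `S₀` of a subgroup `L₀` whose normalizer in `G` lies in `L₀` is a
Sylow `p`-subgroup of `G`: every `p`-subgroup of `G` is conjugate into it. -/
theorem exists_conj_le_of_normalizer_le [Finite G] (p : ℕ) [Fact p.Prime] (L₀ S₀ : Subgroup G)
    (hS₀L : S₀ ≤ L₀) (hS₀p : IsPGroup p S₀)
    (hmax : ∀ Q : Subgroup G, Q ≤ L₀ → IsPGroup p Q → S₀ ≤ Q → Q = S₀)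
    (hN : Subgroup.normalizer (S₀ : Set G) ≤ L₀)
    (P : Subgroup G) (hP : IsPGroup p P) :
    ∃ g : G, ∀ x ∈ P, g * x * g⁻¹ ∈ S₀ := by
  obtain ⟨S, hS⟩ := hS₀p.exists_le_sylow
  have hNS : (S : Subgroup G) ⊓ Subgroup.normalizer (S₀ : Set G) = S₀ := by
    apply hmax
    · exact inf_le_right.trans hN
    · exact S.isPGroup'.to_le inf_le_left
    · exact le_inf hS Subgroup.le_normalizer
  have hSS₀ : (S : Subgroup G) = S₀ := by
    by_contra hne
    have hlt : S₀.subgroupOf S < ⊤ := by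
      rw [lt_top_iff_ne_top]
      intro htop
      apply hne
      apply le_antisymm _ hS
      intro s hs
      have : (⟨s, hs⟩ : S) ∈ S₀.subgroupOf S := htop ▸ Subgroup.mem_top _
      exact Subgroup.mem_subgroupOf.mp this
    have hnilS : Group.IsNilpotent S := S.isPGroup'.isNilpotent
    have hnc := Group.normalizerCondition_of_isNilpotent (G := S)
    have h2 := hnc _ hlt
    obtain ⟨y, hyN, hyS⟩ := SetLike.exists_of_lt h2
    apply hyS
    rw [Subgroup.mem_subgroupOf, ← hNS]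
    refine ⟨y.2, ?_⟩
    rw [Subgroup.mem_normalizer_iff] at hyN
    change (y : G) ∈ Subgroup.normalizer (S₀ : Set G)
    rw [Subgroup.mem_normalizer_iff]
    intro g
    constructor
    · intro hg
      have := (hyN ⟨g, hS hg⟩).mp (Subgroup.mem_subgroupOf.mpr hg)
      simpa [Subgroup.mem_subgroupOf] using this
    · intro hg
      have hgS : g ∈ (S : Subgroup G) := by
        have h3 : (y : G) * g * (y : G)⁻¹ ∈ (S : Subgroup G) := hS hg
        have h4 := (S : Subgroup G).mul_mem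
          ((S : Subgroup G).mul_mem ((S : Subgroup G).inv_mem y.2) h3) y.2
        have h5 : (y : G)⁻¹ * ((y : G) * g * (y : G)⁻¹) * (y : G) = g := by group
        rwa [h5] at h4
      have := (hyN ⟨g, hgS⟩).mpr (by rw [Subgroup.mem_subgroupOf]; simpa using hg)
      exact Subgroup.mem_subgroupOf.mp this
  obtain ⟨S', hS'⟩ := hP.exists_le_sylow
  obtain ⟨g, hg⟩ := MulAction.exists_smul_eq G S' S
  refine ⟨g, fun x hx => ?_⟩
  rw [← hSS₀, ← hg, Sylow.smul_def, Sylow.pointwise_smul_def]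
  exact Cfsg.Agent.Lib.Helper54.conj_mem_conj_smul (hS' hx)

/-- **[OMZ]** `Ω₁(Z(O_p(H)))` for a nilpotent subgroup `H` of order divisible by `p`: a non-identity
central subgroup of exponent `p`, invariant under everything that normalizes `H`. -/
theorem exists_omega_center [Finite G] (p : ℕ) (hp : p.Prime) (H : Subgroup G)
    (hnil : Group.IsNilpotent H) (hpH : p ∣ Nat.card H) :
    ∃ V : Subgroup G, V ≤ H ∧ V ≠ ⊥ ∧ (∀ v ∈ V, v ^ p = 1) ∧ (∀ v ∈ V, ∀ h ∈ H, v * h = h * v) ∧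
      ∀ g : G, (∀ h ∈ H, g * h * g⁻¹ ∈ H) → ∀ v ∈ V, g * v * g⁻¹ ∈ V := by
  have : Fact p.Prime := ⟨hp⟩
  let V : Subgroup G :=
    { carrier := {z | z ∈ H ∧ (∀ h ∈ H, z * h = h * z) ∧ z ^ p = 1}
      one_mem' := ⟨H.one_mem, by simp, one_pow _⟩
      mul_mem' := by
        rintro a b ⟨ha, hac, hap⟩ ⟨hb, hbc, hbp⟩
        refine ⟨H.mul_mem ha hb, ?_, ?_⟩
        · intro h hh
          rw [mul_assoc, hbc h hh, ← mul_assoc, hac h hh, mul_assoc]
        · have hab : Commute a b := hac b hb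
          rw [hab.mul_pow, hap, hbp, one_mul]
      inv_mem' := by
        rintro a ⟨ha, hac, hap⟩
        refine ⟨H.inv_mem ha, ?_, by rw [inv_pow, hap, inv_one]⟩
        intro h hh
        have := hac h hh
        calc a⁻¹ * h = a⁻¹ * (h * a) * a⁻¹ := by group
          _ = a⁻¹ * (a * h) * a⁻¹ := by rw [this]
          _ = h * a⁻¹ := by group }
  have hVmem : ∀ z, z ∈ V ↔ z ∈ H ∧ (∀ h ∈ H, z * h = h * z) ∧ z ^ p = 1 := fun z => Iff.rfl
  refine ⟨V, fun v hv => ((hVmem v).mp hv).1, ?_, fun v hv => ((hVmem v).mp hv).2.2,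
    fun v hv => ((hVmem v).mp hv).2.1, ?_⟩
  · obtain ⟨u, huH, huo, huc⟩ :=
      Cfsg.Agent.Lib.Helper52.exists_central_orderOf_eq_prime H hnil p hpH
    intro hbot
    have huV : u ∈ V := by
      rw [hVmem]
      refine ⟨huH, huc, ?_⟩
      rw [← huo]
      exact pow_orderOf_eq_one u
    rw [hbot, Subgroup.mem_bot] at huV
    rw [huV, orderOf_one] at huo
    exact hp.one_lt.ne huo
  · intro g hg v hv
    obtain ⟨hvH, hvc, hvp⟩ := (hVmem v).mp hv
    -- conjugation by `g` is a bijection of `H`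
    have hinj : Function.Injective (fun h : H => (⟨g * h * g⁻¹, hg h h.2⟩ : H)) := by
      intro a b hab
      have h1 : g * (a : G) * g⁻¹ = g * (b : G) * g⁻¹ := congrArg Subtype.val hab
      apply Subtype.ext
      have h2 : (a : G) = g⁻¹ * (g * (a : G) * g⁻¹) * g := by group
      rw [h2, h1]
      group
    have hsurj := Finite.surjective_of_injective hinj
    rw [hVmem]
    refine ⟨hg v hvH, ?_, ?_⟩
    · intro h hh
      obtain ⟨h', hh'⟩ := hsurj ⟨h, hh⟩
      have h1 : g * (h' : G) * g⁻¹ = h := congrArg Subtype.val hh'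
      have h2 := hvc h' h'.2
      rw [← h1]
      calc g * v * g⁻¹ * (g * (h' : G) * g⁻¹) = g * (v * h') * g⁻¹ := by group
        _ = g * (h' * v) * g⁻¹ := by rw [h2]
        _ = g * (h' : G) * g⁻¹ * (g * v * g⁻¹) := by group
    · rw [conj_pow, hvp, mul_one, mul_inv_cancel]

end Cfsg.Agent.Lib.Helper46.PF12G
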