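import Mathlib

set_option autoImplicit false

namespace Cfsg.Agent.Lib.Helper46.PF10V

/-- `(p - 1) s² + 2 (p + 1) s ≥ -(p + 3)` for integers `s`, `p ≥ 5`. -/
theorem cube_g_lower (p s : ℤ) (hp : 5 ≤ p) : -(p + 3) ≤ (p - 1) * s ^ 2 + 2 * (p + 1) * s := by
  have key : 0 ≤ (s + 1) * ((p - 1) * (s + 1) + 4) := by
    rcases le_or_gt 0 (s + 1) with h | h
    · apply mul_nonneg h
      nlinarith
    · have h1 : s + 1 ≤ -1 := by omega
      apply mul_nonneg_of_nonpos_of_nonpos (by omega)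
      nlinarith
  nlinarith

/-- The arithmetic core of the residual case (c*) of Peterfalvi (10.10) (helper4's `cube_arith`,
board #4671): `s = 2 A0 + B`. -/
theorem cube_arith (p A0 B Q : ℤ) (hp : 5 ≤ p) (h1 : A0 ≤ Q) (h2 : -A0 ≤ Q)
    (h : 2 * p * Q + (p - 1) * (2 * A0 + B) ^ 2 + p * (p - 1) * B ^ 2 +
      2 * (p + 1) * (2 * A0 + B) ≤ 0) : A0 = 0 ∧ B = 0 ∧ Q = 0 := by
  have hQ : 0 ≤ Q := by omega
  have hg := cube_g_lower p (2 * A0 + B) hp
  have hB : B = 0 := by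
    by_contra hB
    have hB2 : 1 ≤ B ^ 2 := by
      have : B ≠ 0 := hB
      have h0 : 0 < B ^ 2 := by positivity
      omega
    have h3 : p * (p - 1) ≤ p * (p - 1) * B ^ 2 := by
      have : 0 ≤ p * (p - 1) := by nlinarith
      nlinarith
    have h4 : 0 ≤ 2 * p * Q := by nlinarith
    nlinarith
  subst hB
  rcases le_or_gt 0 A0 with ha | ha
  · have h3 : 0 ≤ (p - 1) * (2 * A0 + 0) ^ 2 := by
      apply mul_nonneg (by omega) (sq_nonneg _)
    have h4 : 0 ≤ 2 * (p + 1) * (2 * A0 + 0) := by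
      apply mul_nonneg (by omega) (by omega)
    have h5 : 2 * p * Q ≤ 0 := by nlinarith
    have hQ0 : Q = 0 := by
      by_contra hne
      have : 1 ≤ Q := by omega
      nlinarith
    refine ⟨by omega, rfl, hQ0⟩
  · exfalso
    have ha1 : A0 ≤ -1 := by omega
    -- with a = -A0 ≥ 1 and Q ≥ a
    have h3 : 2 * p * (-A0) ≤ 2 * p * Q := by nlinarith
    nlinarith

end Cfsg.Agent.Lib.Helper46.PF10V
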