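import Mathlib
import Cfsg.Agent.S0012
import Cfsg.Agent.Lib.Helper30.MaxClassGen

set_option autoImplicit false

/-!
Module [KC] for S5239 (helper87, board #2997): the key count of helper30's `MaxClassGen`
for an abstract power filtration `L`: every subgroup of `L 0` is generated by `p - 1`
elements.  By helper46 (adapting `Cfsg.Agent.Lib.Helper30.MaxClassGen.key_count`).
-/

namespace Cfsg.Agent.Lib.Helper46.PearlKC

open Subgroup Cfsg.Agent.Lib.Helper30.MaxClassGen

variable {G : Type*} [Group G] [Finite G] {p : ℕ} [Fact p.Prime]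

omit [Finite G] in
/-- in a filtration with steps of index at most `p` ending at `L m = ⊥`, `|L i| ≤ p ^ (m - i)` -/
theorem card_le_of_filtration (L : ℕ → Subgroup G) (m : ℕ) (hanti : Antitone L)
    (hbot : L m = ⊥) (hidx : ∀ i, (L (i + 1)).relIndex (L i) ≤ p) :
    ∀ d i : ℕ, m ≤ i + d → Nat.card (L i) ≤ p ^ d := by
  have hp : 0 < p := (Fact.out : p.Prime).pos
  intro d
  induction d with
  | zero =>
    intro i hi
    have h1 : L i = ⊥ := le_bot_iff.mp (hbot ▸ hanti (by omega : m ≤ i))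
    rw [h1, Subgroup.card_bot, pow_zero]
  | succ d ih =>
    intro i hi
    have h1 := ih (i + 1) (by omega)
    have h2 := card_mul_relIndex_of_le (hanti (Nat.le_succ i))
    calc Nat.card (L i) = Nat.card (L (i + 1)) * (L (i + 1)).relIndex (L i) := h2.symm
      _ ≤ p ^ d * p := Nat.mul_le_mul h1 (hidx i)
      _ = p ^ (d + 1) := (pow_succ p d).symm

theorem key_count' (hG : IsPGroup p G) (L : ℕ → Subgroup G) (m : ℕ) (hanti : Antitone L)
    (hbot : L m = ⊥) (hidx : ∀ i, (L (i + 1)).relIndex (L i) ≤ p)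
    (hpowU : ∀ i, ∀ u ∈ L i, u ^ p ∈ L (i + p - 1))
    (hpowL : ∀ i, i + p ≤ m → ∀ u ∈ L i, u ^ p ∈ L (i + p) → u ∈ L (i + 1))
    (K N : Subgroup G) (hKN : ∀ u ∈ K, u ^ p ∈ N) :
    ∀ j i : ℕ, m ≤ i + j + (p - 1) →
      Nat.card (K ⊓ L i : Subgroup G) ≤ Nat.card (N ⊓ L (i + p - 1) : Subgroup G) * p ^ (p - 1) := by
  have hp : 0 < p := (Fact.out : p.Prime).pos
  have hp2 : 2 ≤ p := (Fact.out : p.Prime).two_le
  have hbase : ∀ i : ℕ, m ≤ i + (p - 1) →
      Nat.card (K ⊓ L i : Subgroup G) ≤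
        Nat.card (N ⊓ L (i + p - 1) : Subgroup G) * p ^ (p - 1) := by
    intro i hi
    calc Nat.card (K ⊓ L i : Subgroup G) ≤ Nat.card (L i) := Subgroup.card_le_of_le inf_le_right
      _ ≤ p ^ (p - 1) := card_le_of_filtration L m hanti hbot hidx (p - 1) i hi
      _ = 1 * p ^ (p - 1) := (one_mul _).symm
      _ ≤ Nat.card (N ⊓ L (i + p - 1) : Subgroup G) * p ^ (p - 1) :=
          Nat.mul_le_mul_right _ Nat.card_pos
  intro j
  induction j with
  | zero => intro i hi; exact hbase i (by simpa using hi)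
  | succ j ih =>
    intro i hi
    by_cases hb : m ≤ i + (p - 1)
    · exact hbase i hb
    · have hip : i + p ≤ m := by omega
      have hIH := ih (i + 1) (by omega)
      have he : i + 1 + p - 1 = i + p := by omega
      rw [he] at hIH
      have hanti' : L (i + p) ≤ L (i + p - 1) := hanti (by omega)
      by_cases hcase : K ⊓ L i ≤ L (i + 1)
      · have heq : K ⊓ L i = K ⊓ L (i + 1) :=
          le_antisymm (le_inf inf_le_left hcase)
            (inf_le_inf_left _ (hanti (Nat.le_succ i)))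
        rw [heq]
        refine le_trans hIH (Nat.mul_le_mul_right _ ?_)
        exact Subgroup.card_le_of_le (inf_le_inf_left _ hanti')
      · obtain ⟨u, hu, hu'⟩ := SetLike.not_le_iff_exists.mp hcase
        have huK : u ∈ K := hu.1
        have huL : u ∈ L i := hu.2
        have h1 : u ^ p ∈ N ⊓ L (i + p - 1) := ⟨hKN u huK, hpowU i u huL⟩
        have h2 : u ^ p ∉ L (i + p) := fun h => hu' (hpowL i hip u huL h)
        have hlt : N ⊓ L (i + p) < N ⊓ L (i + p - 1) := by
          refine lt_of_le_of_ne (inf_le_inf_left _ hanti') fun heq => h2 ?_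
          have : u ^ p ∈ N ⊓ L (i + p) := heq ▸ h1
          exact this.2
        have h3 := mul_card_le_of_lt hG hlt
        have h4 := card_inf_le_mul_relIndex K (hanti (Nat.le_succ i))
        have h5 := hidx i
        calc Nat.card (K ⊓ L i : Subgroup G)
            ≤ Nat.card (K ⊓ L (i + 1) : Subgroup G) * (L (i + 1)).relIndex (L i) := h4
          _ ≤ Nat.card (K ⊓ L (i + 1) : Subgroup G) * p := Nat.mul_le_mul_left _ h5
          _ ≤ (Nat.card (N ⊓ L (i + p) : Subgroup G) * p ^ (p - 1)) * p :=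
              Nat.mul_le_mul_right _ hIH
          _ = (p * Nat.card (N ⊓ L (i + p) : Subgroup G)) * p ^ (p - 1) := by ring
          _ ≤ Nat.card (N ⊓ L (i + p - 1) : Subgroup G) * p ^ (p - 1) :=
              Nat.mul_le_mul_right _ h3

/-- [KC] -/
theorem gen_of_power_filtration {G : Type*} [Group G] [Finite G] {p : ℕ} [Fact p.Prime]
    (hG : IsPGroup p G) (L : ℕ → Subgroup G) (m : ℕ) (hanti : Antitone L) (hbot : L m = ⊥)
    (hidx : ∀ i, (L (i + 1)).relIndex (L i) ≤ p)
    (hpowU : ∀ i, ∀ u ∈ L i, u ^ p ∈ L (i + p - 1))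
    (hpowL : ∀ i, i + p ≤ m → ∀ u ∈ L i, u ^ p ∈ L (i + p) → u ∈ L (i + 1))
    (H : Subgroup G) (hH : H ≤ L 0) :
    ∃ T : Finset G, T.card ≤ p - 1 ∧ Subgroup.closure (T : Set G) = H := by
  classical
  have hp : 0 < p := (Fact.out : p.Prime).pos
  have hp2 : 2 ≤ p := (Fact.out : p.Prime).two_le
  let N' : Subgroup H := Subgroup.closure {v | ∃ u : H, u ^ p = v}
  have hN'frat : N' ≤ frattini H := by
    apply (Subgroup.closure_le _).mpr
    rintro v ⟨u, rfl⟩
    exact (Cfsg.Agent.S0012.result p (hG.to_subgroup H)).2 u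
  have hKN : ∀ u ∈ H, u ^ p ∈ N'.map H.subtype := by
    intro u hu
    exact ⟨⟨u, hu⟩ ^ p, Subgroup.subset_closure ⟨⟨u, hu⟩, rfl⟩, by simp⟩
  have hkey := key_count' hG L m hanti hbot hidx hpowU hpowL H (N'.map H.subtype) hKN m 0
    (by omega)
  have hcardN : Nat.card (N'.map H.subtype) = Nat.card N' :=
    Subgroup.card_map_of_injective H.subtype_injective
  have h1 : H ⊓ L 0 = H := inf_eq_left.mpr hH
  rw [h1] at hkey
  have h2 : Nat.card H ≤ Nat.card N' * p ^ (p - 1) := by
    calc Nat.card H ≤ Nat.card (N'.map H.subtype ⊓ L (0 + p - 1) : Subgroup G) * p ^ (p - 1) := hkey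
      _ ≤ Nat.card (N'.map H.subtype) * p ^ (p - 1) :=
          Nat.mul_le_mul_right _ (Subgroup.card_le_of_le inf_le_left)
      _ = Nat.card N' * p ^ (p - 1) := by rw [hcardN]
  have h3 : N'.index ≤ p ^ (p - 1) := by
    have h := Subgroup.card_mul_index N'
    rw [← h] at h2
    exact Nat.le_of_mul_le_mul_left h2 Nat.card_pos
  obtain ⟨T', hT', hTc'⟩ := exists_finset_sup_eq_top (hG.to_subgroup H) N'
  have hT'top : Subgroup.closure (T' : Set H) = ⊤ :=
    closure_eq_top_of_le_frattini hN'frat hT'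
  refine ⟨T'.image Subtype.val, ?_, ?_⟩
  · have h4 : p ^ T'.card ≤ p ^ (p - 1) := le_trans hTc' h3
    have h5 := (Nat.pow_le_pow_iff_right (show 1 < p by omega)).mp h4
    exact le_trans Finset.card_image_le h5
  · have h6 : ((T'.image Subtype.val : Finset G) : Set G) = H.subtype '' (T' : Set H) := by
      ext x
      simp
    rw [h6, ← MonoidHom.map_closure, hT'top, ← MonoidHom.range_eq_map, Subgroup.range_subtype]

end Cfsg.Agent.Lib.Helper46.PearlKC
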