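import Mathlib

set_option autoImplicit false

/-!
Module [UNI] for S5239 (helper87, board #2997): in a group whose lower central series has
the orders of a `p`-group of maximal class, every subgroup of `⟨h⟩ Γ₁` containing a uniform
element `h` is generated by two elements.  By helper46.
-/

namespace Cfsg.Agent.Lib.Helper46.PearlUni

open scoped commutatorElement

variable {G : Type*} [Group G]

theorem comm_mem_lcs_succ (h u : G) (m : ℕ)
    (hu : u ∈ (⊤ : Subgroup G).lowerCentralSeries m) :
    ⁅h, u⁆ ∈ (⊤ : Subgroup G).lowerCentralSeries (m + 1) := by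
  rw [Subgroup.lowerCentralSeries_succ]
  have h1 : ⁅u, h⁆ ∈ ⁅(⊤ : Subgroup G).lowerCentralSeries m, (⊤ : Subgroup G)⁆ :=
    Subgroup.commutator_mem_commutator hu (Subgroup.mem_top h)
  have h2 : ⁅h, u⁆ = ⁅u, h⁆⁻¹ := (commutatorElement_inv u h).symm
  rw [h2]
  exact Subgroup.inv_mem _ h1

theorem le_of_mem_of_card [Finite G] {p : ℕ} (hp : p.Prime) (A B C : Subgroup G) (hBA : B ≤ A)
    (hcard : Nat.card A = p * Nat.card B) (hBC : B ≤ C) (x : G) (hxA : x ∈ A) (hxB : x ∉ B)
    (hxC : x ∈ C) : A ≤ C := by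
  have hBD : B ≤ C ⊓ A := le_inf hBC hBA
  have hDA : C ⊓ A ≤ A := inf_le_right
  have h1 : Nat.card B ∣ Nat.card (C ⊓ A : Subgroup G) := Subgroup.card_dvd_of_le hBD
  have h2 : Nat.card (C ⊓ A : Subgroup G) ∣ Nat.card A := Subgroup.card_dvd_of_le hDA
  obtain ⟨t, ht⟩ := h1
  rw [ht, hcard, mul_comm p] at h2
  have hBpos : 0 < Nat.card B := Nat.card_pos
  have h3 : t ∣ p := Nat.dvd_of_mul_dvd_mul_left hBpos h2
  rcases (Nat.dvd_prime hp).mp h3 with rfl | rfl
  · exfalso
    have h4 : B = C ⊓ A := Subgroup.eq_of_le_of_card_ge hBD (by rw [ht, mul_one])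
    apply hxB
    rw [h4]
    exact ⟨hxC, hxA⟩
  · have h4 : C ⊓ A = A := Subgroup.eq_of_le_of_card_ge hDA (by rw [ht, hcard, mul_comm])
    rw [← h4]
    exact inf_le_left

/-- [UNI] -/
theorem two_gen_of_uniform {G : Type*} [Group G] [Finite G] {p : ℕ} [Fact p.Prime] (n : ℕ)
    (hn : 3 ≤ n)
    (hcard : ∀ k, 1 ≤ k → k ≤ n - 1 →
      Nat.card ((⊤ : Subgroup G).lowerCentralSeries k) = p ^ (n - 1 - k))
    (h : G)
    (huni : ∀ k, 1 ≤ k → k + 3 ≤ n → ∀ u ∈ (⊤ : Subgroup G).lowerCentralSeries k,
      ⁅h, u⁆ ∈ (⊤ : Subgroup G).lowerCentralSeries (k + 2) →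
      u ∈ (⊤ : Subgroup G).lowerCentralSeries (k + 1))
    (H : Subgroup G) (hhH : h ∈ H)
    (hH : H ≤ Subgroup.zpowers h ⊔ (⊤ : Subgroup G).lowerCentralSeries 1) :
    ∃ T : Finset G, T.card ≤ 2 ∧ Subgroup.closure (T : Set G) = H := by
  classical
  have hp : p.Prime := Fact.out
  have hanti : Antitone (⊤ : Subgroup G).lowerCentralSeries :=
    Subgroup.lowerCentralSeries_antitone _
  have hbot : (⊤ : Subgroup G).lowerCentralSeries (n - 1) = ⊥ := by
    have := hcard (n - 1) (by omega) le_rfl
    rw [Nat.sub_self, pow_zero] at this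
    exact Subgroup.card_eq_one.mp this
  -- decomposition of elements of `H`
  have hdec : ∀ x ∈ H, ∃ a ∈ Subgroup.zpowers h, ∃ b ∈ H ⊓ (⊤ : Subgroup G).lowerCentralSeries 1,
      a * b = x := by
    intro x hx
    have hx' : x ∈ ((Subgroup.zpowers h ⊔ (⊤ : Subgroup G).lowerCentralSeries 1 : Subgroup G) :
        Set G) := hH hx
    rw [Subgroup.mul_normal] at hx'
    obtain ⟨a, ha, b, hb, hab⟩ := Set.mem_mul.mp hx'
    refine ⟨a, ha, b, ⟨?_, hb⟩, hab⟩
    have haH : a ∈ H := (Subgroup.zpowers_le.mpr hhH) ha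
    have : b = a⁻¹ * x := by rw [← hab]; group
    rw [this]
    exact H.mul_mem (H.inv_mem haH) hx
  by_cases hK : H ⊓ (⊤ : Subgroup G).lowerCentralSeries 1 = ⊥
  · refine ⟨{h}, by simp, ?_⟩
    apply le_antisymm
    · rw [Subgroup.closure_le]
      intro x hx
      rw [Finset.coe_singleton, Set.mem_singleton_iff] at hx
      rw [hx]; exact hhH
    · intro x hx
      obtain ⟨a, ha, b, hb, hab⟩ := hdec x hx
      rw [hK, Subgroup.mem_bot] at hb
      rw [← hab, hb, mul_one, Finset.coe_singleton, ← Subgroup.zpowers_eq_closure]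
      exact ha
  · -- the largest `j` with `K ≤ Γ j`
    have hex : ∃ m, ¬ H ⊓ (⊤ : Subgroup G).lowerCentralSeries 1 ≤
        (⊤ : Subgroup G).lowerCentralSeries m := by
      refine ⟨n - 1, ?_⟩
      rw [hbot, le_bot_iff]
      exact hK
    set m₀ := Nat.find hex with hm₀
    have hm₀spec : ¬ H ⊓ (⊤ : Subgroup G).lowerCentralSeries 1 ≤
        (⊤ : Subgroup G).lowerCentralSeries m₀ := Nat.find_spec hex
    have hm₀le : m₀ ≤ n - 1 := Nat.find_min' hex (by rw [hbot, le_bot_iff]; exact hK)
    have hm₀2 : 2 ≤ m₀ := by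
      by_contra hlt
      push Not at hlt
      apply hm₀spec
      exact inf_le_right.trans (hanti (by omega))
    obtain ⟨j, hj⟩ : ∃ j, m₀ = j + 1 := ⟨m₀ - 1, by omega⟩
    have hj1 : 1 ≤ j := by omega
    have hjn : j + 2 ≤ n := by omega
    have hKj : H ⊓ (⊤ : Subgroup G).lowerCentralSeries 1 ≤
        (⊤ : Subgroup G).lowerCentralSeries j := by
      have := Nat.find_min hex (m := j) (by omega)
      push Not at this
      exact this
    rw [hj] at hm₀spec
    obtain ⟨k₀, hk₀K, hk₀⟩ := SetLike.not_le_iff_exists.mp hm₀spec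
    refine ⟨{h, k₀}, Finset.card_le_two, ?_⟩
    have hhT : h ∈ Subgroup.closure ((({h, k₀} : Finset G)) : Set G) :=
      Subgroup.subset_closure (by simp)
    have hkT : k₀ ∈ Subgroup.closure ((({h, k₀} : Finset G)) : Set G) :=
      Subgroup.subset_closure (by simp)
    -- the sequence of iterated commutators
    let ks : ℕ → G := fun i => Nat.rec k₀ (fun _ x => ⁅h, x⁆) i
    have hks0 : ks 0 = k₀ := rfl
    have hkss : ∀ i, ks (i + 1) = ⁅h, ks i⁆ := fun i => rfl
    have hA : ∀ i, ks i ∈ Subgroup.closure ((({h, k₀} : Finset G)) : Set G) := by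
      intro i
      induction i with
      | zero => exact hkT
      | succ i ih =>
        rw [hkss, commutatorElement_def]
        exact Subgroup.mul_mem _ (Subgroup.mul_mem _ (Subgroup.mul_mem _ hhT ih)
          (Subgroup.inv_mem _ hhT)) (Subgroup.inv_mem _ ih)
    have hB : ∀ i, ks i ∈ (⊤ : Subgroup G).lowerCentralSeries (j + i) := by
      intro i
      induction i with
      | zero => exact hKj hk₀K
      | succ i ih =>
        rw [hkss]
        exact comm_mem_lcs_succ h (ks i) (j + i) ih
    have hC : ∀ i, j + i + 2 ≤ n → ks i ∉ (⊤ : Subgroup G).lowerCentralSeries (j + i + 1) := by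
      intro i
      induction i with
      | zero => intro _; exact hk₀
      | succ i ih =>
        intro hle hmem
        apply ih (by omega)
        apply huni (j + i) (by omega) (by omega) (ks i) (hB i)
        rw [← hkss]
        exact hmem
    have hD : ∀ d l, l + d = n - 1 → j ≤ l →
        (⊤ : Subgroup G).lowerCentralSeries l ≤
          Subgroup.closure ((({h, k₀} : Finset G)) : Set G) := by
      intro d
      induction d with
      | zero =>
        intro l hl _
        have : l = n - 1 := by omega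
        rw [this, hbot]
        exact bot_le
      | succ d ih =>
        intro l hl hjl
        have h1 := ih (l + 1) (by omega) (by omega)
        have hc1 := hcard l (by omega) (by omega)
        have hc2 := hcard (l + 1) (by omega) (by omega)
        have hcc : Nat.card ((⊤ : Subgroup G).lowerCentralSeries l) =
            p * Nat.card ((⊤ : Subgroup G).lowerCentralSeries (l + 1)) := by
          rw [hc1, hc2, ← pow_succ']
          congr 1
          omega
        obtain ⟨i, hi⟩ : ∃ i, l = j + i := ⟨l - j, by omega⟩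
        refine le_of_mem_of_card hp _ _ _ (hanti (Nat.le_succ l)) hcc h1 (ks i) ?_ ?_ (hA i)
        · rw [hi]; exact hB i
        · rw [hi]; exact hC i (by omega)
    apply le_antisymm
    · rw [Subgroup.closure_le]
      intro x hx
      rw [Finset.coe_insert, Finset.coe_singleton] at hx
      rcases hx with rfl | hx
      · exact hhH
      · rw [Set.mem_singleton_iff] at hx
        rw [hx]; exact hk₀K.1
    · intro x hx
      obtain ⟨a, ha, b, hb, hab⟩ := hdec x hx
      rw [← hab]
      refine Subgroup.mul_mem _ ?_ ?_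
      · exact (Subgroup.zpowers_le.mpr hhT) ha
      · exact hD (n - 1 - j) j (by omega) le_rfl (hKj hb)

end Cfsg.Agent.Lib.Helper46.PearlUni
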