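import Mathlib
import Cfsg.Agent.Lib.Helper78.CharMore
import Cfsg.Agent.Lib.Helper80.CharBasic

/-!
# Congruences for character values (for the Brauer–Suzuki theorem, `Q₈` case)

* `congr_four`: `a ^ 4 = 1`, `χ a = χ a⁻¹` ⟹ `4 ∣ χ 1 - χ (a ^ 2)`.
* `congr_eight`: `ψ : Q₈ → G`, `χ ∘ ψ = E` on the six elements of order 4 ⟹
  `8 ∣ χ 1 + χ (ψ (a 2)) + 6 E`.
-/

set_option autoImplicit false

namespace Cfsg.Agent.Lib.Helper46.Congr

open Cfsg QuaternionGroup
open scoped ComplexConjugate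

universe u v




/-- The homomorphism `ZMod n → H`, `k ↦ x ^ k`, for `x ^ n = 1`. -/
noncomputable def zmodHom {H : Type v} [Group H] (n : ℕ) (x : H) (hx : x ^ n = 1) :
    Multiplicative (ZMod n) →* H :=
  AddMonoidHom.toMultiplicativeLeft (ZMod.lift n ⟨zmultiplesHom (Additive H) (Additive.ofMul x), by
    show (n : ℤ) • Additive.ofMul x = 0
    rw [natCast_zsmul, ← ofMul_pow, hx]; rfl⟩)

theorem zmodHom_apply {H : Type v} [Group H] (n : ℕ) (x : H) (hx : x ^ n = 1) (k : ℤ) :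
    zmodHom n x hx (Multiplicative.ofAdd (k : ZMod n)) = x ^ k := by
  unfold zmodHom
  show Additive.toMul (ZMod.lift n _ (k : ZMod n)) = x ^ k
  rw [ZMod.lift_coe]
  show Additive.toMul (k • Additive.ofMul x) = x ^ k
  rw [← ofMul_zpow]; rfl






/-- `Complex.I` as a unit. -/
noncomputable def Iunit : ℂˣ := ⟨Complex.I, -Complex.I, by simp, by simp⟩

theorem Iunit_pow_four : Iunit ^ 4 = 1 := by
  apply Units.ext
  simp [Iunit, Complex.I_pow_four]

theorem sum_zmod_four (f : Multiplicative (ZMod 4) → ℂ) :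
    ∑ g, f g = f (Multiplicative.ofAdd ((0 : ℤ) : ZMod 4)) +
      f (Multiplicative.ofAdd ((1 : ℤ) : ZMod 4)) + f (Multiplicative.ofAdd ((2 : ℤ) : ZMod 4)) +
      f (Multiplicative.ofAdd ((3 : ℤ) : ZMod 4)) :=
  Fin.sum_univ_four f

/-- **Congruence mod 4.** If `a ^ 4 = 1` and `χ a = χ a⁻¹` then `4 ∣ χ 1 - χ (a ^ 2)`. -/
theorem congr_four {G : Type u} [Group G] {χ : G → ℂ} (hχ : IsCharacter G χ) (a : G)
    (ha : a ^ 4 = 1) (hreal : χ a = χ a⁻¹) : ∃ n : ℕ, χ 1 - χ (a ^ 2) = 4 * (n : ℂ) := by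
  classical
  set F := zmodHom 4 a ha with hF
  set μ := zmodHom 4 Iunit Iunit_pow_four with hμdef
  have hχ' : IsCharacter (Multiplicative (ZMod 4)) (fun k => χ (F k)) :=
    Cfsg.Agent.Lib.Helper80.isCharacter_comp F hχ
  have hμ : IsIrrCharacter (Multiplicative (ZMod 4)) (fun k => ((μ k : ℂˣ) : ℂ)) :=
    Cfsg.Agent.Lib.Helper80.isIrrCharacter_of_hom μ
  obtain ⟨n, hn⟩ := Cfsg.Agent.Lib.Helper78.IsCharacter.exists_nat_classInner hχ' ⟨_, hμ⟩
  refine ⟨n, ?_⟩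
  unfold classInner at hn
  rw [sum_zmod_four] at hn
  simp only [hF, hμdef, zmodHom_apply] at hn
  have hcard : Nat.card (Multiplicative (ZMod 4)) = 4 := by
    rw [Nat.card_eq_fintype_card, Fintype.card_multiplicative, ZMod.card]
  rw [hcard] at hn
  have ha3 : a ^ (3 : ℤ) = a⁻¹ := by
    have : a ^ (3 : ℤ) * a = 1 := by
      have h4 : a ^ (4 : ℤ) = 1 := by exact_mod_cast ha
      rw [← h4]
      have : (4 : ℤ) = 3 + 1 := by norm_num
      rw [this, zpow_add, zpow_one]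
    exact eq_inv_of_mul_eq_one_left this
  have ha2 : a ^ (2 : ℤ) = a ^ 2 := by norm_cast
  rw [ha3, ha2, ← hreal] at hn
  simp [Iunit] at hn
  linear_combination 4 * hn





/-- enumeration of `Q₈`. -/
def qEquiv : ZMod (2 * 2) ⊕ ZMod (2 * 2) ≃ QuaternionGroup 2 where
  toFun := Sum.elim a xa
  invFun := fun q => match q with
    | a i => Sum.inl i
    | xa i => Sum.inr i
  left_inv := by rintro (i | i) <;> rfl
  right_inv := by rintro (i | i) <;> rfl

theorem sum_q8 (f : QuaternionGroup 2 → ℂ) :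
    ∑ q, f q = (f (a 0) + f (a 1) + f (a 2) + f (a 3)) +
      (f (xa 0) + f (xa 1) + f (xa 2) + f (xa 3)) := by
  rw [← Equiv.sum_comp qEquiv f, Fintype.sum_sum_type]
  congr 1
  · exact Fin.sum_univ_four (fun i => f (a i))
  · exact Fin.sum_univ_four (fun i => f (xa i))

theorem orderOf_a_three : orderOf (a 3 : QuaternionGroup 2) = 4 := by
  rw [QuaternionGroup.orderOf_a]
  rfl

/-- **Congruence mod 8.** For a character `χ` of `G` and a homomorphism `ψ : Q₈ → G` such that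
`χ ∘ ψ` takes the value `E` on all six elements of order 4:
`8 ∣ χ 1 + χ (ψ (a 2)) + 6 E`. -/
theorem congr_eight {G : Type u} [Group G] {χ : G → ℂ} (hχ : IsCharacter G χ)
    (ψ : QuaternionGroup 2 →* G) (E : ℂ)
    (hE : ∀ q : QuaternionGroup 2, orderOf q = 4 → χ (ψ q) = E) :
    ∃ n : ℕ, χ 1 + χ (ψ (a 2)) + 6 * E = 8 * (n : ℂ) := by
  classical
  have hχ' : IsCharacter (QuaternionGroup 2) (fun q => χ (ψ q)) :=
    Cfsg.Agent.Lib.Helper80.isCharacter_comp ψ hχ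
  have h1 : IsIrrCharacter (QuaternionGroup 2) (fun _ => (1 : ℂ)) :=
    Cfsg.Agent.Lib.Helper80.isIrrCharacter_one
  obtain ⟨n, hn⟩ := Cfsg.Agent.Lib.Helper78.IsCharacter.exists_nat_classInner hχ' ⟨_, h1⟩
  refine ⟨n, ?_⟩
  unfold classInner at hn
  rw [sum_q8] at hn
  have hcard : Nat.card (QuaternionGroup 2) = 8 := by
    rw [Nat.card_eq_fintype_card, QuaternionGroup.card]
  rw [hcard] at hn
  have e1 : χ (ψ (a 1)) = E := hE _ QuaternionGroup.orderOf_a_one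
  have e3 : χ (ψ (a 3)) = E := hE _ orderOf_a_three
  have x0 : χ (ψ (xa 0)) = E := hE _ (QuaternionGroup.orderOf_xa 0)
  have x1 : χ (ψ (xa 1)) = E := hE _ (QuaternionGroup.orderOf_xa 1)
  have x2 : χ (ψ (xa 2)) = E := hE _ (QuaternionGroup.orderOf_xa 2)
  have x3 : χ (ψ (xa 3)) = E := hE _ (QuaternionGroup.orderOf_xa 3)
  have a0 : ψ (a 0) = 1 := by
    rw [← QuaternionGroup.one_def, map_one]
  simp only [e1, e3, x0, x1, x2, x3, a0, map_one, mul_one] at hn
  push_cast at hn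
  linear_combination 8 * hn


/-- integer form of `congr_four`. -/
theorem congr_four_int {G : Type u} [Group G] {χ : G → ℂ} (hχ : IsCharacter G χ) (a : G)
    (ha : a ^ 4 = 1) (hreal : χ a = χ a⁻¹) {f c : ℤ} (hf : χ 1 = f) (hc : χ (a ^ 2) = c) :
    4 ∣ f - c := by
  obtain ⟨n, hn⟩ := congr_four hχ a ha hreal
  refine ⟨n, ?_⟩
  rw [hf, hc] at hn
  exact_mod_cast hn

/-- integer form of `congr_eight`. -/
theorem congr_eight_int {G : Type u} [Group G] {χ : G → ℂ} (hχ : IsCharacter G χ)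
    (ψ : QuaternionGroup 2 →* G) {f c e : ℤ} (hf : χ 1 = f) (hc : χ (ψ (a 2)) = c)
    (hE : ∀ q : QuaternionGroup 2, orderOf q = 4 → χ (ψ q) = e) :
    8 ∣ f + c - 2 * e := by
  obtain ⟨n, hn⟩ := congr_eight hχ ψ (e : ℂ) hE
  refine ⟨n - e, ?_⟩
  rw [hf, hc] at hn
  have : f + c + 6 * e = 8 * (n : ℤ) := by exact_mod_cast hn
  linarith

end Cfsg.Agent.Lib.Helper46.Congr
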