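import Mathlib
import Cfsg.Agent.Lib.Helper46.Q8Fusion
import Cfsg.Agent.Lib.Helper52.CyclicInter
import Cfsg.Agent.Lib.Helper55.Cores
import Cfsg.Agent.Lib.Helper55.Cores2
import Cfsg.Agent.Lib.Helper97.Cores

/-!
# Brauer–Suzuki for `Q₈`: the induction wrapper

`bs_q8_of_core`: if (`Q8Core`) every finite group `G` with `O(G) = 1`, a Sylow 2-subgroup `S ≅ Q₈`
and no normal subgroup of index 2 has a proper normal subgroup containing the involution of `S`,
then every finite group with `O(G) = 1` and Sylow 2-subgroup `≅ Q₈` has centre of order 2.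
-/

set_option autoImplicit false

namespace Cfsg.Agent.Lib.Helper46

open QuaternionGroup Cfsg

universe u

section Q8facts

theorem q8_center : ∀ q : QuaternionGroup 2, (∀ r : QuaternionGroup 2, q * r = r * q) →
    q = 1 ∨ q = a 2 := by
  decide +kernel

theorem q8_pow_four : ∀ q : QuaternionGroup 2, q ^ 4 = 1 := by
  decide +kernel

theorem q8_a2_ne_one : (a 2 : QuaternionGroup 2) ≠ 1 := by
  decide +kernel

theorem q8_a2_sq : (a 2 : QuaternionGroup 2) ^ 2 = 1 := by
  decide +kernel

theorem q8_a1_sq : (a 1 : QuaternionGroup 2) ^ 2 = a 2 := by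
  decide +kernel

end Q8facts

/-- The core statement to be supplied by character theory. -/
def Q8Core : Prop :=
  ∀ (G : Type u) [Group G] [Finite G] (S : Sylow 2 G)
    (e : (S : Subgroup G) ≃* QuaternionGroup 2),
    (∀ N : Subgroup G, N.Normal → Odd (Nat.card N) → N = ⊥) →
    (∀ M : Subgroup G, M.Normal → M.index ≠ 2) →
    ∃ K : Subgroup G, K.Normal ∧ K ≠ ⊤ ∧
      ((e.symm (QuaternionGroup.a 2) : (S : Subgroup G)) : G) ∈ K

variable {G : Type u} [Group G]

theorem orderOf_qpsi_a2 (S : Subgroup G) (e : S ≃* QuaternionGroup 2) :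
    orderOf (qpsi S e (a 2)) = 2 := by
  rw [orderOf_qpsi]
  have : Fact (Nat.Prime 2) := ⟨Nat.prime_two⟩
  exact orderOf_eq_prime q8_a2_sq q8_a2_ne_one

/-- the unique involution of `S ≅ Q₈` -/
theorem eq_qpsi_a2_of_orderOf_two (S : Subgroup G) (e : S ≃* QuaternionGroup 2) {s : G}
    (hs : s ∈ S) (h2 : orderOf s = 2) : s = qpsi S e (a 2) := by
  obtain ⟨q, rfl⟩ := exists_qpsi_eq S e hs
  rw [orderOf_qpsi] at h2
  have h1 : q ^ 2 = 1 := by
    have := pow_orderOf_eq_one q
    rwa [h2] at this
  have h3 : q ≠ 1 := by
    rintro rfl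
    rw [orderOf_one] at h2
    omega
  rw [q8_o2 q h1 h3]

theorem card_eq_eight (S : Subgroup G) (e : S ≃* QuaternionGroup 2) : Nat.card S = 8 := by
  rw [Nat.card_congr e.toEquiv, Nat.card_eq_fintype_card, QuaternionGroup.card]

/-- proper subgroups of `Q₈` are cyclic -/
theorem isCyclic_of_lt [Finite G] (S : Subgroup G) (e : S ≃* QuaternionGroup 2) (H : Subgroup G)
    (hH : H ≤ S) (hne : ¬ S ≤ H) : IsCyclic H := by
  have hcardS := card_eq_eight S e
  have hdvd : Nat.card H ∣ 8 := by
    rw [← hcardS]
    exact Subgroup.card_dvd_of_le hH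
  have hne8 : Nat.card H ≠ 8 := by
    intro h8
    apply hne
    have : H = S := Subgroup.eq_of_le_of_card_ge hH (by rw [hcardS, h8])
    rw [this]
  have hle : Nat.card H ≤ 8 := Nat.le_of_dvd (by norm_num) hdvd
  have hpos : 0 < Nat.card H := Nat.card_pos
  -- all elements of H satisfy x^4 = 1
  have hpow4 : ∀ x ∈ H, x ^ 4 = 1 := by
    intro x hx
    obtain ⟨q, rfl⟩ := exists_qpsi_eq S e (hH hx)
    rw [← map_pow, q8_pow_four, map_one]
  have hcases : Nat.card H = 1 ∨ Nat.card H = 2 ∨ Nat.card H = 4 := by
    interval_cases hc : Nat.card H <;> simp_all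
  rcases hcases with hc | hc | hc
  · -- card 1
    have : Subsingleton H := (Nat.card_eq_one_iff_unique.mp hc).1
    exact isCyclic_of_subsingleton
  · have : Fact (Nat.Prime 2) := ⟨Nat.prime_two⟩
    exact isCyclic_of_prime_card hc
  · -- card 4
    by_cases hall : ∀ x ∈ H, x ^ 2 = 1
    · exfalso
      have hsub : (H : Set G) ⊆ {1, qpsi S e (a 2)} := by
        intro x hx
        by_cases hx1 : x = 1
        · left; exact hx1
        · right
          have : Fact (Nat.Prime 2) := ⟨Nat.prime_two⟩
          have := orderOf_eq_prime (hall x hx) hx1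
          exact eq_qpsi_a2_of_orderOf_two S e (hH hx) this
      have h1 : Nat.card H = (H : Set G).ncard := Nat.card_coe_set_eq (H : Set G)
      have h2 : (H : Set G).ncard ≤ ({1, qpsi S e (a 2)} : Set G).ncard :=
        Set.ncard_le_ncard hsub (Set.toFinite _)
      have h3 : ({1, qpsi S e (a 2)} : Set G).ncard ≤ 2 := by
        refine (Set.ncard_insert_le _ _).trans ?_
        rw [Set.ncard_singleton]
      omega
    · push Not at hall
      obtain ⟨x, hx, hx2⟩ := hall
      have hx4 := hpow4 x hx
      have : Fact (Nat.Prime 2) := ⟨Nat.prime_two⟩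
      have ho : orderOf x = 2 ^ (1 + 1) :=
        orderOf_eq_prime_pow (by rw [pow_one]; exact hx2) (by norm_num; exact hx4)
      apply isCyclic_of_orderOf_eq_card (⟨x, hx⟩ : H)
      rw [Subgroup.orderOf_mk, ho, hc]
      norm_num

/-- If the involution of `S ≅ Q₈` is central and `O(G) = 1`, the centre has order 2. -/
theorem card_center_of_central [Finite G] (S : Sylow 2 G)
    (e : (S : Subgroup G) ≃* QuaternionGroup 2)
    (hO : ∀ N : Subgroup G, N.Normal → Odd (Nat.card N) → N = ⊥)
    (htc : qpsi (S : Subgroup G) e (a 2) ∈ Subgroup.center G) :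
    Nat.card (Subgroup.center G) = 2 := by
  have : Fact (Nat.Prime 2) := ⟨Nat.prime_two⟩
  set t := qpsi (S : Subgroup G) e (a 2) with ht
  have hto : orderOf t = 2 := orderOf_qpsi_a2 _ e
  have hconj : ∀ u ∈ Subgroup.center G, ∀ g : G, g * u * g⁻¹ = u := by
    intro u hu g
    rw [Subgroup.mem_center_iff.mp hu g, mul_inv_cancel_right]
  have hsub : ∀ N : Subgroup G, N ≤ Subgroup.center G → Odd (Nat.card N) → N = ⊥ := by
    intro N hN hodd
    apply hO N _ hodd
    constructor
    intro k hk g
    rw [hconj k (hN hk) g]; exact hk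
  have hcent : ∀ x ∈ Subgroup.center G, x = 1 ∨ x = t := by
    intro x hx
    have hx0 : orderOf x ≠ 0 := (orderOf_pos x).ne'
    obtain ⟨k, b, hb, hab⟩ := Nat.exists_eq_two_pow_mul_odd hx0
    have ho1 : orderOf (x ^ 2 ^ k) = b := by
      rw [orderOf_pow_of_dvd (by positivity) ⟨b, hab⟩, hab]
      exact Nat.mul_div_cancel_left _ (by positivity)
    have hb1 : b = 1 := by
      have hle : Subgroup.zpowers (x ^ 2 ^ k) ≤ Subgroup.center G := by
        rw [Subgroup.zpowers_le]; exact pow_mem hx _
      have := hsub _ hle (by rw [Nat.card_zpowers, ho1]; exact hb)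
      rw [Subgroup.zpowers_eq_bot] at this
      rw [this, orderOf_one] at ho1
      exact ho1.symm
    rw [hb1, mul_one] at hab
    have hx2 : IsPGroup 2 (Subgroup.zpowers x) :=
      IsPGroup.of_card (n := k) (by rw [Nat.card_zpowers, hab])
    obtain ⟨c, hc⟩ := Cfsg.Agent.Lib.Helper85.exists_conj_le_sylow S hx2
    have hxS : x ∈ (S : Subgroup G) := by
      have h1 := hc ⟨x, Subgroup.mem_zpowers x, rfl⟩
      have h2 : (MulAut.conj c).toMonoidHom x = c * x * c⁻¹ := rfl
      rw [h2, hconj x hx c] at h1
      exact h1
    obtain ⟨q, rfl⟩ := exists_qpsi_eq (S : Subgroup G) e hxS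
    have hq : ∀ r : QuaternionGroup 2, q * r = r * q := by
      intro r
      apply qpsi_injective (S : Subgroup G) e
      rw [map_mul, map_mul]
      exact (Subgroup.mem_center_iff.mp hx _).symm
    rcases q8_center q hq with rfl | rfl
    · left; exact map_one _
    · right; rfl
  have hcenter : Subgroup.center G = Subgroup.zpowers t := by
    apply le_antisymm
    · intro x hx
      rcases hcent x hx with h | h
      · rw [h]; exact Subgroup.one_mem _
      · rw [h]; exact Subgroup.mem_zpowers t
    · rw [Subgroup.zpowers_le]; exact htc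
  rw [hcenter, Nat.card_zpowers, hto]

theorem bs_q8_aux (core : Q8Core.{u}) :
    ∀ (n : ℕ) (G : Type u) [Group G] [Finite G] (S : Sylow 2 G)
      (e : (S : Subgroup G) ≃* QuaternionGroup 2),
      (∀ N : Subgroup G, N.Normal → Odd (Nat.card N) → N = ⊥) → Nat.card G = n →
      Nat.card (Subgroup.center G) = 2 := by
  intro n
  induction n using Nat.strong_induction_on with
  | _ n ih =>
    intro G _ _ S e hO hcard
    have : Fact (Nat.Prime 2) := ⟨Nat.prime_two⟩
    set t := qpsi (S : Subgroup G) e (a 2) with ht
    have hto : orderOf t = 2 := orderOf_qpsi_a2 _ e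
    have htS : t ∈ (S : Subgroup G) := qpsi_mem _ e _
    have hcardS : Nat.card (S : Subgroup G) = 8 := card_eq_eight _ e
    apply card_center_of_central S e hO
    show t ∈ Subgroup.center G
    -- the cyclic-intersection case
    have hcyc_case : ∀ N : Subgroup G, N.Normal → t ∈ N → ¬ (S : Subgroup G) ≤ N →
        t ∈ Subgroup.center G := by
      intro N hN htN hSN
      have hcyc : IsCyclic ((S : Subgroup G) ⊓ N : Subgroup G) := by
        apply isCyclic_of_lt (S : Subgroup G) e _ inf_le_left
        intro h
        exact hSN (h.trans inf_le_right)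
      exact Cfsg.Agent.Lib.Helper52.central_of_cyclic_inter S N hO hcyc t hto htN
    by_cases hidx : ∃ M : Subgroup G, M.Normal ∧ M.index = 2
    · obtain ⟨M, hMn, hMi⟩ := hidx
      have htM : t ∈ M := by
        have h1 : t = qpsi (S : Subgroup G) e (a 1) ^ 2 := by
          rw [ht, ← map_pow, q8_a1_sq]
        rw [h1]
        exact Subgroup.sq_mem_of_index_two hMi _
      apply hcyc_case M hMn htM
      intro hSM
      -- 8 ∣ |M|, so 16 ∣ |G|
      have h1 : 8 ∣ Nat.card M := by
        rw [← hcardS]; exact Subgroup.card_dvd_of_le hSM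
      have h2 : Nat.card M * 2 = Nat.card G := by
        rw [← hMi]; exact Subgroup.card_mul_index M
      have h3 : Nat.card (S : Subgroup G) = 2 ^ (Nat.card G).factorization 2 :=
        Sylow.card_eq_multiplicity S
      rw [hcardS] at h3
      have h4 : (16 : ℕ) ∣ Nat.card G := by
        rw [← h2]
        obtain ⟨c, hc⟩ := h1
        exact ⟨c, by rw [hc]; ring⟩
      have h5 : 2 ^ 4 ∣ Nat.card G := by norm_num; exact h4
      have h6 : 4 ≤ (Nat.card G).factorization 2 :=
        (Nat.Prime.pow_dvd_iff_le_factorization Nat.prime_two Nat.card_pos.ne').mp h5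
      have h7 : (2 : ℕ) ^ 4 ≤ 2 ^ (Nat.card G).factorization 2 :=
        Nat.pow_le_pow_right (by norm_num) h6
      omega
    · have hno : ∀ M : Subgroup G, M.Normal → M.index ≠ 2 :=
        fun M hM hi => hidx ⟨M, hM, hi⟩
      obtain ⟨K, hKn, hKtop, htK⟩ := core G S e hO hno
      have htK' : t ∈ K := htK
      by_cases hSK : (S : Subgroup G) ≤ K
      · -- induction
        have hKcard : Nat.card K < Nat.card G := by
          have h1 : Nat.card K ∣ Nat.card G := Subgroup.card_subgroup_dvd_card K
          have h2 : Nat.card K ≠ Nat.card G :=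
            fun h => hKtop (Subgroup.card_eq_iff_eq_top K |>.mp h)
          exact lt_of_le_of_ne (Nat.le_of_dvd Nat.card_pos h1) h2
        set S' : Sylow 2 K := S.subtype hSK with hS'
        have e' : ((S' : Subgroup K)) ≃* QuaternionGroup 2 :=
          (Subgroup.subgroupOfEquivOfLe hSK).trans e
        have hOG : oddCore G = ⊥ :=
          hO _ (Cfsg.Agent.Lib.Helper55.pPrimeCore_normal' 2)
            Cfsg.Agent.Lib.Helper97.odd_card_oddCore
        have hOK : oddCore K = ⊥ :=
          Cfsg.Agent.Lib.Helper55.pPrimeCore_eq_bot_of_normal 2 K hOG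
        have hO' : ∀ N : Subgroup K, N.Normal → Odd (Nat.card N) → N = ⊥ := by
          intro N hN hodd
          have := Cfsg.Agent.Lib.Helper97.le_oddCore_of_normal_of_odd hN hodd
          rw [hOK] at this
          exact le_bot_iff.mp this
        have hZK := ih (Nat.card K) (hcard ▸ hKcard) K S' e' hO' rfl
        -- the centre of K contains an element of order 2, which must be t
        have h2Z : 2 ∣ Nat.card (Subgroup.center K) := by rw [hZK]
        obtain ⟨c, hc⟩ := exists_prime_orderOf_dvd_card' 2 h2Z
        have hc2 : orderOf ((c : K) : G) = 2 := by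
          rw [Subgroup.orderOf_coe, Subgroup.orderOf_coe]; exact hc
        -- c lies in S
        have hcS : ((c : K) : G) ∈ (S : Subgroup G) := by
          have hp : IsPGroup 2 (Subgroup.zpowers (c : K)) :=
            IsPGroup.of_card (n := 1) (by rw [Nat.card_zpowers, Subgroup.orderOf_coe, hc, pow_one])
          obtain ⟨k, hk⟩ := Cfsg.Agent.Lib.Helper85.exists_conj_le_sylow S' hp
          have h1 := hk ⟨(c : K), Subgroup.mem_zpowers _, rfl⟩
          have h2 : (MulAut.conj k).toMonoidHom (c : K) = k * (c : K) * k⁻¹ := rfl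
          have h3 : k * (c : K) * k⁻¹ = (c : K) := by
            rw [Subgroup.mem_center_iff.mp c.2 k, mul_inv_cancel_right]
          rw [h2, h3] at h1
          exact h1
        have hct : ((c : K) : G) = t := eq_qpsi_a2_of_orderOf_two _ e hcS hc2
        -- the centre of K is {1, t}
        have hZle : ∀ z : K, z ∈ Subgroup.center K → z = 1 ∨ (z : G) = t := by
          intro z hz
          -- c generates the centre
          have hgen : ∀ w : Subgroup.center K, w ∈ Subgroup.zpowers c := by
            have htop : Subgroup.zpowers c = ⊤ := by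
              apply Subgroup.eq_top_of_card_eq
              rw [Nat.card_zpowers, hc, hZK]
            intro w
            rw [htop]
            trivial
          obtain ⟨k, hk⟩ := Subgroup.mem_zpowers_iff.mp (hgen ⟨z, hz⟩)
          have hc2' : c ^ (2 : ℤ) = 1 := by
            have := pow_orderOf_eq_one c
            rw [hc] at this
            exact_mod_cast this
          rcases Int.emod_two_eq_zero_or_one k with hk0 | hk1
          · left
            have hk' : k = 2 * (k / 2) := by omega
            have h1 : c ^ k = 1 := by rw [hk', zpow_mul, hc2', one_zpow]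
            rw [h1] at hk
            have := congrArg (Subtype.val) hk
            exact this.symm
          · right
            have hk' : k = 2 * (k / 2) + 1 := by omega
            have h1 : c ^ k = c := by rw [hk', zpow_add, zpow_mul, hc2', one_zpow, one_mul, zpow_one]
            rw [h1] at hk
            have h2 : (c : K) = z := congrArg (Subtype.val) hk
            rw [← h2, hct]
        -- t is central in G
        rw [Subgroup.mem_center_iff]
        intro g
        have hgt : g * t * g⁻¹ ∈ K := hKn.conj_mem t htK' g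
        have hcen : (⟨g * t * g⁻¹, hgt⟩ : K) ∈ Subgroup.center K := by
          rw [Subgroup.mem_center_iff]
          intro k
          apply Subtype.ext
          push_cast
          have hk' : g⁻¹ * (k : G) * g ∈ K := by
            have := hKn.conj_mem (k : G) k.2 g⁻¹
            simpa using this
          have hcomm : (⟨g⁻¹ * (k : G) * g, hk'⟩ : K) * (c : K) = (c : K) * ⟨g⁻¹ * (k : G) * g, hk'⟩ :=
            Subgroup.mem_center_iff.mp c.2 _
          have hcomm' : g⁻¹ * (k : G) * g * t = t * (g⁻¹ * (k : G) * g) := by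
            have := congrArg (Subtype.val) hcomm
            simpa [hct] using this
          calc (k : G) * (g * t * g⁻¹) = g * (g⁻¹ * (k : G) * g * t) * g⁻¹ := by group
            _ = g * (t * (g⁻¹ * (k : G) * g)) * g⁻¹ := by rw [hcomm']
            _ = g * t * g⁻¹ * (k : G) := by group
        rcases hZle _ hcen with h | h
        · exfalso
          have h1 : g * t * g⁻¹ = 1 := congrArg Subtype.val h
          have h2 : t = 1 := by
            calc t = g⁻¹ * (g * t * g⁻¹) * g := by group
              _ = 1 := by rw [h1]; group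
          rw [h2, orderOf_one] at hto
          omega
        · have h1 : g * t * g⁻¹ = t := h
          calc g * t = g * t * g⁻¹ * g := by group
            _ = t * g := by rw [h1]
      · exact hcyc_case K hKn htK' hSK

/-- **Brauer–Suzuki for `Q₈`**, given the character-theoretic core. -/
theorem bs_q8_of_core (core : Q8Core.{u}) {G : Type u} [Group G] [Finite G] (S : Sylow 2 G)
    (e : (S : Subgroup G) ≃* QuaternionGroup 2)
    (hO : ∀ N : Subgroup G, N.Normal → Odd (Nat.card N) → N = ⊥) :
    Nat.card (Subgroup.center G) = 2 :=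
  bs_q8_aux core (Nat.card G) G S e hO rfl

end Cfsg.Agent.Lib.Helper46
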