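/-
helper46: project S1936 (helper22's sheet `notes/helper22_S1936_sheet.md`), module [RED] = section 0:
the hypothesis `HP p G`, its inheritance by subgroups and arbitrary quotients, elementary consequences, and the
minimal-counterexample package (in `_of` form: Feit-Thompson and Burnside `p^a q^b` are hypotheses).
-/
import Mathlib

set_option autoImplicit false

namespace Cfsg.Agent.Lib.Helper46.S1936

universe u

/-- The hypothesis of S1936 (verbatim): every subgroup of order prime to `p` is commutative of exponent dividing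
`p - 1`. -/
def HP (p : ℕ) (G : Type*) [Group G] : Prop :=
  ∀ H : Subgroup G, (Nat.card ↥H).Coprime p → IsMulCommutative ↥H ∧ ∀ x ∈ H, x ^ (p - 1) = 1

section basic

variable {p : ℕ} {G : Type*} [Group G]

/-- Elements of a `p'`-subgroup commute. -/
theorem HP.commute (h : HP p G) {H : Subgroup G} (hH : (Nat.card ↥H).Coprime p) {x y : G} (hx : x ∈ H)
    (hy : y ∈ H) : x * y = y * x := by
  have hc := (h H hH).1
  have := hc.is_comm.comm (⟨x, hx⟩ : ↥H) ⟨y, hy⟩
  exact congrArg Subtype.val this

/-- `HP` is inherited along injective homomorphisms. -/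
theorem HP.of_injective {K : Type*} [Group K] (h : HP p G) (f : K →* G) (hf : Function.Injective f) : HP p K := by
  intro H hH
  have hcard : Nat.card ↥(H.map f) = Nat.card ↥H :=
    Nat.card_congr (H.equivMapOfInjective f hf).toEquiv.symm
  have hH' : (Nat.card ↥(H.map f)).Coprime p := by rw [hcard]; exact hH
  refine ⟨⟨⟨fun a b => ?_⟩⟩, fun x hx => ?_⟩
  · apply Subtype.ext
    apply hf
    have := h.commute hH' (Subgroup.mem_map_of_mem f a.2) (Subgroup.mem_map_of_mem f b.2)
    simpa using this
  · apply hf
    have := (h (H.map f) hH').2 (f x) (Subgroup.mem_map_of_mem f hx)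
    simpa using this

/-- 0.1 (first half): `HP` is inherited by subgroups. -/
theorem HP.subgroup (h : HP p G) (K : Subgroup G) : HP p ↥K :=
  h.of_injective K.subtype K.subtype_injective

/-- `HP` is invariant under isomorphism. -/
theorem HP.of_mulEquiv {K : Type*} [Group K] (h : HP p G) (e : K ≃* G) : HP p K :=
  h.of_injective e.toMonoidHom e.injective

end basic

section quotient

variable {p : ℕ} [Fact p.Prime] {G : Type*} [Group G] [Finite G]

/-- A normal subgroup of index prime to `p` is supplemented by a `p'`-subgroup (Frattini + Schur-Zassenhaus). -/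
theorem exists_pprime_supplement (N : Subgroup G) [N.Normal] (hcop : (Nat.card (G ⧸ N)).Coprime p) :
    ∃ H : Subgroup G, (Nat.card ↥H).Coprime p ∧ H ⊔ N = ⊤ := by
  classical
  obtain ⟨P⟩ : Nonempty (Sylow p G) := inferInstance
  -- `P ≤ N`
  have hPN : (P : Subgroup G) ≤ N := by
    intro x hx
    rw [← QuotientGroup.eq_one_iff]
    have h1 : orderOf (QuotientGroup.mk x : G ⧸ N) ∣ orderOf x := orderOf_dvd_of_pow_eq_one (by
      rw [← QuotientGroup.mk_pow, pow_orderOf_eq_one, QuotientGroup.mk_one])
    obtain ⟨k, hk⟩ := (P.2 ⟨x, hx⟩)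
    have h2 : orderOf x ∣ p ^ k := orderOf_dvd_of_pow_eq_one (by
      have := congrArg Subtype.val hk
      simpa using this)
    have h3 : orderOf (QuotientGroup.mk x : G ⧸ N) ∣ Nat.card (G ⧸ N) := orderOf_dvd_natCard _
    have h4 : orderOf (QuotientGroup.mk x : G ⧸ N) ∣ 1 := by
      have hc : (Nat.card (G ⧸ N)).Coprime (p ^ k) := Nat.Coprime.pow_right k hcop
      have := Nat.dvd_gcd h3 (h1.trans h2)
      rwa [hc] at this
    exact orderOf_eq_one_iff.mp (Nat.dvd_one.mp h4)
  -- Frattini
  have hfr : Subgroup.normalizer ((P : Subgroup G) : Set G) ⊔ N = ⊤ := by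
    have := Sylow.normalizer_sup_eq_top (P.subtype hPN)
    have hmap : ((P.subtype hPN : Sylow p N) : Subgroup N).map N.subtype = (P : Subgroup G) := by
      rw [Sylow.coe_subtype, Subgroup.map_subgroupOf_eq_of_le hPN]
    rwa [hmap] at this
  -- Schur-Zassenhaus in the normalizer
  set K1 : Subgroup G := Subgroup.normalizer ((P : Subgroup G) : Set G) with hK1
  have hPK1 : (P : Subgroup G) ≤ K1 := Subgroup.le_normalizer
  have : ((P : Subgroup G).subgroupOf K1).Normal := Subgroup.normal_in_normalizer
  have hcard : Nat.card ↥((P : Subgroup G).subgroupOf K1) = Nat.card ↥(P : Subgroup G) :=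
    Nat.card_congr (Subgroup.subgroupOfEquivOfLe hPK1).toEquiv
  have hidx : ((P : Subgroup G).subgroupOf K1).index ∣ (P : Subgroup G).index := by
    rw [← Subgroup.relIndex]
    exact Subgroup.relIndex_dvd_index_of_le hPK1 |>.trans (dvd_refl _) |> fun h => by
      simpa using Subgroup.relIndex_dvd_index_of_le (H := (P : Subgroup G)) (K := K1) hPK1
  have hcop2 : Nat.Coprime (Nat.card ↥((P : Subgroup G).subgroupOf K1)) ((P : Subgroup G).subgroupOf K1).index := by
    rw [hcard]
    exact Nat.Coprime.coprime_dvd_right hidx P.card_coprime_index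
  obtain ⟨H', hH'⟩ := Subgroup.exists_right_complement'_of_coprime hcop2
  refine ⟨H'.map K1.subtype, ?_, ?_⟩
  · have e1 : Nat.card ↥(H'.map K1.subtype) = Nat.card ↥H' :=
      Nat.card_congr (H'.equivMapOfInjective K1.subtype K1.subtype_injective).toEquiv.symm
    rw [e1, ← hH'.symm.index_eq_card]
    have : ((P : Subgroup G).subgroupOf K1).index.Coprime p := by
      have h5 : (P : Subgroup G).index.Coprime p := by
        rw [Nat.coprime_comm, (Fact.out : p.Prime).coprime_iff_not_dvd]
        exact P.not_dvd_index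
      exact Nat.Coprime.coprime_dvd_left hidx h5
    exact this
  · have hsup : ((P : Subgroup G).subgroupOf K1) ⊔ H' = ⊤ := hH'.sup_eq_top
    have h6 : (((P : Subgroup G).subgroupOf K1) ⊔ H').map K1.subtype = K1 := by
      rw [hsup, ← MonoidHom.range_eq_map, Subgroup.range_subtype]
    rw [Subgroup.map_sup, Subgroup.map_subgroupOf_eq_of_le hPK1] at h6
    have hK1le : K1 ≤ H'.map K1.subtype ⊔ N :=
      le_trans (le_of_eq h6.symm) (sup_le (hPN.trans le_sup_right) le_sup_left)
    apply le_antisymm le_top
    calc (⊤ : Subgroup G) = K1 ⊔ N := hfr.symm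
      _ ≤ H'.map K1.subtype ⊔ N := sup_le hK1le le_sup_right

/-- 0.1 (second half): `HP` is inherited by arbitrary quotients. -/
theorem HP.quotient (h : HP p G) (N : Subgroup G) [N.Normal] : HP p (G ⧸ N) := by
  intro Kbar hK
  set K : Subgroup G := Kbar.comap (QuotientGroup.mk' N) with hKdef
  have hNK : N ≤ K := by
    intro x hx
    rw [hKdef, Subgroup.mem_comap, QuotientGroup.mk'_apply, (QuotientGroup.eq_one_iff x).mpr hx]
    exact Kbar.one_mem
  -- the quotient `K / (N ∩ K)` is isomorphic to `Kbar`
  have : (N.subgroupOf K).Normal := inferInstance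
  -- surjection `K → Kbar`
  let φ : ↥K →* ↥Kbar := ((QuotientGroup.mk' N).comp K.subtype).codRestrict Kbar (fun x => x.2)
  have hφsurj : Function.Surjective φ := by
    rintro ⟨y, hy⟩
    obtain ⟨x, rfl⟩ := QuotientGroup.mk'_surjective N y
    exact ⟨⟨x, hy⟩, rfl⟩
  have hφker : φ.ker = N.subgroupOf K := by
    ext x
    rw [MonoidHom.mem_ker, Subgroup.mem_subgroupOf]
    have hval : ((φ x : ↥Kbar) : G ⧸ N) = QuotientGroup.mk (x : G) := rfl
    constructor
    · intro hx
      have := congrArg Subtype.val hx
      rw [hval] at this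
      exact (QuotientGroup.eq_one_iff _).mp this
    · intro hx
      apply Subtype.ext
      rw [hval]
      exact (QuotientGroup.eq_one_iff _).mpr hx
  have hcop : (Nat.card (↥K ⧸ N.subgroupOf K)).Coprime p := by
    have e : (↥K ⧸ φ.ker) ≃* ↥Kbar := QuotientGroup.quotientKerEquivOfSurjective φ hφsurj
    have : Nat.card (↥K ⧸ N.subgroupOf K) = Nat.card ↥Kbar := by
      rw [← hφker]; exact Nat.card_congr e.toEquiv
    rw [this]; exact hK
  obtain ⟨H, hH, hHN⟩ := exists_pprime_supplement (p := p) (N.subgroupOf K) hcop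
  -- every element of `Kbar` is the image of an element of `H`
  have hrep : ∀ y ∈ Kbar, ∃ x : G, x ∈ H.map K.subtype ∧ (QuotientGroup.mk x : G ⧸ N) = y := by
    intro y hy
    obtain ⟨x, rfl⟩ := QuotientGroup.mk'_surjective N y
    have hxK : x ∈ K := hy
    have hx : (⟨x, hxK⟩ : ↥K) ∈ H ⊔ N.subgroupOf K := by rw [hHN]; exact Subgroup.mem_top _
    rw [Subgroup.mem_sup_of_normal_right] at hx
    obtain ⟨a, ha, b, hb, hab⟩ := hx
    refine ⟨a.1, Subgroup.mem_map_of_mem K.subtype ha, ?_⟩
    have hx' : x = a.1 * b.1 := by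
      have := congrArg Subtype.val hab
      simpa using this.symm
    rw [QuotientGroup.mk'_apply, hx', QuotientGroup.mk_mul,
      (QuotientGroup.eq_one_iff b.1).mpr (Subgroup.mem_subgroupOf.mp hb), mul_one]
  have hHG : (Nat.card ↥(H.map K.subtype)).Coprime p := by
    have e1 : Nat.card ↥(H.map K.subtype) = Nat.card ↥H :=
      Nat.card_congr (H.equivMapOfInjective K.subtype K.subtype_injective).toEquiv.symm
    rw [e1]; exact hH
  refine ⟨⟨⟨fun a b => ?_⟩⟩, fun y hy => ?_⟩
  · obtain ⟨x, hx, hxa⟩ := hrep a.1 a.2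
    obtain ⟨x', hx', hxb⟩ := hrep b.1 b.2
    apply Subtype.ext
    show a.1 * b.1 = b.1 * a.1
    rw [← hxa, ← hxb, ← QuotientGroup.mk_mul, ← QuotientGroup.mk_mul, h.commute hHG hx hx']
  · obtain ⟨x, hx, rfl⟩ := hrep y hy
    rw [← QuotientGroup.mk_pow, (h _ hHG).2 x hx, QuotientGroup.mk_one]

end quotient

section consequences

variable {p : ℕ} [Fact p.Prime] {G : Type*} [Group G] [Finite G]

omit [Fact p.Prime] [Finite G] in
/-- A `p'`-element has `x ^ (p - 1) = 1`. -/
theorem HP.pow_eq_one (h : HP p G) {x : G} (hx : (orderOf x).Coprime p) : x ^ (p - 1) = 1 :=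
  (h (Subgroup.zpowers x) (by rwa [Nat.card_zpowers])).2 x (Subgroup.mem_zpowers x)

/-- 0.3: every prime `r ≠ p` dividing `|G|` divides `p - 1`. -/
theorem HP.prime_dvd (h : HP p G) {r : ℕ} (hr : r.Prime) (hrp : r ≠ p) (hdvd : r ∣ Nat.card G) : r ∣ p - 1 := by
  have := Fact.mk hr
  obtain ⟨x, hx⟩ := exists_prime_orderOf_dvd_card' r hdvd
  have h1 := h.pow_eq_one (x := x) (by rw [hx]; exact (Nat.coprime_primes hr Fact.out).mpr hrp)
  rw [← hx]
  exact orderOf_dvd_of_pow_eq_one h1

/-- 0.4: for `p ≠ 2`, the elements of a 2-subgroup commute. -/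
theorem HP.commute_of_two_group (h : HP p G) (hp2 : p ≠ 2) {S : Subgroup G} (hS : IsPGroup 2 ↥S) {x y : G}
    (hx : x ∈ S) (hy : y ∈ S) : x * y = y * x := by
  obtain ⟨k, hk⟩ := IsPGroup.iff_card.mp hS
  refine h.commute ?_ hx hy
  rw [hk]
  exact Nat.Coprime.pow_left k ((Nat.coprime_primes Nat.prime_two Fact.out).mpr (Ne.symm hp2))

omit [Fact p.Prime] [Finite G] in
/-- If `H` normalizes `N` then `|HN|` divides `|H| |N|`. -/
theorem card_sup_dvd_of_le_normalizer (H N : Subgroup G) (hLE : H ≤ Subgroup.normalizer (N : Set G)) :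
    Nat.card ↥(H ⊔ N) ∣ Nat.card ↥H * Nat.card ↥N := by
  have := Subgroup.normal_subgroupOf_of_le_normalizer hLE
  have := Subgroup.normal_subgroupOf_sup_of_le_normalizer hLE
  have e := QuotientGroup.quotientInfEquivProdNormalizerQuotient H N hLE
  have h1 : (N.subgroupOf H).index = (N.subgroupOf (H ⊔ N)).index := by
    rw [Subgroup.index_eq_card, Subgroup.index_eq_card]
    exact Nat.card_congr e.toEquiv
  have h2 : Nat.card ↥(N.subgroupOf (H ⊔ N)) * (N.subgroupOf (H ⊔ N)).index = Nat.card ↥(H ⊔ N) :=
    Subgroup.card_mul_index _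
  have h3 : Nat.card ↥(N.subgroupOf (H ⊔ N)) = Nat.card ↥N :=
    Nat.card_congr (Subgroup.subgroupOfEquivOfLe le_sup_right).toEquiv
  have h4 : (N.subgroupOf H).index ∣ Nat.card ↥H := Subgroup.index_dvd_card _
  rw [← h2, h3, ← h1, mul_comm]
  exact Nat.mul_dvd_mul_right h4 _

omit [Finite G] in
/-- 0.5 (INV): an element of odd order prime to `p` which is inverted by an involution is trivial (`p ≠ 2`). -/
theorem HP.eq_one_of_inverted (h : HP p G) (hp2 : p ≠ 2) {t w : G} (ht : t ^ 2 = 1) (hinv : t * w * t⁻¹ = w⁻¹)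
    (hodd : Odd (orderOf w)) (hcop : (orderOf w).Coprime p) : w = 1 := by
  have hinv' : t⁻¹ * w * t = w⁻¹ := by
    have : w = t⁻¹ * w⁻¹ * t := by rw [← hinv]; group
    calc t⁻¹ * w * t = (t⁻¹ * w⁻¹ * t)⁻¹ := by group
      _ = w⁻¹ := by rw [← this]
  have hconj : ∀ k : ℤ, t * w ^ k * t⁻¹ = (w⁻¹) ^ k := by
    intro k
    have := (MulAut.conj t).toMonoidHom.map_zpow w k
    simp only [MulEquiv.coe_toMonoidHom, MulAut.conj_apply] at this
    rw [this, hinv]
  have hconj' : ∀ k : ℤ, t⁻¹ * w ^ k * t = (w⁻¹) ^ k := by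
    intro k
    have := (MulAut.conj t⁻¹).toMonoidHom.map_zpow w k
    simp only [MulEquiv.coe_toMonoidHom, MulAut.conj_apply, inv_inv] at this
    rw [this, hinv']
  have hnorm : Subgroup.zpowers t ≤ Subgroup.normalizer ((Subgroup.zpowers w : Subgroup G) : Set G) := by
    rw [Subgroup.zpowers_le]
    intro n
    constructor
    · rintro ⟨k, rfl⟩
      show t * w ^ k * t⁻¹ ∈ Subgroup.zpowers w
      rw [hconj k, inv_zpow]
      exact Subgroup.inv_mem _ (Subgroup.zpow_mem_zpowers w k)
    · intro hn
      obtain ⟨k, hk⟩ : t * n * t⁻¹ ∈ Subgroup.zpowers w := hn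
      have hk' : w ^ k = t * n * t⁻¹ := hk
      have : n = t⁻¹ * w ^ k * t := by rw [hk']; group
      show n ∈ Subgroup.zpowers w
      rw [this, hconj' k, inv_zpow]
      exact Subgroup.inv_mem _ (Subgroup.zpow_mem_zpowers w k)
  have hcard : Nat.card ↥(Subgroup.zpowers t ⊔ Subgroup.zpowers w) ∣ 2 * orderOf w := by
    refine (card_sup_dvd_of_le_normalizer _ _ hnorm).trans ?_
    rw [Nat.card_zpowers, Nat.card_zpowers]
    exact Nat.mul_dvd_mul_right (orderOf_dvd_of_pow_eq_one ht) _
  have hcop2 : (Nat.card ↥(Subgroup.zpowers t ⊔ Subgroup.zpowers w)).Coprime p := by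
    refine Nat.Coprime.coprime_dvd_left hcard ?_
    exact Nat.Coprime.mul_left ((Nat.coprime_primes Nat.prime_two Fact.out).mpr (Ne.symm hp2)) hcop
  have hcomm := h.commute hcop2
    (Subgroup.mem_sup_left (Subgroup.mem_zpowers t) : t ∈ Subgroup.zpowers t ⊔ Subgroup.zpowers w)
    (Subgroup.mem_sup_right (Subgroup.mem_zpowers w) : w ∈ Subgroup.zpowers t ⊔ Subgroup.zpowers w)
  have hw : w = w⁻¹ := by
    rw [← hinv, hcomm]; group
  have hw2 : w ^ 2 = 1 := by
    rw [pow_two]
    nth_rewrite 1 [hw]
    exact inv_mul_cancel w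
  have hdvd : orderOf w ∣ 2 := orderOf_dvd_of_pow_eq_one hw2
  have h1 : orderOf w = 1 := by
    rcases (Nat.dvd_prime Nat.prime_two).mp hdvd with h1 | h2
    · exact h1
    · rw [h2] at hodd; exact absurd hodd (by decide)
  exact orderOf_eq_one_iff.mp h1

end consequences

section minimal

/-- 0.2-0.4, the minimal-counterexample package (in `_of` form: `hFT` is Feit-Thompson, `hB` is Burnside's
`2^a 3^b` theorem): to prove that every finite group with `HP p` is solvable it suffices to refute a SIMPLE group `G`
with `HP p G`, not solvable, all of whose proper subgroups are solvable, with `5 ≤ p`, `p ∣ |G|` and `|G|` even. -/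
theorem isSolvable_of_no_minimal (p : ℕ) [Fact p.Prime]
    (hFT : ∀ (H : Type u) [Group H] [Finite H], Odd (Nat.card H) → Group.IsSolvable H)
    (hB : ∀ (H : Type u) [Group H] [Finite H] (a b : ℕ), Nat.card H = 2 ^ a * 3 ^ b → Group.IsSolvable H)
    (hmin : ∀ (G : Type u) [Group G] [Finite G], HP p G → IsSimpleGroup G → ¬ Group.IsSolvable G →
      (∀ H : Subgroup G, H ≠ ⊤ → Group.IsSolvable ↥H) → 5 ≤ p → p ∣ Nat.card G → Even (Nat.card G) → False)
    (G : Type u) [Group G] [Finite G] (h : HP p G) : Group.IsSolvable G := by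
  have key : ∀ n : ℕ, ∀ (G : Type u) [Group G] [Finite G], Nat.card G = n → HP p G → Group.IsSolvable G := by
    intro n
    induction n using Nat.strong_induction_on with
    | _ n ih =>
      intro G _ _ hn h
      by_contra hns
      have hp : p.Prime := Fact.out
      -- proper subgroups are solvable
      have hsub : ∀ H : Subgroup G, H ≠ ⊤ → Group.IsSolvable ↥H := by
        intro H hH
        have hle : Nat.card ↥H ≤ Nat.card G := Subgroup.card_le_card_group H
        have hlt : Nat.card ↥H < n := by
          rw [← hn]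
          refine lt_of_le_of_ne hle (fun he => hH (Subgroup.eq_top_of_card_eq H he))
        exact ih _ hlt ↥H rfl (h.subgroup H)
      -- `G` is simple
      have hnt : Nontrivial G := by
        by_contra hnt
        rw [not_nontrivial_iff_subsingleton] at hnt
        exact hns (Group.isSolvable_of_comm (fun a b => Subsingleton.elim _ _))
      have hsimple : IsSimpleGroup G := by
        refine { exists_pair_ne := hnt.exists_pair_ne, eq_bot_or_eq_top_of_normal := ?_ }
        intro N hN
        by_contra hcon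
        rw [not_or] at hcon
        haveI := hN
        haveI : Group.IsSolvable ↥N := hsub N hcon.2
        have hlt : Nat.card (G ⧸ N) < n := by
          rw [← hn, ← Subgroup.card_mul_index N, ← Subgroup.index_eq_card]
          have h1 : 1 < Nat.card ↥N := by
            rw [Finite.one_lt_card_iff_nontrivial]
            exact (Subgroup.nontrivial_iff_ne_bot N).mpr hcon.1
          have h2 : 0 < N.index := Nat.pos_of_ne_zero Subgroup.index_ne_zero_of_finite
          nlinarith
        haveI : Group.IsSolvable (G ⧸ N) := ih _ hlt (G ⧸ N) rfl (h.quotient N)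
        apply hns
        refine Group.isSolvable_of_ker_le_range N.subtype (QuotientGroup.mk' N) ?_
        rw [QuotientGroup.ker_mk', Subgroup.range_subtype]
      -- `p ∣ |G|`
      have hpdvd : p ∣ Nat.card G := by
        by_contra hnd
        have hcop : (Nat.card ↥(⊤ : Subgroup G)).Coprime p := by
          rw [Subgroup.card_top, Nat.coprime_comm, hp.coprime_iff_not_dvd]
          exact hnd
        exact hns (Group.isSolvable_of_comm (fun a b => h.commute hcop (Subgroup.mem_top a) (Subgroup.mem_top b)))
      -- `p ≠ 2`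
      have hp2 : p ≠ 2 := by
        intro hp2
        have hall : ∀ r : ℕ, r.Prime → r ∣ Nat.card G → r = 2 := by
          intro r hr hdvd
          by_contra hr2
          have := h.prime_dvd hr (by rw [hp2]; exact hr2) hdvd
          rw [hp2] at this
          exact hr.one_lt.ne' (Nat.dvd_one.mp this)
        have hcard : Nat.card G = 2 ^ (Nat.card G).primeFactorsList.length :=
          Nat.eq_prime_pow_of_unique_prime_dvd Nat.card_pos.ne' (fun {r} hr hd => hall r hr hd)
        haveI : Fact (Nat.Prime 2) := ⟨Nat.prime_two⟩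
        have hP : IsPGroup 2 G := IsPGroup.of_card hcard
        have := hP.isNilpotent
        exact hns inferInstance
      -- `p ≠ 3`
      have hp3 : p ≠ 3 := by
        intro hp3
        have hall : ∀ r : ℕ, r.Prime → r ∣ Nat.card G → r = 2 ∨ r = 3 := by
          intro r hr hdvd
          by_cases hr3 : r = 3
          · exact Or.inr hr3
          · left
            have := h.prime_dvd hr (by rw [hp3]; exact hr3) hdvd
            rw [hp3] at this
            exact (Nat.prime_dvd_prime_iff_eq hr Nat.prime_two).mp this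
        obtain ⟨k, m, hm, hkm⟩ := Nat.exists_eq_two_pow_mul_odd (n := Nat.card G) Nat.card_pos.ne'
        have hm0 : m ≠ 0 := by rintro rfl; simp at hm
        have hm3 : m = 3 ^ m.primeFactorsList.length := by
          refine Nat.eq_prime_pow_of_unique_prime_dvd hm0 (fun {r} hr hd => ?_)
          rcases hall r hr (hkm ▸ Dvd.dvd.mul_left hd _) with h2 | h3
          · exfalso
            rw [h2] at hd
            exact (Nat.not_even_iff_odd.mpr hm) (even_iff_two_dvd.mpr hd)
          · exact h3
        exact hns (hB G k m.primeFactorsList.length (by rw [hkm]; congr 1))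
      have hp5 : 5 ≤ p := by
        by_contra hlt
        push Not at hlt
        have h2le := hp.two_le
        interval_cases p
        · exact hp2 rfl
        · exact hp3 rfl
        · exact absurd hp (by decide)
      -- `|G|` is even
      have heven : Even (Nat.card G) := by
        by_contra hodd
        rw [Nat.not_even_iff_odd] at hodd
        exact hns (hFT G hodd)
      exact hmin G h hsimple hns hsub hp5 hpdvd heven
  exact key _ G rfl h

end minimal

end Cfsg.Agent.Lib.Helper46.S1936
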