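import Mathlib

/-!
# [S4015-BASE] a faithful representation of `C_p` of dimension `ord_p(q)` over `F_q`
(module for helper15's S4015 project, board #3773; exact statement).
-/

namespace Cfsg.Agent.Lib.Helper46.S4015Base

/-- the homomorphism `C_p → G` attached to an element of order `p`. -/
theorem exists_injective_hom_of_orderOf {G : Type*} [Group G] (p : ℕ) [Fact p.Prime]
    (g : G) (hg : orderOf g = p) :
    ∃ φ : Multiplicative (ZMod p) →* G, Function.Injective φ := by
  have hp : p.Prime := Fact.out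
  have : NeZero p := ⟨hp.ne_zero⟩
  refine ⟨MonoidHom.mk' (fun x => g ^ (Multiplicative.toAdd x).val) ?_, ?_⟩
  · intro a b
    change g ^ (Multiplicative.toAdd a + Multiplicative.toAdd b).val = _
    rw [ZMod.val_add, ← pow_add]
    have h := pow_mod_orderOf g ((Multiplicative.toAdd a).val + (Multiplicative.toAdd b).val)
    rw [hg] at h
    exact h
  · intro a b hab
    change g ^ (Multiplicative.toAdd a).val = g ^ (Multiplicative.toAdd b).val at hab
    have ha : (Multiplicative.toAdd a).val < orderOf g := by rw [hg]; exact ZMod.val_lt _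
    have hb : (Multiplicative.toAdd b).val < orderOf g := by rw [hg]; exact ZMod.val_lt _
    have h := pow_injOn_Iio_orderOf (x := g) ha hb hab
    have h2 : Multiplicative.toAdd a = Multiplicative.toAdd b := ZMod.val_injective p h
    exact Multiplicative.toAdd.injective h2

theorem exists_faithful_cyclic_rep (p : ℕ) [Fact p.Prime] (F : Type*) [Field F] [Fintype F]
    (q : ℕ) (hq : Fintype.card F = q) (hpq : ¬ p ∣ q) :
    ∃ ρ : Multiplicative (ZMod p) →* ((Fin (orderOf (q : ZMod p)) → F) ≃ₗ[F]
      (Fin (orderOf (q : ZMod p)) → F)), Function.Injective ρ := by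
  classical
  have hp : p.Prime := Fact.out
  have : NeZero p := ⟨hp.ne_zero⟩
  set e := orderOf (q : ZMod p) with he
  -- `q` is a unit mod `p`, so `e > 0`
  have hq0 : (q : ZMod p) ≠ 0 := by
    intro h
    exact hpq ((ZMod.natCast_eq_zero_iff q p).mp h)
  have hfin : IsOfFinOrder (q : ZMod p) := by
    have hu : IsUnit (q : ZMod p) := isUnit_iff_ne_zero.mpr hq0
    obtain ⟨u, hu⟩ := hu
    rw [← hu]
    have h1 := isOfFinOrder_of_finite u
    rw [isOfFinOrder_iff_pow_eq_one] at h1 ⊢
    obtain ⟨n, hn, h1⟩ := h1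
    refine ⟨n, hn, ?_⟩
    rw [← Units.val_pow_eq_pow_val, h1, Units.val_one]
  have hepos : 0 < e := hfin.orderOf_pos
  have hqe : ((q ^ e : ℕ) : ZMod p) = 1 := by
    push_cast
    exact pow_orderOf_eq_one _
  have hqpos : 0 < q := by
    rcases Nat.eq_zero_or_pos q with h | h
    · exact absurd (h ▸ dvd_zero p) hpq
    · exact h
  have hdvd : p ∣ q ^ e - 1 := by
    have h1 : 1 ≤ q ^ e := Nat.one_le_pow _ _ hqpos
    have : ((q ^ e - 1 : ℕ) : ZMod p) = 0 := by
      rw [Nat.cast_sub h1, hqe]; simp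
    exact (ZMod.natCast_eq_zero_iff _ _).mp this
  -- `p` divides the order of `GL_e(F)`
  have hcard : p ∣ Nat.card (GL (Fin e) F) := by
    rw [Matrix.card_GL_field, hq]
    have hmem : (⟨0, hepos⟩ : Fin e) ∈ (Finset.univ : Finset (Fin e)) := Finset.mem_univ _
    refine dvd_trans ?_ (Finset.dvd_prod_of_mem _ hmem)
    simpa using hdvd
  have : Fintype (GL (Fin e) F) := Fintype.ofFinite _
  rw [Nat.card_eq_fintype_card] at hcard
  obtain ⟨g, hg⟩ := exists_prime_orderOf_dvd_card p hcard
  obtain ⟨φ, hφ⟩ := exists_injective_hom_of_orderOf p g hg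
  let E : GL (Fin e) F ≃* ((Fin e → F) ≃ₗ[F] (Fin e → F)) :=
    Matrix.GeneralLinearGroup.toLin.trans
      (LinearMap.GeneralLinearGroup.generalLinearEquiv F (Fin e → F))
  exact ⟨E.toMonoidHom.comp φ, E.injective.comp hφ⟩

end Cfsg.Agent.Lib.Helper46.S4015Base
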