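import Mathlib

set_option autoImplicit false

/-!
Module [B1] for S4840 (helper15, board #2898): the derived subgroup centralizes every cyclic
normal subgroup.  By helper46.
-/

namespace Cfsg.Agent.Lib.Helper46.S4840

/-- conjugation by `x * y` and by `y * x` agree on a cyclic normal subgroup -/
theorem conj_mul_comm_of_cyclic_normal {X : Type*} [Group X] (N : Subgroup X) [N.Normal]
    [IsCyclic N] (x y : X) {n : X} (hn : n ∈ N) :
    (x * y) * n * (x * y)⁻¹ = (y * x) * n * (y * x)⁻¹ := by
  have h : MulAut.conjNormal (H := N) (x * y) = MulAut.conjNormal (y * x) := by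
    rw [map_mul, map_mul]
    apply (IsCyclic.mulAutMulEquiv N).injective
    rw [map_mul, map_mul, mul_comm]
  have := congrArg (fun f => ((f ⟨n, hn⟩ : N) : X)) h
  simp only [MulAut.conjNormal_apply] at this
  rw [this]

/-- [B1] the derived subgroup centralizes a cyclic normal subgroup -/
theorem commutator_le_centralizer_of_cyclic_normal {X : Type*} [Group X] (R : Subgroup X)
    [R.Normal] [IsCyclic R] : commutator X ≤ Subgroup.centralizer (R : Set X) := by
  rw [commutator_def, Subgroup.commutator_le]
  intro a _ b _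
  rw [Subgroup.mem_centralizer_iff]
  intro n hn
  have hn' : (b * a)⁻¹ * n * (b * a) ∈ R := by
    have := (inferInstance : R.Normal).conj_mem n hn (b * a)⁻¹
    simpa using this
  have h' := conj_mul_comm_of_cyclic_normal R a b (n := (b * a)⁻¹ * n * (b * a)) hn'
  rw [commutatorElement_def]
  have h3 : (a * b) * ((b * a)⁻¹ * n * (b * a)) * (a * b)⁻¹ = n := by
    rw [h']; group
  calc n * (a * b * a⁻¹ * b⁻¹) = n * ((a * b) * (b * a)⁻¹) := by group
    _ = ((a * b) * ((b * a)⁻¹ * n * (b * a)) * (a * b)⁻¹) * ((a * b) * (b * a)⁻¹) := by rw [h3]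
    _ = (a * b) * (b * a)⁻¹ * n := by group
    _ = a * b * a⁻¹ * b⁻¹ * n := by group

end Cfsg.Agent.Lib.Helper46.S4840
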