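import Mathlib
import Cfsg.Agent.S0688
import Cfsg.Agent.Lib.Helper51.UniqueOrderP

set_option autoImplicit false

/-!
Module [B2] for S4840 (helper15, board #2898): an element of odd prime power order acting
non-trivially on a normal `2`-subgroup all of whose abelian subgroups are cyclic forces
`p = 3` and the `2`-subgroup to be the quaternion group of order `8`.  By helper46.
-/

namespace Cfsg.Agent.Lib.Helper46.S4840

open QuaternionGroup

/-- an automorphism of odd prime power order of a cyclic `2`-group is trivial -/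
theorem mulAut_eq_one_of_cyclic_two_group {R : Type*} [Group R] [Finite R] [IsCyclic R]
    (a : ℕ) (hcard : Nat.card R = 2 ^ a) (p : ℕ) (hp : p.Prime) (hp2 : p ≠ 2) (k : ℕ)
    (α : MulAut R) (hα : α ^ p ^ k = 1) : α = 1 := by
  have h1 : orderOf α ∣ p ^ k := orderOf_dvd_of_pow_eq_one hα
  have h2 : orderOf α ∣ Nat.card (MulAut R) := orderOf_dvd_natCard α
  rw [IsCyclic.card_mulAut, hcard] at h2
  have h3 : Nat.totient (2 ^ a) ∣ 2 ^ a := by
    rcases a with _ | a
    · simp
    · rw [Nat.totient_prime_pow_succ Nat.prime_two]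
      simp [pow_succ]
  have h4 : orderOf α ∣ 2 ^ a := h2.trans h3
  have hcop : Nat.Coprime (p ^ k) (2 ^ a) := by
    apply Nat.Coprime.pow
    exact (Nat.coprime_primes hp Nat.prime_two).mpr hp2
  have h5 : orderOf α = 1 := Nat.eq_one_of_dvd_coprimes hcop h1 h4
  exact orderOf_eq_one_iff.mp h5

theorem quat_a_pow (m : ℕ) (j : ZMod (2 * m)) (i : ℕ) :
    (a j : QuaternionGroup m) ^ i = a ((i : ZMod (2 * m)) * j) := by
  induction i with
  | zero => rw [pow_zero, Nat.cast_zero, zero_mul]; rfl
  | succ i ih =>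
    rw [pow_succ, ih, a_mul_a, Nat.cast_succ]
    congr 1
    ring

/-- an automorphism of odd prime power order of a generalized quaternion group which
preserves the cyclic subgroup `⟨a 1⟩` is trivial -/
theorem quat_mulAut_eq_one_of_a (m : ℕ) [NeZero m] (n : ℕ) (hm : m = 2 ^ n) (p : ℕ)
    (hp : p.Prime) (hp2 : p ≠ 2) (k : ℕ) (α : MulAut (QuaternionGroup m)) (hα : α ^ p ^ k = 1)
    (j : ZMod (2 * m)) (hj : α (a 1) = a j) : α = 1 := by
  have hne : NeZero (2 * m) := ⟨by have := NeZero.ne m; omega⟩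
  have hcop : Nat.Coprime (p ^ k) (2 * m) := by
    rw [hm, ← pow_succ']
    apply Nat.Coprime.pow
    exact (Nat.coprime_primes hp Nat.prime_two).mpr hp2
  have hαa : ∀ i : ZMod (2 * m), α (a i) = a (i * j) := by
    intro i
    have h1 : (a i : QuaternionGroup m) = (a 1) ^ i.val := by
      rw [a_one_pow, ZMod.natCast_zmod_val]
    rw [h1, map_pow, hj, quat_a_pow, ZMod.natCast_zmod_val]
  have hit : ∀ t : ℕ, (α ^ t) (a 1) = a (j ^ t) := by
    intro t
    induction t with
    | zero => rw [pow_zero, pow_zero]; rfl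
    | succ t ih =>
      rw [pow_succ', MulAut.mul_apply, ih, hαa, pow_succ]
  have hjpow : j ^ (p ^ k) = 1 := by
    have := hit (p ^ k)
    rw [hα] at this
    have h2 : (a 1 : QuaternionGroup m) = a (j ^ p ^ k) := this
    exact (a.inj h2).symm
  have hj1 : j = 1 := by
    have hk0 : p ^ k ≠ 0 := pow_ne_zero k hp.ne_zero
    set u : (ZMod (2 * m))ˣ := Units.ofPowEqOne j (p ^ k) hjpow hk0 with hu
    have hupow : u ^ (p ^ k) = 1 := Units.pow_ofPowEqOne hjpow hk0
    have h1 : orderOf u ∣ p ^ k := orderOf_dvd_of_pow_eq_one hupow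
    have h2 : orderOf u ∣ Fintype.card (ZMod (2 * m))ˣ := orderOf_dvd_card
    rw [ZMod.card_units_eq_totient] at h2
    have htot : Nat.totient (2 * m) = 2 ^ n := by
      rw [hm, ← pow_succ', Nat.totient_prime_pow_succ Nat.prime_two]
      simp
    have h3 : orderOf u ∣ 2 ^ n := htot ▸ h2
    have hc : Nat.Coprime (p ^ k) (2 ^ n) := by
      apply Nat.Coprime.pow
      exact (Nat.coprime_primes hp Nat.prime_two).mpr hp2
    have h5 : orderOf u = 1 := Nat.eq_one_of_dvd_coprimes hc h1 h3
    have h6 : u = 1 := orderOf_eq_one_iff.mp h5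
    have h7 : (u : ZMod (2 * m)) = j := Units.val_ofPowEqOne _ _ _ _
    rw [← h7, h6, Units.val_one]
  subst hj1
  have hαa' : ∀ i : ZMod (2 * m), α (a i) = a i := by
    intro i; rw [hαa, mul_one]
  obtain ⟨l, hl⟩ : ∃ l, α (xa 0) = xa l := by
    cases h : α (xa 0) with
    | a i =>
      exfalso
      have h1 : α (xa 0) = α (a i) := by rw [h, hαa']
      have h2 := α.injective h1
      cases h2
    | xa l => exact ⟨l, rfl⟩
  have hitx : ∀ t : ℕ, (α ^ t) (xa 0) = xa ((t : ZMod (2 * m)) * l) := by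
    intro t
    induction t with
    | zero => rw [pow_zero, Nat.cast_zero, zero_mul]; rfl
    | succ t ih =>
      have h1 : (xa ((t : ZMod (2 * m)) * l) : QuaternionGroup m)
          = xa 0 * a ((t : ZMod (2 * m)) * l) := by
        rw [xa_mul_a, zero_add]
      rw [pow_succ', MulAut.mul_apply, ih, h1, map_mul, hl, hαa', xa_mul_a, Nat.cast_succ]
      congr 1
      ring
  have hl0 : l = 0 := by
    have := hitx (p ^ k)
    rw [hα] at this
    have h2 : (xa 0 : QuaternionGroup m) = xa (((p ^ k : ℕ) : ZMod (2 * m)) * l) := this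
    have h3 := xa.inj h2
    have hu : IsUnit (((p ^ k : ℕ) : ZMod (2 * m))) := (ZMod.isUnit_iff_coprime _ _).mpr hcop
    exact (hu.mul_right_eq_zero.mp h3.symm)
  subst hl0
  ext x
  cases x with
  | a i => rw [hαa']; rfl
  | xa i =>
    have h1 : (xa i : QuaternionGroup m) = xa 0 * a i := by rw [xa_mul_a, zero_add]
    rw [h1, map_mul, hl, hαa']
    rfl

/-- an automorphism of odd prime power order of a generalized quaternion group of order at
least `16` is trivial -/
theorem quat_mulAut_eq_one (n : ℕ) (hn : 2 ≤ n) (p : ℕ)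
    (hp : p.Prime) (hp2 : p ≠ 2) (k : ℕ) (α : MulAut (QuaternionGroup (2 ^ n)))
    (hα : α ^ p ^ k = 1) : α = 1 := by
  have hne : NeZero (2 ^ n) := ⟨by positivity⟩
  cases h : α (a 1) with
  | a j => exact quat_mulAut_eq_one_of_a (2 ^ n) n rfl p hp hp2 k α hα j h
  | xa j =>
    exfalso
    have h1 : orderOf (α (a 1)) = orderOf (a 1 : QuaternionGroup (2 ^ n)) :=
      MulEquiv.orderOf_eq α _
    rw [h, orderOf_xa, orderOf_a_one] at h1
    have h2 : 2 ^ 2 ≤ 2 ^ n := Nat.pow_le_pow_right (by norm_num) hn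
    omega

/-- an automorphism of `Q₈` of prime power order for a prime `p ≠ 2, 3` is trivial -/
theorem q8_mulAut_eq_one (p : ℕ) (hp : p.Prime) (hp2 : p ≠ 2) (hp3 : p ≠ 3) (k : ℕ)
    (α : MulAut (QuaternionGroup 2)) (hα : α ^ p ^ k = 1) : α = 1 := by
  have hc := Cfsg.Agent.S0688.card_aut_q8 ⊤ (Subgroup.mem_top _) (Subgroup.mem_top _)
  rw [Subgroup.card_top] at hc
  have h1 : orderOf α ∣ p ^ k := orderOf_dvd_of_pow_eq_one hα
  have h2 : orderOf α ∣ Nat.card (MulAut (QuaternionGroup 2)) := orderOf_dvd_natCard α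
  obtain ⟨i, -, hi⟩ := (Nat.dvd_prime_pow hp).mp h1
  rcases Nat.eq_zero_or_pos i with rfl | hipos
  · rw [pow_zero] at hi
    exact orderOf_eq_one_iff.mp hi
  · exfalso
    have h3 : p ∣ Nat.card (MulAut (QuaternionGroup 2)) := by
      refine dvd_trans ?_ h2
      rw [hi]
      exact dvd_pow_self p hipos.ne'
    have h24 : p ∣ 48 := by
      rcases hc with hc | hc | hc | hc | hc <;> rw [hc] at h3
      · exact h3.trans (by norm_num)
      · exact h3.trans (by norm_num)
      · exact h3.trans (by norm_num)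
      · exact h3.trans (by norm_num)
      · exact h3.trans (by norm_num)
    have h5 : (48 : ℕ) = 2 ^ 4 * 3 := by norm_num
    rw [h5] at h24
    rcases (Nat.Prime.dvd_mul hp).mp h24 with h | h
    · exact hp2 ((Nat.prime_dvd_prime_iff_eq hp Nat.prime_two).mp (hp.dvd_of_dvd_pow h))
    · exact hp3 ((Nat.prime_dvd_prime_iff_eq hp Nat.prime_three).mp h)

/-- [B2] -/
theorem centralizes_two_group_or {X : Type*} [Group X] [Finite X] (R : Subgroup X) [R.Normal]
    (hR : IsPGroup 2 R)
    (hcyc : ∀ A : Subgroup X, A ≤ R → IsMulCommutative A → IsCyclic A) (p : ℕ) [Fact p.Prime]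
    (hp : p ≠ 2) (g : X) (k : ℕ) (hg : g ^ p ^ k = 1) (hne : ¬ ∀ x ∈ R, g * x = x * g) :
    p = 3 ∧ Nat.card R = 8 ∧ ¬ IsMulCommutative R := by
  have hpp : p.Prime := Fact.out
  have h2p : Fact (Nat.Prime 2) := ⟨Nat.prime_two⟩
  set α : MulAut R := MulAut.conjNormal g with hαdef
  have hα : α ^ p ^ k = 1 := by rw [hαdef, ← map_pow, hg, map_one]
  have hα1 : α ≠ 1 := by
    intro h
    apply hne
    intro x hx
    have := congrArg (fun f : MulAut R => ((f ⟨x, hx⟩ : R) : X)) h
    simp only [hαdef, MulAut.conjNormal_apply, MulAut.one_apply] at this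
    calc g * x = (g * x * g⁻¹) * g := by group
      _ = x * g := by rw [this]
  have hcyc' : ∀ B : Subgroup R, IsMulCommutative B → IsCyclic B := by
    intro B hB
    have hA : IsMulCommutative (B.map R.subtype) := inferInstance
    have hle : B.map R.subtype ≤ R := Subgroup.map_subtype_le B
    have hc := hcyc _ hle hA
    let e := B.equivMapOfInjective R.subtype R.subtype_injective
    exact isCyclic_of_surjective e.symm e.symm.surjective
  have huniq := Cfsg.Agent.S0688.unique_order hcyc' 2 hR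
  rcases Cfsg.Agent.Lib.Helper51.cyclic_or_quaternion_of_uniqueOrderP 2 hR huniq with
    hc | ⟨-, n, ⟨e⟩⟩
  · exfalso
    obtain ⟨a, ha⟩ := hR.exists_card_eq
    exact hα1 (mulAut_eq_one_of_cyclic_two_group a ha p hpp hp k α hα)
  · set β : MulAut (QuaternionGroup (2 ^ n)) := MulAut.congr e α with hβ
    have hβpow : β ^ p ^ k = 1 := by rw [hβ, ← map_pow, hα, map_one]
    have hβ1 : β ≠ 1 := by
      intro h
      apply hα1
      apply (MulAut.congr e).injective
      rw [map_one]; exact h
    rcases n with _ | _ | n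
    · exfalso
      have hcy : IsCyclic (QuaternionGroup (2 ^ 0)) := quaternionGroup_one_isCyclic
      have hcard : Nat.card (QuaternionGroup (2 ^ 0)) = 2 ^ 2 := by
        rw [Nat.card_eq_fintype_card, QuaternionGroup.card]; norm_num
      exact hβ1 (mulAut_eq_one_of_cyclic_two_group 2 hcard p hpp hp k β hβpow)
    · refine ⟨?_, ?_, ?_⟩
      · by_contra h3
        exact hβ1 (q8_mulAut_eq_one p hpp hp h3 k β hβpow)
      · rw [Nat.card_congr e.toEquiv, Nat.card_eq_fintype_card, QuaternionGroup.card]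
        norm_num
      · intro hcomm
        have h1 : e.symm (a 1) * e.symm (xa 0) = e.symm (xa 0) * e.symm (a 1) :=
          hcomm.is_comm.comm _ _
        rw [← map_mul, ← map_mul] at h1
        have h2 := e.symm.injective h1
        revert h2
        decide
    · exfalso
      exact hβ1 (quat_mulAut_eq_one (n + 2) (by omega) p hpp hp k β hβpow)

end Cfsg.Agent.Lib.Helper46.S4840
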