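import Mathlib
import Cfsg.Prelude.Def_Transfer

set_option autoImplicit false

/-!
Module [T1] for S4840 (helper15, board #2898): a finite group with a normal `p'`-subgroup `D`
such that `Y ⧸ D` is abelian has a normal `p`-complement and abelian Sylow `p`-subgroups.
By helper46.
-/

namespace Cfsg.Agent.Lib.Helper46.S4840

open scoped commutatorElement

/-- A normal subgroup of order prime to `p` and `p`-power index is a normal `p`-complement. -/
theorem hasNormalPComplement_of_normal_hall' {G : Type*} [Group G] [Finite G] (p : ℕ)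
    [Fact p.Prime] (K : Subgroup G)
    [K.Normal] (hK : (Nat.card K).Coprime p) (j : ℕ) (hj : K.index = p ^ j) :
    Cfsg.HasNormalPComplement p G := by
  have hp : p.Prime := Fact.out
  obtain ⟨Q⟩ : Nonempty (Sylow p G) := inferInstance
  refine ⟨Q, K, inferInstance, ?_⟩
  have hcard : Nat.card K * p ^ j = Nat.card G := by rw [← hj]; exact K.card_mul_index
  have hQ : Nat.card (Q : Subgroup G) = p ^ j := by
    rw [Sylow.card_eq_multiplicity, ← hcard]
    congr 1
    rw [Nat.factorization_mul (Nat.card_pos.ne') (pow_pos hp.pos j).ne',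
      Nat.Prime.factorization_pow hp]
    simp only [Finsupp.coe_add, Pi.add_apply, Finsupp.single_eq_same]
    rw [Nat.factorization_eq_zero_of_not_dvd, zero_add]
    exact (Nat.Prime.coprime_iff_not_dvd hp).mp hK.symm
  apply Subgroup.isComplement'_of_coprime
  · rw [hQ]; exact hcard
  · rw [hQ]; exact Nat.Coprime.pow_right j hK

/-- [T1] -/
theorem npc_of_normal_coprime_abelian {Y : Type*} [Group Y] [Finite Y] (p : ℕ) [Fact p.Prime]
    (D : Subgroup Y) [D.Normal] (hD : (Nat.card D).Coprime p) (hab : commutator Y ≤ D) :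
    Cfsg.HasNormalPComplement p Y ∧ ∀ Q : Sylow p Y, IsMulCommutative (Q : Subgroup Y) := by
  have hp : p.Prime := Fact.out
  have hcm : ∀ x y : Y, ⁅x, y⁆ ∈ D := fun x y => by
    apply hab
    rw [commutator_def]
    exact Subgroup.commutator_mem_commutator (Subgroup.mem_top _) (Subgroup.mem_top _)
  refine ⟨?_, ?_⟩
  · have hcomm : ∀ a b : Y ⧸ D, Commute a b := by
      intro a b
      induction a using QuotientGroup.induction_on with | _ x => ?_
      induction b using QuotientGroup.induction_on with | _ y => ?_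
      show (x : Y ⧸ D) * y = y * x
      rw [← QuotientGroup.mk_mul, ← QuotientGroup.mk_mul, QuotientGroup.eq]
      have : (x * y)⁻¹ * (y * x) = ⁅y⁻¹, x⁻¹⁆ := by rw [commutatorElement_def]; group
      rw [this]
      exact hcm _ _
    set N := Nat.card (Y ⧸ D) with hN
    have hNpos : N ≠ 0 := Nat.card_pos.ne'
    set m := N / p ^ N.factorization p with hm
    set k := N.factorization p with hk
    have hkm : p ^ k * m = N := Nat.ordProj_mul_ordCompl_eq_self N p
    have hmcop : Nat.Coprime p m := Nat.coprime_ordCompl hp hNpos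
    let φ : (Y ⧸ D) →* (Y ⧸ D) :=
      { toFun := fun a => a ^ m
        map_one' := one_pow m
        map_mul' := fun a b => (hcomm a b).mul_pow m }
    have hφ : ∀ a, φ a = a ^ m := fun a => rfl
    let K : Subgroup Y := (φ.ker).comap (QuotientGroup.mk' D)
    have hKn : K.Normal := inferInstance
    have hmemK : ∀ y : Y, y ∈ K ↔ y ^ m ∈ D := by
      intro y
      show (QuotientGroup.mk' D y) ∈ φ.ker ↔ _
      rw [MonoidHom.mem_ker, hφ, ← map_pow, QuotientGroup.mk'_apply, QuotientGroup.eq_one_iff]
    have hKcop : (Nat.card K).Coprime p := by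
      rw [Nat.coprime_comm, Nat.Prime.coprime_iff_not_dvd hp]
      intro hdvd
      obtain ⟨y, hy⟩ := exists_prime_orderOf_dvd_card' p hdvd
      have hy' : orderOf (y : Y) = p := by rw [Subgroup.orderOf_coe, hy]
      have hyD : (y : Y) ^ m ∈ D := (hmemK _).mp y.2
      have ho : orderOf ((y : Y) ^ m) = p := by
        rw [Nat.Coprime.orderOf_pow (by rw [hy']; exact hmcop), hy']
      have h1 : orderOf (⟨(y : Y) ^ m, hyD⟩ : D) = p := by
        rw [← Subgroup.orderOf_coe]; exact ho
      have h2 : p ∣ Nat.card D := by rw [← h1]; exact orderOf_dvd_natCard _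
      exact (Nat.Prime.coprime_iff_not_dvd hp).mp hD.symm h2
    have hidx : ∃ j : ℕ, K.index = p ^ j := by
      have h1 : K.index = φ.ker.index :=
        Subgroup.index_comap_of_surjective _ (QuotientGroup.mk'_surjective D)
      rw [h1, Subgroup.index_ker]
      have hpg : IsPGroup p φ.range := by
        intro g
        obtain ⟨a, ha⟩ := g.2
        refine ⟨k, ?_⟩
        apply Subtype.ext
        rw [Subgroup.coe_pow, Subgroup.coe_one, ← ha, hφ, ← pow_mul, mul_comm, hkm]
        exact pow_card_eq_one'
      exact hpg.exists_card_eq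
    obtain ⟨j, hj⟩ := hidx
    exact hasNormalPComplement_of_normal_hall' p K hKcop j hj
  · intro Q
    refine ⟨⟨fun a b => ?_⟩⟩
    have hQm : ⁅(a : Y), (b : Y)⁆ ∈ (Q : Subgroup Y) := by
      rw [commutatorElement_def]
      exact (Q : Subgroup Y).mul_mem ((Q : Subgroup Y).mul_mem ((Q : Subgroup Y).mul_mem a.2 b.2)
        ((Q : Subgroup Y).inv_mem a.2)) ((Q : Subgroup Y).inv_mem b.2)
    have h1 : ⁅(a : Y), (b : Y)⁆ ∈ (Q : Subgroup Y) ⊓ D := ⟨hQm, hcm _ _⟩
    have hbot : (Q : Subgroup Y) ⊓ D = ⊥ := by
      rw [← disjoint_iff]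
      apply Subgroup.disjoint_of_coprime_natCard
      obtain ⟨n, hn⟩ := Q.2.exists_card_eq
      rw [hn]
      exact (Nat.Coprime.pow_right n hD).symm
    rw [hbot, Subgroup.mem_bot, commutatorElement_eq_one_iff_commute] at h1
    exact Subtype.ext h1.eq

end Cfsg.Agent.Lib.Helper46.S4840
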