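import Mathlib
import Cfsg.Agent.Lib.Helper85.SqfDefs
import Cfsg.Agent.Lib.Helper1.PCore
import Cfsg.Agent.Lib.Helper1.Fitting
import Cfsg.Agent.Lib.Helper84.SqfClass2P
import Cfsg.Agent.Lib.Helper84.SqfFDec
import Cfsg.Agent.Lib.Helper52.SqfInh

/-!
# Project SQF (S4130, helper85), module [CLASS2] (helper46): `F(G)` has class at most `2`, in the form taking
the statements of [CLASS2-P] (for the `p`-cores) and [FDEC] as hypotheses.
-/

set_option autoImplicit false

namespace Cfsg.Agent.Lib.Helper46.Sqf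

open Cfsg Cfsg.Agent.Lib.Helper85.Sqf Cfsg.Agent.Lib.Helper1

variable {G : Type*} [Group G]

/-- [CLASS2], from: commutators of elements of `O_p(G)` centralise `O_p(G)` ([CLASS2-P] + [INH-N]) and the elements of
`F(G)` act on `O_p(G)` as inner automorphisms ([FDEC]). -/
theorem upperCentralSeries_fitting_two_of [Finite G]
    (hcl : ∀ (p : ℕ) [Fact p.Prime], ∀ a ∈ pCore p G, ∀ b ∈ pCore p G, ∀ c ∈ pCore p G,
      (a * b * a⁻¹ * b⁻¹) * c = c * (a * b * a⁻¹ * b⁻¹))
    (hfd : ∀ (p : ℕ) [Fact p.Prime], ∀ k ∈ fittingSubgroup G,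
      ∃ a ∈ pCore p G, ∀ v ∈ pCore p G, k * v * k⁻¹ = a * v * a⁻¹) :
    Subgroup.upperCentralSeries ↥(fittingSubgroup G) 2 = ⊤ := by
  classical
  set F := fittingSubgroup G with hF
  -- every `p`-core lies in the image of the second centre
  have hP : ∀ p : Nat.Primes, pCore (p : ℕ) G ≤ (Subgroup.upperCentralSeries ↥F 2).map F.subtype := by
    intro p
    have : Fact (p : ℕ).Prime := ⟨p.2⟩
    have hPF : pCore (p : ℕ) G ≤ F := by
      rw [hF, fittingSubgroup_eq_iSup_pCore]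
      exact le_iSup (fun p : Nat.Primes => pCore (p : ℕ) G) p
    have hPn : (pCore (p : ℕ) G).Normal := pCore_normal _
    intro v hv
    refine ⟨⟨v, hPF hv⟩, ?_, rfl⟩
    rw [SetLike.mem_coe, Subgroup.mem_upperCentralSeries_succ_iff]
    intro k
    rw [Subgroup.upperCentralSeries_one, Subgroup.mem_center_iff]
    intro k'
    obtain ⟨a, ha, hak⟩ := hfd p k.1 k.2
    obtain ⟨a', ha', hak'⟩ := hfd p k'.1 k'.2
    apply Subtype.ext
    rw [commutatorElement_def]
    simp only [Subgroup.coe_mul, Subgroup.coe_inv]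
    -- the commutator is a commutator inside the `p`-core
    have hvi : v⁻¹ ∈ pCore (p : ℕ) G := inv_mem hv
    have e1 : v * k.1 * v⁻¹ * k.1⁻¹ = v * a * v⁻¹ * a⁻¹ := by
      have := hak v⁻¹ hvi
      calc v * k.1 * v⁻¹ * k.1⁻¹ = v * (k.1 * v⁻¹ * k.1⁻¹) := by group
        _ = v * (a * v⁻¹ * a⁻¹) := by rw [this]
        _ = v * a * v⁻¹ * a⁻¹ := by group
    rw [e1]
    set w := v * a * v⁻¹ * a⁻¹ with hw
    have hwP : w ∈ pCore (p : ℕ) G :=
      mul_mem (mul_mem (mul_mem hv ha) hvi) (inv_mem ha)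
    have hwc : ∀ c ∈ pCore (p : ℕ) G, w * c = c * w := fun c hc => hcl p v hv a ha c hc
    have h2 := hak' w hwP
    have h3 : a' * w * a'⁻¹ = w := by
      rw [← hwc a' ha']
      group
    rw [h3] at h2
    calc k'.1 * w = (k'.1 * w * k'.1⁻¹) * k'.1 := by group
      _ = w * k'.1 := by rw [h2]
  have hle : F ≤ (Subgroup.upperCentralSeries ↥F 2).map F.subtype := by
    conv_lhs => rw [hF, fittingSubgroup_eq_iSup_pCore]
    exact iSup_le hP
  rw [eq_top_iff]
  intro x _
  obtain ⟨z, hz, hzx⟩ := hle x.2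
  have : z = x := Subtype.ext hzx
  rw [← this]
  exact hz

/-- [CLASS2] -/
theorem upperCentralSeries_fitting_two [Finite G] (h : SqF G) :
    Subgroup.upperCentralSeries ↥(fittingSubgroup G) 2 = ⊤ := by
  apply upperCentralSeries_fitting_two_of
  · intro p _ a ha b hb c hc
    have hN : (pCore p G).Normal := pCore_normal p
    have hS : SqF ↥(pCore p G) := Cfsg.Agent.Lib.Helper52.Sqf.SqF.of_normal h (pCore p G)
    have hP : IsPGroup p ↥(pCore p G) := pCore_isPGroup p
    have := Cfsg.Agent.Lib.Helper84.Sqf.class_two_of_pGroup hS hP ⟨a, ha⟩ ⟨b, hb⟩ ⟨c, hc⟩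
    exact congrArg Subtype.val this
  · intro p _ k hk
    exact Cfsg.Agent.Lib.Helper84.Sqf.fitting_acts_inner p k hk

end Cfsg.Agent.Lib.Helper46.Sqf
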