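import Mathlib
import Cfsg.Agent.Lib.Helper85.SqfDefs
import Cfsg.Agent.Lib.Helper85.SqfAux
import Cfsg.Agent.Lib.Helper1.PCore
import Cfsg.Agent.Lib.Helper1.Fitting
import Cfsg.Agent.Lib.Helper52.SqfInh
import Cfsg.Agent.Lib.Helper21.OddTransLinearMul

/-!
# Project SQF (S4130, helper85), module [DER] (helper46): `|G'|` is squarefree, in the form taking the statements of
[SS], [IDX] and [DER-BASE] (over the universe `u`) as hypotheses.
-/

set_option autoImplicit false

universe u

namespace Cfsg.Agent.Lib.Helper46.Sqf

open Cfsg Cfsg.Agent.Lib.Helper85.Sqf Cfsg.Agent.Lib.Helper1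

/-- The order of the derived subgroup of `G` is the order of the derived subgroup of `G ⧸ N` times the order of
`N ⊓ G'`. -/
theorem h46_card_commutator_quotient {G : Type*} [Group G] [Finite G] (N : Subgroup G) [N.Normal] :
    Nat.card (commutator G) = Nat.card ↥(N.subgroupOf (commutator G)) * Nat.card (commutator (G ⧸ N)) := by
  set f := QuotientGroup.mk' N with hf
  have hmap : commutator (G ⧸ N) = (commutator G).map f := by
    rw [commutator_def, commutator_def, Subgroup.map_commutator, ← MonoidHom.range_eq_map,
      MonoidHom.range_eq_top_of_surjective f (QuotientGroup.mk'_surjective N)]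
  have h1 := Subgroup.card_mul_index (f.domRestrict (commutator G)).ker
  rw [Subgroup.index_ker, MonoidHom.domRestrict_range, MonoidHom.ker_domRestrict, QuotientGroup.ker_mk'] at h1
  rw [hmap, h1]

/-- [DER], from the statements of [SS], [IDX], [DER-BASE]. -/
theorem squarefree_card_commutator_of
    (hSS : ∀ (H : Type u) [Group H] [Finite H] [Group.IsSolvable H], SqF H → Cfsg.IsSupersolvable H)
    (hIDX : ∀ (H : Type u) [Group H] [Finite H], SqF H → commutator H ≤ fittingSubgroup H →
      Squarefree (fittingSubgroup H).index)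
    (hDB : ∀ (H : Type u) [Group H] [Finite H], SqF H → ∀ (p : ℕ) [Fact p.Prime],
      IsPGroup p (fittingSubgroup H) →
      Subgroup.centralizer (fittingSubgroup H : Set H) ≤ fittingSubgroup H →
      commutator H ≤ fittingSubgroup H → IsCyclic (H ⧸ fittingSubgroup H) →
      Nat.card (commutator H) ∣ p)
    {G : Type u} [Group G] [Finite G] [Group.IsSolvable G]
    (h : SqF G) : Squarefree (Nat.card (commutator G)) := by
  classical
  induction' hn : Nat.card G using Nat.strong_induction_on with n ih generalizing G
  rw [Nat.squarefree_iff_prime_squarefree]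
  intro p hp hpp
  have : Fact p.Prime := ⟨hp⟩
  by_cases hr : ∃ r : ℕ, r.Prime ∧ r ≠ p ∧ pCore r G ≠ ⊥
  · obtain ⟨r, hrp, hrne, hrb⟩ := hr
    have : Fact r.Prime := ⟨hrp⟩
    have hN : (pCore r G).Normal := Cfsg.Agent.Lib.Helper1.pCore_normal r
    have hQ : SqF (G ⧸ pCore r G) :=
      Cfsg.Agent.Lib.Helper52.Sqf.SqF.of_surjective h (QuotientGroup.mk' (pCore r G))
        (QuotientGroup.mk'_surjective _)
    have hlt : Nat.card (G ⧸ pCore r G) < n := by
      rw [← hn, ← Subgroup.index_eq_card, ← Subgroup.card_mul_index (pCore r G)]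
      have h1 : 1 < Nat.card ↥(pCore r G) := (pCore r G).one_lt_card_iff_ne_bot.mpr hrb
      have h2 : 0 < (pCore r G).index := Nat.pos_of_ne_zero (Subgroup.index_ne_zero_of_finite)
      nlinarith
    have hsq := ih _ hlt hQ rfl
    have hcard := h46_card_commutator_quotient (pCore r G)
    have hpg : IsPGroup r ↥((pCore r G).subgroupOf (commutator G)) := by
      have h0 : IsPGroup r ↥(pCore r G) := Cfsg.Agent.Lib.Helper1.pCore_isPGroup r
      exact h0.comap_subtype
    obtain ⟨k, hk⟩ := IsPGroup.iff_card.mp hpg
    rw [hcard, hk] at hpp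
    have hcop : (p * p).Coprime (r ^ k) := by
      have h0 : p.Coprime r := (Nat.coprime_primes hp hrp).mpr (Ne.symm hrne)
      exact Nat.Coprime.pow_right k (Nat.Coprime.mul_left h0 h0)
    have := hcop.dvd_of_dvd_mul_left hpp
    exact (Nat.squarefree_iff_prime_squarefree.mp hsq) p hp this
  · push Not at hr
    -- `F(G)` is a `p`-group
    have hFle : fittingSubgroup G ≤ pCore p G := by
      rw [fittingSubgroup_eq_iSup_pCore]
      apply iSup_le
      intro q
      by_cases hqp : (q : ℕ) = p
      · rw [hqp]
      · rw [hr q q.2 hqp]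
        exact bot_le
    have hF : IsPGroup p ↥(fittingSubgroup G) := (Cfsg.Agent.Lib.Helper1.pCore_isPGroup (G := G) p).to_le hFle
    have hss := hSS G h
    have hab := commutator_le_fitting_of_isSupersolvable hss
    have hsq := hIDX G h hab
    have hcyc := isCyclic_quotient_fitting_of hab hsq Cfsg.Agent.Lib.Helper1.fittingSubgroup_normal
    have hCF := Cfsg.Agent.Lib.Helper21.OddTransLinear.centralizer_fitting_le_of_isSolvable
      (inferInstance : Group.IsSolvable G)
    have hdvd := hDB G h p hF hCF hab hcyc
    have h1 := Nat.le_of_dvd hp.pos (hpp.trans hdvd)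
    have h2 := hp.two_le
    nlinarith

end Cfsg.Agent.Lib.Helper46.Sqf
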