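import Mathlib
import Cfsg.Agent.Lib.Helper85.SqfDefs
import Cfsg.Agent.Lib.Helper1.PCore
import Cfsg.Agent.Lib.Helper1.Fitting

/-!
# Project SQF (S4130, helper85), module [IDX] (helper46): `|G : F(G)|` is squarefree, in the form taking the
statement of [IDX-U] as a hypothesis.
-/

set_option autoImplicit false

namespace Cfsg.Agent.Lib.Helper46.Sqf

open Cfsg Cfsg.Agent.Lib.Helper85.Sqf Cfsg.Agent.Lib.Helper1

variable {G : Type*} [Group G]

/-- [IDX], from the statement of [IDX-U]. -/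
theorem squarefree_index_fitting_of [Finite G] (h : SqF G)
    (hU : ∀ (q : ℕ) [Fact q.Prime], ∃ u ∈ fittingSubgroup G, ∀ y : G,
      (∃ k : ℕ, orderOf y = q ^ k) → y * u = u * y → y ∈ fittingSubgroup G) :
    Squarefree (fittingSubgroup G).index := by
  classical
  rw [Nat.squarefree_iff_prime_squarefree]
  intro q hq hqq
  have : Fact q.Prime := ⟨hq⟩
  obtain ⟨u, -, hu⟩ := hU q
  set Cu : Subgroup G := Subgroup.centralizer ({u} : Set G) with hCu
  obtain ⟨R⟩ : Nonempty (Sylow q ↥Cu) := inferInstance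
  -- the Sylow subgroup lies in `F`
  have hRF : (R : Subgroup ↥Cu).map Cu.subtype ≤ fittingSubgroup G := by
    rintro _ ⟨r, hr, rfl⟩
    apply hu
    · obtain ⟨k, hk⟩ := (IsPGroup.iff_orderOf.mp R.2) ⟨r, hr⟩
      refine ⟨k, ?_⟩
      rw [← hk, Subgroup.orderOf_mk]
      exact (Subgroup.orderOf_coe r).symm ▸ rfl
    · have h0 : (r : G) ∈ Subgroup.centralizer ({u} : Set G) := r.2
      rw [Subgroup.mem_centralizer_iff] at h0
      exact (h0 u rfl).symm
  have hcardmap : Nat.card ↥((R : Subgroup ↥Cu).map Cu.subtype) = Nat.card ↥(R : Subgroup ↥Cu) :=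
    Subgroup.card_map_of_injective Cu.subtype_injective
  have h1 : Nat.card ↥(R : Subgroup ↥Cu) ∣ Nat.card ↥(fittingSubgroup G) := by
    rw [← hcardmap]
    exact Subgroup.card_dvd_of_le hRF
  -- counting
  have h2 : Nat.card ↥(fittingSubgroup G) * (fittingSubgroup G).index = Nat.card G :=
    Subgroup.card_mul_index _
  have h3 : Nat.card ↥Cu * Cu.index = Nat.card G := Subgroup.card_mul_index _
  have h4 : Nat.card ↥(R : Subgroup ↥Cu) * (R : Subgroup ↥Cu).index = Nat.card ↥Cu :=
    Subgroup.card_mul_index _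
  have h5 : ¬ q ∣ (R : Subgroup ↥Cu).index := R.not_dvd_index
  set a := Nat.card ↥(R : Subgroup ↥Cu) with ha
  set m := (R : Subgroup ↥Cu).index with hm
  have ha0 : 0 < a := Nat.card_pos
  have h6 : a * (q * q) ∣ a * (m * Cu.index) := by
    rw [← mul_assoc a m, h4, h3, ← h2]
    exact Nat.mul_dvd_mul h1 hqq
  have h7 : q * q ∣ m * Cu.index := (Nat.mul_dvd_mul_iff_left ha0).mp h6
  have hcop : (q * q).Coprime m := by
    have := (Nat.Prime.coprime_iff_not_dvd hq).mpr h5
    exact Nat.Coprime.mul_left this this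
  have h8 : q * q ∣ Cu.index := hcop.dvd_of_dvd_mul_left h7
  exact (Nat.squarefree_iff_prime_squarefree.mp (h u)) q hq h8

end Cfsg.Agent.Lib.Helper46.Sqf
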