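import Mathlib
import Cfsg.Agent.Lib.Helper85.SqfDefs
import Cfsg.Agent.Lib.Helper1.PCore
import Cfsg.Agent.Lib.Helper1.Fitting

/-!
# Project SQF (S4130, helper85), module [IDX-F] (helper46): a `q`-element centralising every `O_p(G)`, `p ≠ q`,
lies in the Fitting subgroup, when `G' ≤ F(G)`.
-/

set_option autoImplicit false

namespace Cfsg.Agent.Lib.Helper46.Sqf

open Cfsg Cfsg.Agent.Lib.Helper85.Sqf Cfsg.Agent.Lib.Helper1

variable {G : Type*} [Group G]

/-- A subgroup containing the commutator subgroup is normal. -/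
theorem h46_normal_of_commutator_le (N : Subgroup G) (h : commutator G ≤ N) : N.Normal := by
  constructor
  intro n hn g
  have h1 : g * n * g⁻¹ * n⁻¹ ∈ N := by
    apply h
    rw [commutator_def]
    have := Subgroup.commutator_mem_commutator (Subgroup.mem_top g) (Subgroup.mem_top n)
    rwa [commutatorElement_def] at this
  have h2 : g * n * g⁻¹ = (g * n * g⁻¹ * n⁻¹) * n := by group
  rw [h2]
  exact N.mul_mem h1 hn

/-- [IDX-F] -/
theorem mem_fitting_of_centralizes_pCores [Finite G]
    (hab : commutator G ≤ fittingSubgroup G) {q : ℕ} [Fact q.Prime] (x : G)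
    (hx : ∃ k : ℕ, orderOf x = q ^ k)
    (hc : ∀ p : ℕ, p.Prime → p ≠ q → ∀ v ∈ pCore p G, x * v = v * x) :
    x ∈ fittingSubgroup G := by
  classical
  have hq : q.Prime := Fact.out
  let B : Subgroup G := ⨆ p : {p : Nat.Primes // (p : ℕ) ≠ q}, pCore (p.1 : ℕ) G
  let A : Subgroup G := pCore q G ⊔ Subgroup.zpowers x
  have hFle : fittingSubgroup G ≤ A ⊔ B := by
    rw [fittingSubgroup_eq_iSup_pCore]
    apply iSup_le
    intro p
    by_cases hp : (p : ℕ) = q
    · rw [hp]
      exact le_sup_left.trans le_sup_left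
    · exact (le_iSup (fun p : {p : Nat.Primes // (p : ℕ) ≠ q} => pCore (p.1 : ℕ) G) ⟨p, hp⟩).trans
        le_sup_right
  have hBF : B ≤ fittingSubgroup G := by
    apply iSup_le
    intro p
    rw [fittingSubgroup_eq_iSup_pCore]
    exact le_iSup (fun p : Nat.Primes => pCore (p : ℕ) G) p.1
  -- `A` is a `q`-group
  have hA : IsPGroup q A := by
    obtain ⟨k, hk⟩ := hx
    have hN : (pCore q G).Normal := pCore_normal q
    have h1 := card_sup_dvd_mul_of_normal_left (pCore q G) (Subgroup.zpowers x)
    obtain ⟨a, ha⟩ := (IsPGroup.iff_card.mp (pCore_isPGroup (G := G) q))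
    rw [ha, Nat.card_zpowers, hk, ← pow_add] at h1
    obtain ⟨j, -, hj⟩ := (Nat.dvd_prime_pow hq).mp h1
    exact IsPGroup.of_card hj
  -- `A` and `B` commute
  have hAB : A ≤ Subgroup.centralizer (B : Set G) := by
    rw [Subgroup.le_centralizer_iff]
    apply iSup_le
    rintro ⟨p, hp⟩
    rw [← Subgroup.le_centralizer_iff]
    have : Fact (p : ℕ).Prime := ⟨p.2⟩
    apply sup_le
    · intro a ha
      rw [Subgroup.mem_centralizer_iff]
      intro b hb
      have hd := IsPGroup.disjoint_of_ne (p : ℕ) q hp (pCore (p : ℕ) G) (pCore q G)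
        (pCore_isPGroup _) (pCore_isPGroup _)
      exact Subgroup.commute_of_normal_of_disjoint _ _ (pCore_normal _) (pCore_normal _) hd b a hb ha
    · rw [Subgroup.zpowers_le, Subgroup.mem_centralizer_iff]
      intro b hb
      exact (hc p p.2 hp b hb).symm
  have hcomm : ∀ (a : ↥A) (b : ↥B), Commute (A.subtype a) (B.subtype b) := by
    intro a b
    have := (Subgroup.mem_centralizer_iff.mp (hAB a.2)) b.1 b.2
    exact this.symm
  -- `A ⊔ B` is nilpotent
  have hAn : Group.IsNilpotent ↥A := hA.isNilpotent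
  have hFn : Group.IsNilpotent ↥(fittingSubgroup G) := fittingSubgroup_isNilpotent
  have hBn : Group.IsNilpotent ↥B := by
    have : Group.IsNilpotent ↥(B.subgroupOf (fittingSubgroup G)) := inferInstance
    exact Group.nilpotent_of_mulEquiv (Subgroup.subgroupOfEquivOfLe hBF)
  let φ : ↥A × ↥B →* G := MonoidHom.noncommCoprod A.subtype B.subtype hcomm
  have hrange : φ.range = A ⊔ B := by
    rw [MonoidHom.noncommCoprod_range, Subgroup.range_subtype, Subgroup.range_subtype]
  have hNn : Group.IsNilpotent ↥(A ⊔ B) := by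
    rw [← hrange]
    exact Group.nilpotent_of_surjective φ.rangeRestrict φ.rangeRestrict_surjective
  have hNnormal : (A ⊔ B).Normal := h46_normal_of_commutator_le _ (hab.trans hFle)
  have hle := le_fittingSubgroup hNnormal hNn
  apply hle
  exact le_sup_left (a := A) (le_sup_right (a := pCore q G) (Subgroup.mem_zpowers x))

end Cfsg.Agent.Lib.Helper46.Sqf
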