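/-
helper46: project STEINBERG phase 3 (helper60), module ST3-[SCCERT]:
every root `s` of the seven tabulated data has a coweight `λ` with `⟨s, λ⟩ = 1` (Bezout on the column of the Cartan
table), except the four long roots of `B₂`, which have a certificate `TopCert`.
-/
import Cfsg.Agent.Lib.Helper60.St3Defs

set_option autoImplicit false

namespace Cfsg.Agent.Lib.Helper46.St3

open Cfsg.Lie Cfsg.Agent.Lib.Helper35.St Cfsg.Agent.Lib.Helper60.St3

/-- Table check: the Cartan integers `A_{p_i, a}`, `i < rank`, generate the unit ideal of `ℤ`, for every root `a`. -/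
def h46_scOK (D : ChevalleyDatum) : Bool :=
  (List.range D.nroots).all fun a =>
    (List.range D.rank).any fun i => (List.range D.rank).any fun j =>
      [(-2 : ℤ), -1, 0, 1, 2].any fun m => [(-2 : ℤ), -1, 0, 1, 2].any fun m' =>
        decide (m * D.cartan i a + m' * D.cartan j a = 1)

theorem h46_scOK_spec {D : ChevalleyDatum} (h : h46_scOK D = true) (a : ℕ) (ha : a < D.nroots) :
    ∃ i < D.rank, ∃ j < D.rank, ∃ m m' : ℤ, m * D.cartan i a + m' * D.cartan j a = 1 := by
  unfold h46_scOK at h
  rw [List.all_eq_true] at h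
  have h1 := h a (List.mem_range.2 ha)
  rw [List.any_eq_true] at h1
  obtain ⟨i, hi, h2⟩ := h1
  rw [List.any_eq_true] at h2
  obtain ⟨j, hj, h3⟩ := h2
  rw [List.any_eq_true] at h3
  obtain ⟨m, -, h4⟩ := h3
  rw [List.any_eq_true] at h4
  obtain ⟨m', -, h5⟩ := h4
  rw [decide_eq_true_eq] at h5
  exact ⟨i, List.mem_range.1 hi, j, List.mem_range.1 hj, m, m', h5⟩

theorem h46_sum_range (n : ℕ) (f : ℕ → ℤ) : ((List.range n).map f).sum = ∑ k ∈ Finset.range n, f k := by
  induction n with
  | zero => simp
  | succ n ih =>
    rw [List.range_succ, List.map_append, List.sum_append, ih, Finset.sum_range_succ]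
    simp

/-- The pairing with a coweight supported on (at most) two fundamental coweights. -/
theorem h46_pair_two (D : ChevalleyDatum) (i j : ℕ) (hi : i < D.rank) (hj : j < D.rank) (c c' : ℤ) (s : ℕ) :
    pair D (fun k => (if k = i then c else 0) + (if k = j then c' else 0)) s =
      c * D.cartan i s + c' * D.cartan j s := by
  unfold pair
  rw [h46_sum_range]
  have e : ∀ k ∈ Finset.range D.rank,
      ((if k = i then c else 0) + (if k = j then c' else 0)) * D.cartan k s =
        (if k = i then c * D.cartan k s else 0) + (if k = j then c' * D.cartan k s else 0) := by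
    intro k _
    by_cases h1 : k = i <;> by_cases h2 : k = j <;> simp [h1, h2, add_mul]
  rw [Finset.sum_congr rfl e, Finset.sum_add_distrib, Finset.sum_ite_eq', Finset.sum_ite_eq',
    if_pos (Finset.mem_range.2 hi), if_pos (Finset.mem_range.2 hj)]

theorem h46_scCert_of_ok {D : ChevalleyDatum} (h : h46_scOK D = true) : SCCert D := by
  intro s hs
  obtain ⟨i, hi, j, hj, m, m', hm⟩ := h46_scOK_spec h s hs
  exact Or.inl ⟨_, (h46_pair_two D i j hi hj m m' s).trans hm⟩

set_option maxRecDepth 1000000 in
theorem h46_scOK_G2 : h46_scOK chevG2 = true := by decide +kernel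

set_option maxRecDepth 1000000 in
theorem h46_scOK_D4 : h46_scOK chevD4 = true := by decide +kernel

set_option maxRecDepth 1000000 in
theorem h46_scOK_F4 : h46_scOK chevF4 = true := by decide +kernel

set_option maxRecDepth 1000000 in
theorem h46_scOK_E6 : h46_scOK chevE6 = true := by decide +kernel

set_option maxRecDepth 1000000 in
theorem h46_scOK_E7 : h46_scOK chevE7 = true := by decide +kernel

set_option maxRecDepth 1000000 in
theorem h46_scOK_E8 : h46_scOK chevE8 = true := by decide +kernel

/-! ### The datum `B₂` -/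

theorem h46_b2_pair (s : ℕ) (c : ℤ) (h : c * chevB2.cartan 1 s = 1) : ∃ m : ℕ → ℤ, pair chevB2 m s = 1 := by
  refine ⟨_, (h46_pair_two chevB2 1 1 (by decide) (by decide) c 0 s).trans ?_⟩
  rw [zero_mul, add_zero, h]

instance h46_decComPair (D : ChevalleyDatum) (a b : ℕ) : Decidable (ComPair D a b) := by
  unfold ComPair
  infer_instance

set_option maxRecDepth 100000 in
theorem h46_b2_top4 : TopCert chevB2 4 :=
  ⟨0, 6, [(2, -1, 1, 1)], [], 1, 2, by decide, by decide, by decide, by decide, by decide, by decide, by decide,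
    by decide, by decide⟩

set_option maxRecDepth 100000 in
theorem h46_b2_top7 : TopCert chevB2 7 :=
  ⟨4, 5, [(6, 1, 1, 1)], [], -1, 2, by decide, by decide, by decide, by decide, by decide, by decide, by decide,
    by decide, by decide⟩

set_option maxRecDepth 100000 in
theorem h46_b2_top3 : TopCert chevB2 3 :=
  ⟨7, 1, [(5, 1, 1, 1)], [], 1, 2, by decide, by decide, by decide, by decide, by decide, by decide, by decide,
    by decide, by decide⟩

set_option maxRecDepth 100000 in
theorem h46_b2_top0 : TopCert chevB2 0 :=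
  ⟨3, 2, [(1, -1, 1, 1)], [], -1, 2, by decide, by decide, by decide, by decide, by decide, by decide, by decide,
    by decide, by decide⟩

theorem h46_scCert_B2 : SCCert chevB2 := by
  intro s hs
  have hn : chevB2.nroots = 8 := by decide
  rw [hn] at hs
  interval_cases s
  · exact Or.inr h46_b2_top0
  · exact Or.inl (h46_b2_pair 1 (-1) (by decide))
  · exact Or.inl (h46_b2_pair 2 1 (by decide))
  · exact Or.inr h46_b2_top3
  · exact Or.inr h46_b2_top4
  · exact Or.inl (h46_b2_pair 5 (-1) (by decide))
  · exact Or.inl (h46_b2_pair 6 1 (by decide))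
  · exact Or.inr h46_b2_top7

theorem scCert_of_mem {D : ChevalleyDatum} (hD : D ∈ [chevG2, chevB2, chevD4, chevF4, chevE6, chevE7, chevE8]) :
    SCCert D := by
  simp only [List.mem_cons, List.not_mem_nil, or_false] at hD
  rcases hD with rfl | rfl | rfl | rfl | rfl | rfl | rfl
  · exact h46_scCert_of_ok h46_scOK_G2
  · exact h46_scCert_B2
  · exact h46_scCert_of_ok h46_scOK_D4
  · exact h46_scCert_of_ok h46_scOK_F4
  · exact h46_scCert_of_ok h46_scOK_E6
  · exact h46_scCert_of_ok h46_scOK_E7
  · exact h46_scCert_of_ok h46_scOK_E8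

end Cfsg.Agent.Lib.Helper46.St3
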