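/-
helper46: project S2244 (helper5), module S2244-[T3-B2]:
in the Chevalley group of type `B₂` over a finite field with more than two elements, every non-fundamental positive
root element outside `Φ_J` lies in `⁅U_J, U⁆`.
-/
import Cfsg.Agent.Lib.Helper18.Bruhat1
import Cfsg.Agent.S1045
import Cfsg.Agent.S1025
import Mathlib

set_option autoImplicit false

namespace Cfsg.Agent.Lib.Helper46.WC

open Cfsg.Lie Cfsg.Agent.Lib.Helper18
open scoped commutatorElement

universe u

variable {F : Type u} [Field F] {D : ChevalleyDatum}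

/-- A finite field with `card ≠ 2` has an element different from `0` and `1`. -/
theorem h46_exists_ne_zero_one [Fintype F] (h2 : Fintype.card F ≠ 2) : ∃ l : F, l ≠ 0 ∧ l ≠ 1 := by
  classical
  by_contra hcon
  push Not at hcon
  apply h2
  have huniv : (Finset.univ : Finset F) = {0, 1} := by
    ext x
    simp only [Finset.mem_univ, Finset.mem_insert, Finset.mem_singleton, true_iff]
    by_cases hx : x = 0
    · exact Or.inl hx
    · exact Or.inr (hcon x hx)
  rw [← Finset.card_univ, huniv, Finset.card_pair zero_ne_one]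

section B2

variable (hD : chevB2 ∈ [chevG2, chevB2, chevD4, chevF4, chevE6, chevE7, chevE8])

/-- The group-level commutator formula for the two fundamental roots of `B₂`. -/
theorem h46_b2_comm (t u : F) :
    (xG hD 5 u)⁻¹ * (xG hD 4 t)⁻¹ * xG hD 5 u * xG hD 4 t = xG hD 6 (-(t * u)) * xG hD 7 (t * u ^ 2) := by
  have hct : chevB2.commTerms 4 5 = [(6, 1, 1, 1), (7, -1, 1, 2)] := by decide
  have h := Cfsg.Agent.S1025.result (F := F) chevB2 hD 4 5 (by decide) (by decide) (by decide) (by decide) t u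
  have hw : chevB2.commWord F 4 5 t u = [(6, -(t * u)), (7, t * u ^ 2)] := by
    unfold ChevalleyDatum.commWord
    rw [hct]
    simp only [List.map_cons, List.map_nil, Int.cast_one, Int.cast_neg, pow_one]
    refine congrArg₂ _ (Prod.ext rfl ?_) (congrArg₂ _ (Prod.ext rfl ?_) rfl)
    · show (1 : F) * -t * u = -(t * u)
      ring
    · show (-1 : F) * -t * u ^ 2 = t * u ^ 2
      ring
  have hg : xG hD 5 u * xG hD 4 t = xG hD 4 t * xG hD 5 u * (xG hD 6 (-(t * u)) * xG hD 7 (t * u ^ 2)) := by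
    apply Units.ext
    rw [Units.val_mul, Units.val_mul, Units.val_mul, Units.val_mul, coe_xG, coe_xG, coe_xG, coe_xG, h, hw]
    unfold ChevalleyDatum.wordMat
    simp only [List.map_cons, List.map_nil, List.prod_cons, List.prod_nil, mul_one]
  calc (xG hD 5 u)⁻¹ * (xG hD 4 t)⁻¹ * xG hD 5 u * xG hD 4 t
      = (xG hD 5 u)⁻¹ * (xG hD 4 t)⁻¹ * (xG hD 5 u * xG hD 4 t) := by group
    _ = xG hD 6 (-(t * u)) * xG hD 7 (t * u ^ 2) := by rw [hg]; group

/-- The two non-fundamental positive root subgroups of `B₂` commute. -/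
theorem h46_b2_comm67 (t u : F) : xG hD 7 u * xG hD 6 t = xG hD 6 t * xG hD 7 u := by
  have hct : chevB2.commTerms 6 7 = [] := by decide
  have h := Cfsg.Agent.S1025.result (F := F) chevB2 hD 6 7 (by decide) (by decide) (by decide) (by decide) t u
  have hw : chevB2.commWord F 6 7 t u = [] := by
    unfold ChevalleyDatum.commWord
    rw [hct]
    rfl
  apply Units.ext
  rw [Units.val_mul, Units.val_mul, coe_xG, coe_xG, h, hw]
  unfold ChevalleyDatum.wordMat
  simp only [List.map_nil, List.prod_nil, mul_one]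

end B2

theorem comm_T3_B2 [Fintype F] (hD : D ∈ [chevG2, chevB2, chevD4, chevF4, chevE6, chevE7, chevE8])
    (hB2 : D = chevB2) (h2 : Fintype.card F ≠ 2)
    (J : Set ℕ) (r : ℕ) (hr : D.IsPosRoot r) (hJ : ¬ D.InRootSub J r)
    (hns : ∀ i < D.rank, r ≠ D.simple i) (t : F) :
    xG hD r t ∈ ⁅D.unipotentRadical F J, D.posUnipotent F⁆ := by
  subst hB2
  -- the root `r` is `6` or `7`
  have hr' := (isPosRoot_iff hD r).mp hr
  have hn : chevB2.nroots = 8 := by decide
  have hrk : chevB2.rank = 2 := by decide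
  have hs0 : chevB2.simple 0 = 5 := by decide
  have hs1 : chevB2.simple 1 = 4 := by decide
  have h5 := hns 0 (by rw [hrk]; omega)
  have h4 := hns 1 (by rw [hrk]; omega)
  rw [hs0] at h5
  rw [hs1] at h4
  rw [hn] at hr'
  have hr67 : r = 6 ∨ r = 7 := by omega
  -- one of the two fundamental root subgroups lies in `U_J`
  have hex : ∃ i, i < 2 ∧ i ∉ J := by
    by_contra hcon
    push Not at hcon
    apply hJ
    refine ⟨by rw [hn]; omega, ?_⟩
    intro i hi hiJ
    rw [hrk] at hi
    exact absurd (hcon i hi) hiJ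
  -- the basic commutators lie in `⁅U_J, U⁆`
  have hpos4 : chevB2.IsPosRoot 4 := by decide
  have hpos5 : chevB2.IsPosRoot 5 := by decide
  have hU : ∀ (s : ℕ) (v : F), chevB2.IsPosRoot s → xG hD s v ∈ chevB2.posUnipotent F :=
    fun s v hs => Subgroup.subset_closure ⟨s, v, hs, rfl⟩
  have hc : ∀ a b : F, xG hD 6 (-(a * b)) * xG hD 7 (a * b ^ 2) ∈
      ⁅chevB2.unipotentRadical F J, chevB2.posUnipotent F⁆ := by
    intro a b
    rw [← h46_b2_comm hD a b]
    have e : (xG hD 5 b)⁻¹ * (xG hD 4 a)⁻¹ * xG hD 5 b * xG hD 4 a = ⁅(xG hD 5 b)⁻¹, (xG hD 4 a)⁻¹⁆ := by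
      rw [commutatorElement_def, inv_inv, inv_inv]
    rw [e]
    obtain ⟨i, hi, hiJ⟩ := hex
    have hi01 : i = 0 ∨ i = 1 := by omega
    rcases hi01 with rfl | rfl
    · -- `x_5 ∈ U_J`
      have hnot : ¬ chevB2.InRootSub J 5 := by
        rintro ⟨-, h⟩
        have := h 0 (by rw [hrk]; omega) hiJ
        revert this
        decide
      have hmem : xG hD 5 b ∈ chevB2.unipotentRadical F J :=
        Subgroup.subset_closure ⟨5, b, hpos5, hnot, rfl⟩
      exact Subgroup.commutator_mem_commutator (inv_mem hmem) (inv_mem (hU 4 a hpos4))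
    · -- `x_4 ∈ U_J`
      have hnot : ¬ chevB2.InRootSub J 4 := by
        rintro ⟨-, h⟩
        have := h 1 (by rw [hrk]; omega) hiJ
        revert this
        decide
      have hmem : xG hD 4 a ∈ chevB2.unipotentRadical F J :=
        Subgroup.subset_closure ⟨4, a, hpos4, hnot, rfl⟩
      rw [Subgroup.commutator_comm]
      exact Subgroup.commutator_mem_commutator (inv_mem (hU 5 b hpos5)) (inv_mem hmem)
  -- all of `X_7`
  obtain ⟨l, hl0, hl1⟩ := h46_exists_ne_zero_one h2
  have h7 : ∀ s : F, xG hD 7 s ∈ ⁅chevB2.unipotentRadical F J, chevB2.posUnipotent F⁆ := by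
    intro s
    have hl1' : (1 : F) - l ≠ 0 := sub_ne_zero.mpr (Ne.symm hl1)
    set a : F := s / (1 - l) with ha
    have m1 := hc a 1
    have m2 := hc (a * l⁻¹) l
    have m3 := mul_mem m1 (inv_mem m2)
    have e : xG hD 6 (-(a * 1)) * xG hD 7 (a * 1 ^ 2) * (xG hD 6 (-(a * l⁻¹ * l)) * xG hD 7 (a * l⁻¹ * l ^ 2))⁻¹
        = xG hD 7 s := by
      have e1 : a * l⁻¹ * l = a := by field_simp
      have e2 : a * l⁻¹ * l ^ 2 = a * l := by field_simp
      rw [e1, e2, mul_one, one_pow, mul_one, mul_inv_rev, xG_inv, xG_inv]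
      calc xG hD 6 (-a) * xG hD 7 a * (xG hD 7 (-(a * l)) * xG hD 6 (- -a))
          = xG hD 6 (-a) * (xG hD 7 a * xG hD 7 (-(a * l))) * xG hD 6 (- -a) := by group
        _ = xG hD 6 (-a) * (xG hD 7 (a + -(a * l)) * xG hD 6 (- -a)) := by rw [xG_mul, mul_assoc]
        _ = xG hD 6 (-a) * (xG hD 6 (- -a) * xG hD 7 (a + -(a * l))) := by rw [h46_b2_comm67]
        _ = (xG hD 6 (-a) * xG hD 6 (- -a)) * xG hD 7 (a + -(a * l)) := by group
        _ = xG hD 7 s := by
          rw [xG_mul, neg_neg, neg_add_cancel, xG_zero, one_mul]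
          congr 1
          rw [ha]
          field_simp
          ring
    rw [← e]
    exact m3
  rcases hr67 with rfl | rfl
  · -- `x_6(t) = c(-t, 1) * x_7(t)`
    have m1 := hc (-t) 1
    have m2 := mul_mem m1 (h7 t)
    have e : xG hD 6 (-(-t * 1)) * xG hD 7 (-t * 1 ^ 2) * xG hD 7 t = xG hD 6 t := by
      rw [mul_one, one_pow, mul_one, neg_neg, mul_assoc, xG_mul, neg_add_cancel, xG_zero, mul_one]
    rw [← e]
    exact m2
  · exact h7 t

end Cfsg.Agent.Lib.Helper46.WC
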